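import Mathlib.GroupTheory.Sylow
import Mathlib.GroupTheory.Subgroup.Centralizer

/-!
# Small Sylow arguments used by the technique statements

`exists_conj_common_sylow`: two `p`-subgroups of a subgroup `C` lie in one Sylow subgroup of the whole group after
conjugating one of them by an element of `C`.
-/

set_option autoImplicit false

namespace CfsgLib.Techniques

variable {G : Type*} [Group G] [Finite G] {p : ℕ} [Fact p.Prime]

/-- Two `p`-subgroups of `C` lie in a common Sylow subgroup of `G` up to conjugation by an element of `C`. -/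
theorem exists_conj_common_sylow {C A B : Subgroup G} (hA : IsPGroup p A) (hB : IsPGroup p B)
    (hAC : A ≤ C) (hBC : B ≤ C) :
    ∃ c ∈ C, ∃ R : Sylow p G, A ≤ (R : Subgroup G) ∧ B.map (MulAut.conj c).toMonoidHom ≤ (R : Subgroup G) := by
  obtain ⟨P, hP⟩ := (hA.comap_of_injective C.subtype C.subtype_injective).exists_le_sylow (P := A.comap C.subtype)
  obtain ⟨Q, hQ⟩ := (hB.comap_of_injective C.subtype C.subtype_injective).exists_le_sylow (P := B.comap C.subtype)
  obtain ⟨c, hc⟩ := MulAction.exists_smul_eq ↥C Q P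
  obtain ⟨R, hR⟩ := (P.2.map C.subtype).exists_le_sylow
  refine ⟨c, c.2, R, fun a ha => hR ⟨⟨a, hAC ha⟩, hP (show ((⟨a, hAC ha⟩ : C) : G) ∈ A from ha), rfl⟩, ?_⟩
  rintro _ ⟨b, hb, rfl⟩
  refine hR ⟨c * ⟨b, hBC hb⟩ * c⁻¹, ?_, by simp⟩
  rw [← hc]
  exact ⟨⟨b, hBC hb⟩, hQ (show ((⟨b, hBC hb⟩ : C) : G) ∈ B from hb), by simp⟩

omit [Finite G] [Fact p.Prime] in
/-- A `p`-element generates a `p`-group. -/
theorem isPGroup_zpowers_of_mem {S : Subgroup G} (hS : IsPGroup p S) {a : G} (ha : a ∈ S) :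
    IsPGroup p (Subgroup.zpowers a) :=
  hS.to_le (Subgroup.zpowers_le.2 ha)

end CfsgLib.Techniques
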