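import Cfsg.Agent.PLocal.Constraint
import Cfsg.Agent.Techniques.SylowTools

/-!
# Fusion and the subgroup `P ∩ O_{p',p}(G)`

With `D = O_{p'}(G)`, `H = P ∩ O_{p',p}(G)` and `N = N_G(H)`: `G = DN`, elements of `D` carrying a `p`-element of
`N` into `N` factor through centralizers, and `N` controls the fusion of elements of `P`.
-/

set_option autoImplicit false

namespace CfsgLib.Techniques

open Cfsg Subgroup

variable {G : Type*} [Group G] [Finite G] {p : ℕ} [Fact p.Prime]

/-- A Sylow subgroup meets a normal subgroup `T` in a subgroup of index prime to `p` in `T`. -/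
theorem not_dvd_relIndex_inf_of_normal (P : Sylow p G) (T : Subgroup G) [T.Normal] :
    ¬ p ∣ ((P : Subgroup G) ⊓ T).relIndex T := by
  intro h
  have h1 := PLocal.card_mul_relIndex (A := (P : Subgroup G) ⊓ T) (B := T) inf_le_right
  have h2 := PLocal.card_mul_relIndex (A := (P : Subgroup G) ⊓ T) (B := (P : Subgroup G)) inf_le_left
  have h3 := PLocal.card_mul_relIndex (A := (P : Subgroup G)) (B := (P : Subgroup G) ⊔ T) le_sup_left
  have h4 := PLocal.card_mul_relIndex (A := T) (B := (P : Subgroup G) ⊔ T) le_sup_right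
  rw [Subgroup.relIndex_sup_right] at h4
  rw [Subgroup.inf_relIndex_left] at h2
  set i := Nat.card ↥((P : Subgroup G) ⊓ T)
  set a := ((P : Subgroup G) ⊓ T).relIndex T
  set b := T.relIndex (P : Subgroup G)
  set c := (P : Subgroup G).relIndex ((P : Subgroup G) ⊔ T)
  have hb : b ≠ 0 := by
    intro hb; rw [hb, mul_zero] at h2; exact Nat.card_pos.ne' h2.symm
  have hkey : i * (b * c) = i * (b * a) := by
    calc i * (b * c) = (i * b) * c := by ring
      _ = Nat.card T * b := by rw [h2, h3, h4]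
      _ = i * (b * a) := by rw [← h1]; ring
  have hca : c = a := Nat.eq_of_mul_eq_mul_left (Nat.pos_of_ne_zero hb)
    (Nat.eq_of_mul_eq_mul_left Nat.card_pos hkey)
  exact P.not_dvd_index ((hca ▸ h : p ∣ c).trans (Subgroup.relIndex_dvd_index_of_le le_sup_left))

variable (P : Sylow p G)

theorem sylow_inf_pPrimePCore_sup :
    (P : Subgroup G) ⊓ pPrimePCore p G ⊔ pPrimeCore p G = pPrimePCore p G := by
  have hp : IsPGroup p (((P : Subgroup G) ⊓ pPrimePCore p G).subgroupOf (pPrimePCore p G)) :=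
    (P.2.to_le inf_le_left).comap_of_injective _ (subtype_injective _)
  have h := PLocal.sylow_pPrimePCore_sup (hp.toSylow (not_dvd_relIndex_inf_of_normal P _))
  simpa [subgroupOf_map_subtype, inf_assoc] using h

/-- The Frattini argument: `G = N_G(P ∩ O_{p',p}(G)) O_{p'}(G)`. -/
theorem normalizer_inf_pPrimePCore_sup :
    normalizer (((P : Subgroup G) ⊓ pPrimePCore p G : Subgroup G) : Set G) ⊔ pPrimeCore p G = ⊤ := by
  have hp : IsPGroup p (((P : Subgroup G) ⊓ pPrimePCore p G).subgroupOf (pPrimePCore p G)) :=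
    (P.2.to_le inf_le_left).comap_of_injective _ (subtype_injective _)
  have h := PLocal.normalizer_sylow_pPrimePCore_sup (hp.toSylow (not_dvd_relIndex_inf_of_normal P _))
  simpa [subgroupOf_map_subtype, inf_assoc] using h

omit [Finite G] [Fact p.Prime] in
/-- `P` normalizes `P ∩ O_{p',p}(G)`. -/
theorem sylow_le_normalizer_inf :
    (P : Subgroup G) ≤ normalizer (((P : Subgroup G) ⊓ pPrimePCore p G : Subgroup G) : Set G) := by
  intro x hx
  rw [mem_normalizer_iff]
  intro y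
  simp only [mem_inf]
  have hN := PLocal.pPrimePCoreNormal p G
  refine and_congr ?_ (hN.mem_comm_iff.symm.trans ?_).symm
  · rw [Subgroup.mul_mem_cancel_right _ (inv_mem hx), Subgroup.mul_mem_cancel_left _ hx]
  · constructor <;> intro h <;> simpa [mul_assoc] using h

omit [Fact p.Prime] in
/-- A subgroup of `D = O_{p'}(G)` normalizing `H = P ∩ O_{p',p}(G)` centralizes it. -/
theorem pPrimeCore_inf_normalizer_le :
    pPrimeCore p G ⊓ normalizer (((P : Subgroup G) ⊓ pPrimePCore p G : Subgroup G) : Set G) ≤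
      centralizer (((P : Subgroup G) ⊓ pPrimePCore p G : Subgroup G) : Set G) := by
  intro d hd y hy
  have h1 : y * d * y⁻¹ * d⁻¹ ∈ ((P : Subgroup G) ⊓ pPrimePCore p G) ⊓ pPrimeCore p G := by
    refine ⟨?_, ?_⟩
    · have := (mem_normalizer_iff.1 hd.2 y⁻¹).1 (inv_mem hy)
      rw [mul_assoc y, mul_assoc y]
      exact mul_mem hy this
    · exact mul_mem ((inferInstance : (pPrimeCore p G).Normal).conj_mem d hd.1 y) ((pPrimeCore p G).inv_mem hd.1)
  rw [PLocal.disjoint_of_isPGroup_of_coprime (P.2.to_le inf_le_left) (PLocal.coprime_card_pPrimeCore p G),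
    mem_bot] at h1
  calc y * d = y * d * y⁻¹ * d⁻¹ * (d * y) := by group
    _ = d * y := by rw [h1, one_mul]

/-- The factorization of elements of `O_{p'}(G)` carrying a `p`-element of `N_G(H)` into `N_G(H)`. -/
theorem exists_factor_centralizers (y : G)
    (hy : y ∈ normalizer (((P : Subgroup G) ⊓ pPrimePCore p G : Subgroup G) : Set G))
    (hyp : ∃ k : ℕ, orderOf y = p ^ k) (d : G) (hd : d ∈ pPrimeCore p G)
    (hdy : d⁻¹ * y * d ∈ normalizer (((P : Subgroup G) ⊓ pPrimePCore p G : Subgroup G) : Set G)) :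
    ∃ d₁ ∈ pPrimeCore p G ⊓ centralizer ({y} : Set G),
      ∃ d₂ ∈ pPrimeCore p G ⊓ centralizer (((P : Subgroup G) ⊓ pPrimePCore p G : Subgroup G) : Set G),
        d = d₁ * d₂ := by
  set H := (P : Subgroup G) ⊓ pPrimePCore p G
  set E := pPrimeCore p G ⊓ normalizer (H : Set G) with hE
  set y' := d⁻¹ * y * d with hy'
  have hEp : (Nat.card E).Coprime p :=
    PLocal.coprime_card_of_le inf_le_left (PLocal.coprime_card_pPrimeCore p G)
  have hnE : normalizer (H : Set G) ≤ normalizer (E : Set G) := by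
    intro x hx
    rw [mem_normalizer_iff]
    intro e
    have hD := (inferInstance : (pPrimeCore p G).Normal)
    simp only [hE, mem_inf]
    refine and_congr ⟨fun h => hD.conj_mem e h x, fun h => ?_⟩ ?_
    · simpa [mul_assoc] using hD.conj_mem _ h x⁻¹
    · rw [Subgroup.mul_mem_cancel_right _ (inv_mem hx), Subgroup.mul_mem_cancel_left _ hx]
  have hyE : zpowers y ≤ normalizer (E : Set G) := zpowers_le.2 (hnE hy)
  have hey : y⁻¹ * y' ∈ E := by
    refine ⟨?_, mul_mem ((normalizer (H : Set G)).inv_mem hy) hdy⟩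
    have := (inferInstance : (pPrimeCore p G).Normal).conj_mem d⁻¹ (inv_mem hd) y⁻¹
    rw [hy', ← mul_assoc, ← mul_assoc]
    exact mul_mem (by simpa using this) hd
  obtain ⟨k, hk⟩ := hyp
  have hyP : IsPGroup p (zpowers y) := IsPGroup.of_card (n := k) (by rw [Nat.card_zpowers, hk])
  have hy'P : IsPGroup p (zpowers y') := by
    have : y' = MulAut.conj d⁻¹ y := by simp [hy']
    rw [this, ← MonoidHom.coe_coe, ← MonoidHom.map_zpowers]
    exact hyP.map _
  have hy'C : zpowers y' ≤ zpowers y ⊔ E := by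
    rw [zpowers_le, show y' = y * (y⁻¹ * y') by group]
    exact mul_mem_sup (mem_zpowers y) hey
  obtain ⟨c, hc, R, hR1, hR2⟩ := exists_conj_common_sylow hy'P hyP hy'C le_sup_left
  obtain ⟨u, hu, e, he, rfl⟩ : ∃ u ∈ zpowers y, ∃ e ∈ E, c = u * e :=
    by
      rw [← SetLike.mem_coe, Subgroup.coe_mul_of_left_le_normalizer_right _ _ hyE] at hc
      obtain ⟨u, hu, e, he, h⟩ := hc
      exact ⟨u, hu, e, he, h.symm⟩
  -- both `y'` and the conjugate of `y` lie in one Sylow subgroup and agree modulo `E`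
  have hzy : (u * e) * y * (u * e)⁻¹ ∈ (R : Subgroup G) :=
    hR2 ⟨y, mem_zpowers y, rfl⟩
  have hdiff : (u * e) * y * (u * e)⁻¹ * y'⁻¹ ∈ E := by
    obtain ⟨z, rfl⟩ := mem_zpowers_iff.1 hu
    have hyz : y ^ z ∈ normalizer (E : Set G) := hyE (zpow_mem (mem_zpowers y) z)
    have h1 : e * y * e⁻¹ * y⁻¹ ∈ E := by
      rw [mul_assoc e, mul_assoc e]
      exact mul_mem he ((mem_normalizer_iff.1 (hnE hy) _).1 (inv_mem he))
    have h2 : y ^ z * (e * y * e⁻¹ * y⁻¹) * (y ^ z)⁻¹ ∈ E := (mem_normalizer_iff.1 hyz _).1 h1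
    have h3 : y * (y⁻¹ * y')⁻¹ * y⁻¹ ∈ E := (mem_normalizer_iff.1 (hnE hy) _).1 (inv_mem hey)
    have : (y ^ z * e) * y * (y ^ z * e)⁻¹ * y'⁻¹ =
        (y ^ z * (e * y * e⁻¹ * y⁻¹) * (y ^ z)⁻¹) * (y * (y⁻¹ * y')⁻¹ * y⁻¹) := by group
    rw [this]
    exact mul_mem h2 h3
  have heq : (u * e) * y * (u * e)⁻¹ = y' := by
    have h1 : (u * e) * y * (u * e)⁻¹ * y'⁻¹ ∈ (R : Subgroup G) ⊓ E :=
      ⟨mul_mem hzy ((R : Subgroup G).inv_mem (hR1 (mem_zpowers y'))) , hdiff⟩
    rw [PLocal.disjoint_of_isPGroup_of_coprime R.2 hEp, mem_bot, mul_inv_eq_one] at h1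
    exact h1
  -- `c = u e = e' u` with `e' ∈ E`, and `u` commutes with `y`
  set e' := u * e * u⁻¹ with he'
  have he'E : e' ∈ E := (mem_normalizer_iff.1 (hyE hu) _).1 he
  have heq' : e' * y * e'⁻¹ = y' := by
    obtain ⟨z, rfl⟩ := mem_zpowers_iff.1 hu
    rw [← heq, he']
    group
  have hcom : (d * e') * y = y * (d * e') := by
    calc (d * e') * y = d * (e' * y * e'⁻¹) * e' := by group
      _ = y * (d * e') := by rw [heq', hy']; group
  exact ⟨d * e', ⟨mul_mem hd he'E.1, mem_centralizer_singleton_iff.2 hcom⟩, e'⁻¹,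
    ⟨(pPrimeCore p G).inv_mem he'E.1, pPrimeCore_inf_normalizer_le P (E.inv_mem he'E)⟩, by group⟩

/-- Elements of `P` conjugate in `G` are conjugate in `N_G(P ∩ O_{p',p}(G))`. -/
theorem exists_normalizer_inf_conj (x g : G) (hx : x ∈ (P : Subgroup G))
    (hg : g * x * g⁻¹ ∈ (P : Subgroup G)) :
    ∃ n ∈ normalizer (((P : Subgroup G) ⊓ pPrimePCore p G : Subgroup G) : Set G),
      n * x * n⁻¹ = g * x * g⁻¹ := by
  set N := normalizer (((P : Subgroup G) ⊓ pPrimePCore p G : Subgroup G) : Set G) with hN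
  obtain ⟨n, hn, d, hd, hnd⟩ := mem_sup_of_normal_right.1
    (show g ∈ N ⊔ pPrimeCore p G by rw [hN, normalizer_inf_pPrimePCore_sup]; trivial)
  have hd' : n * d * n⁻¹ ∈ pPrimeCore p G := (inferInstance : (pPrimeCore p G).Normal).conj_mem d hd n
  have hg' : g = n * d * n⁻¹ * n := by rw [← hnd]; group
  have h1 : (n * d * n⁻¹)⁻¹ * (g * x * g⁻¹) * (n * d * n⁻¹) = n * x * n⁻¹ := by rw [hg']; group
  obtain ⟨k, hk⟩ := (P.2.to_le (zpowers_le.2 hg)).exists_card_eq
  obtain ⟨d₁, hd₁, d₂, hd₂, hd12⟩ := exists_factor_centralizers P _ (sylow_le_normalizer_inf P hg)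
    ⟨k, by rw [← hk, Nat.card_zpowers]⟩ _ hd'
    (by rw [h1]; exact mul_mem (mul_mem hn (sylow_le_normalizer_inf P hx)) (inv_mem hn))
  refine ⟨d₂ * n, mul_mem (centralizer_le_normalizer _ hd₂.2) hn, ?_⟩
  have h2 : d₁ * (g * x * g⁻¹) = g * x * g⁻¹ * d₁ := mem_centralizer_singleton_iff.1 hd₁.2
  calc d₂ * n * x * (d₂ * n)⁻¹ = d₂ * (n * x * n⁻¹) * d₂⁻¹ := by group
    _ = d₁⁻¹ * (g * x * g⁻¹) * d₁ := by rw [← h1, hd12]; group
    _ = g * x * g⁻¹ := by rw [mul_assoc, ← h2]; group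

end CfsgLib.Techniques
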