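import Cfsg.Agent.Techniques.StableQuotient
import Cfsg.Agent.ConjFunctor.Main
import Cfsg.Agent.OddOrder.ZJ.Main
import Cfsg.Agent.QdFree.Basic

/-!
# `Z(J)` controls strong fusion in `p`-stable groups, `p ≥ 5`
-/

set_option autoImplicit false

universe u

namespace CfsgLib.Techniques

open Cfsg Subgroup CfsgLib.ConjFunctor
open scoped commutatorElement

variable {p : ℕ} [hp : Fact p.Prime]

/-- Pull back membership in `O_p` of a quotient. -/
theorem mk_mem_pCore_of_comap {A B : Type*} [Group A] [Group B] (f : A →* B) {C : Subgroup A}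
    [C.Normal] {D : Subgroup B} [D.Normal] (h : D.comap f = C) {a : A}
    (ha : (QuotientGroup.mk (f a) : B ⧸ D) ∈ pCore p (B ⧸ D)) :
    (QuotientGroup.mk a : A ⧸ C) ∈ pCore p (A ⧸ C) := by
  set φ := QuotientGroup.map C D f h.ge with hφ
  have hinj : Function.Injective φ := by
    rw [← MonoidHom.ker_eq_bot_iff, eq_bot_iff]
    intro z hz
    obtain ⟨z, rfl⟩ := QuotientGroup.mk_surjective z
    rw [MonoidHom.mem_ker, hφ, QuotientGroup.map_mk, QuotientGroup.eq_one_iff] at hz
    exact (QuotientGroup.eq_one_iff _).mpr (h ▸ hz)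
  refine CfsgLib.PLocal.le_pCore (hN := (normal_of_characteristic _).comap φ)
    ((CfsgLib.PLocal.isPGroup_pCore p (B ⧸ D)).comap_of_injective φ hinj) ?_
  exact ha

/-- Push forward membership in `O_p` of a quotient. -/
theorem mk_mem_pCore_of_surjective {A B : Type*} [Group A] [Group B] (f : A →* B)
    (hf : Function.Surjective f) {C : Subgroup A} [C.Normal] {D : Subgroup B} [D.Normal]
    (h : C ≤ D.comap f) {a : A} (ha : (QuotientGroup.mk a : A ⧸ C) ∈ pCore p (A ⧸ C)) :
    (QuotientGroup.mk (f a) : B ⧸ D) ∈ pCore p (B ⧸ D) := by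
  have hs : Function.Surjective (QuotientGroup.map C D f h) := by
    intro z
    obtain ⟨z, rfl⟩ := QuotientGroup.mk_surjective z
    obtain ⟨y, rfl⟩ := hf z
    exact ⟨(y : A ⧸ C), QuotientGroup.map_mk ..⟩
  exact CfsgLib.PLocal.map_pCore_le_of_surjective hs ⟨_, ha, QuotientGroup.map_mk ..⟩

/-- `p`-stability passes to subgroups. -/
theorem stable_subgroup {X : Type*} [Group X] (hst : IsNormalizerPStable p X) (L : Subgroup X) :
    IsNormalizerPStable p L := by
  intro P hP g hg hq
  set P' := P.map L.subtype with hP'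
  have hg' : (g : X) ∈ normalizer (P' : Set X) := by
    rw [mem_normalizer_iff]
    intro z
    constructor
    · rintro ⟨w, hw, rfl⟩
      exact ⟨g * w * g⁻¹, (mem_normalizer_iff.mp hg w).mp hw, rfl⟩
    · rintro ⟨w, hw, hwz⟩
      refine ⟨g⁻¹ * w * g, (mem_normalizer_iff''.mp hg w).mp hw, ?_⟩
      simp only [map_mul, map_inv, hwz]
      simp [mul_assoc]
  have hq' : ⁅⁅P', Subgroup.zpowers (g : X)⁆, Subgroup.zpowers (g : X)⁆ = ⊥ := by
    have := congrArg (Subgroup.map L.subtype) hq
    rwa [map_commutator, map_commutator, MonoidHom.map_zpowers, Subgroup.map_bot] at this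
  let f : normalizer (P : Set L) →* normalizer (P' : Set X) :=
    { toFun := fun y => ⟨((y : L) : X), Subgroup.le_normalizer_map L.subtype
        (mem_map_of_mem L.subtype y.2)⟩
      map_one' := rfl
      map_mul' := fun _ _ => rfl }
  refine mk_mem_pCore_of_comap f (D := (centralizer (P' : Set X)).subgroupOf (normalizer (P' : Set X)))
    ?_ (hst P' (hP.map _) g hg' hq')
  ext y
  simp only [mem_comap, mem_subgroupOf, mem_centralizer_iff]
  constructor
  · intro h w hw
    exact Subtype.ext (h _ (mem_map_of_mem L.subtype hw))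
  · rintro h _ ⟨w, hw, rfl⟩
    exact congrArg Subtype.val (h w hw)

variable {X : Type*} [Group X] [Finite X]

/-- `p`-stability passes to quotients by normal `p'`-subgroups. -/
theorem stable_quotient_coprime (hst : IsNormalizerPStable p X) (K : Subgroup X) [K.Normal]
    (hK : (Nat.card K).Coprime p) : IsNormalizerPStable p (X ⧸ K) := by
  intro Pb hPb gb hgb hq
  set π := QuotientGroup.mk' K with hπ
  obtain ⟨P, hP, hPmap⟩ := CfsgLib.QdFree.exists_pGroup_map_eq π (QuotientGroup.mk'_surjective K) Pb hPb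
  subst hPmap
  have hN := CfsgLib.PLocal.normalizer_map_mk'_eq K hK hP
  obtain ⟨g, hg, hgg⟩ : gb ∈ (normalizer (P : Set X)).map π := hN ▸ hgb
  subst hgg
  have hq' : ⁅⁅P, Subgroup.zpowers g⁆, Subgroup.zpowers g⁆ = ⊥ := by
    rw [CfsgLib.PLocal.quadratic_iff hg]
    intro v hv
    have h1 : ⁅v, g⁆ ∈ P := by
      have := P.mul_mem hv ((mem_normalizer_iff.mp hg _).mp (P.inv_mem hv))
      simpa [commutatorElement_def, mul_assoc] using this
    have h2 : ⁅⁅v, g⁆, g⁆ ∈ P ⊓ K := by
      refine ⟨?_, ?_⟩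
      · have := P.mul_mem h1 ((mem_normalizer_iff.mp hg _).mp (P.inv_mem h1))
        simpa [commutatorElement_def, mul_assoc] using this
      · have h3 := (CfsgLib.PLocal.quadratic_iff hgb).mp hq (π v) (mem_map_of_mem π hv)
        rw [← map_commutatorElement, ← commutatorElement_eq_one_iff_commute,
          ← map_commutatorElement] at h3
        exact (QuotientGroup.eq_one_iff _).mp h3
    rw [CfsgLib.PLocal.disjoint_of_isPGroup_of_coprime hP hK, mem_bot,
      commutatorElement_eq_one_iff_commute] at h2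
    exact h2
  let f : normalizer (P : Set X) →* normalizer ((P.map π : Subgroup (X ⧸ K)) : Set (X ⧸ K)) :=
    { toFun := fun y => ⟨π y, Subgroup.le_normalizer_map π (mem_map_of_mem π y.2)⟩
      map_one' := Subtype.ext (map_one π)
      map_mul' := fun a b => Subtype.ext (map_mul π _ _) }
  refine mk_mem_pCore_of_surjective f ?_ ?_ (hst P hP g hg hq')
  · rintro ⟨z, hz⟩
    obtain ⟨y, hy, rfl⟩ : z ∈ (normalizer (P : Set X)).map π := hN ▸ hz
    exact ⟨⟨y, hy⟩, rfl⟩
  · intro y hy
    rw [mem_comap, mem_subgroupOf, mem_centralizer_iff]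
    rintro _ ⟨w, hw, rfl⟩
    show π w * π y = π y * π w
    rw [← map_mul, ← map_mul, mem_centralizer_iff.mp (mem_subgroupOf.mp hy) w hw]

/-- `p`-stability, `p ≥ 5`, passes to the quotient by a normal `p`-subgroup centralised by all
`p'`-elements. -/
theorem stable_quotient_centralised (hp3 : 3 < p) (hst : IsNormalizerPStable p X) (Q : Subgroup X)
    [Q.Normal] (hQp : IsPGroup p Q)
    (hQ : ∀ k : X, (orderOf k).Coprime p → ∀ q ∈ Q, k * q = q * k) :
    IsNormalizerPStable p (X ⧸ Q) := by
  intro Pb hPb gb hgb hq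
  set π := QuotientGroup.mk' Q with hπ
  set P := Pb.comap π with hP'
  have hP : IsPGroup p P :=
    hPb.comap_of_ker_isPGroup π (by rw [hπ, QuotientGroup.ker_mk']; exact hQp)
  have hQP : Q ≤ P := fun q hq => by
    rw [hP', mem_comap, hπ, QuotientGroup.mk'_apply, (QuotientGroup.eq_one_iff q).mpr hq]
    exact Pb.one_mem
  obtain ⟨g, rfl⟩ := QuotientGroup.mk'_surjective Q gb
  have hg : g ∈ normalizer (P : Set X) := le_normalizer_comap π hgb
  have hgq : ∀ w ∈ P, ⁅⁅w, g⁆, g⁆ ∈ Q := by
    intro w hw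
    have h3 := (CfsgLib.PLocal.quadratic_iff hgb).mp hq (π w) hw
    rw [← map_commutatorElement, ← commutatorElement_eq_one_iff_commute,
      ← map_commutatorElement] at h3
    exact (QuotientGroup.eq_one_iff _).mp h3
  have hmem := mem_pCore_of_quadratic_mod hp3 hst hP hQ hg hgq
  let f : normalizer (P : Set X) →* normalizer ((Pb : Subgroup (X ⧸ Q)) : Set (X ⧸ Q)) :=
    { toFun := fun y => ⟨π y, by
        have := Subgroup.le_normalizer_map π (mem_map_of_mem π y.2)
        rwa [map_comap_eq_self_of_surjective (QuotientGroup.mk'_surjective Q)] at this⟩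
      map_one' := Subtype.ext (map_one π)
      map_mul' := fun a b => Subtype.ext (map_mul π _ _) }
  refine mk_mem_pCore_of_surjective f ?_ ?_ hmem
  · rintro ⟨z, hz⟩
    obtain ⟨y, rfl⟩ := QuotientGroup.mk'_surjective Q z
    exact ⟨⟨y, le_normalizer_comap π hz⟩, rfl⟩
  · intro y hy
    rw [mem_comap, mem_subgroupOf, mem_centralizer_iff]
    intro z hz
    obtain ⟨w, rfl⟩ := QuotientGroup.mk'_surjective Q z
    show π w * π y = π y * π w
    rw [← map_mul, ← map_mul, mem_centralizer_iff.mp (mem_subgroupOf.mp hy) w hz]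

/-- The normalizer form of `p`-stability gives stability on normal subgroups. -/
theorem quadraticStable_of_stable (hst : IsNormalizerPStable p X) :
    CfsgLib.OddOrder.ZJ.QuadraticStable p X := by
  intro B _ hB a ha
  have hN : normalizer (B : Set X) = ⊤ := normalizer_eq_top B
  have hmem : a ∈ normalizer (B : Set X) := hN ▸ mem_top a
  let f : X →* normalizer (B : Set X) :=
    { toFun := fun y => ⟨y, hN ▸ mem_top y⟩
      map_one' := rfl
      map_mul' := fun _ _ => rfl }
  exact mk_mem_pCore_of_comap f (D := (centralizer (B : Set X)).subgroupOf (normalizer (B : Set X)))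
    (by ext y; rfl) (hst B hB a hmem ((CfsgLib.PLocal.quadratic_iff hmem).mpr ha))

/-- The functor `Q ↦ Z(J(Q))`. -/
def zjFun (Q : Type u) [Group Q] : Subgroup Q := centerThompsonAOf (⊤ : Subgroup Q)

theorem inducedFunctor_zjFun {G : Type u} [Group G] (P : Subgroup G) :
    inducedFunctor (G := G) @zjFun P = centerThompsonAOf P := by
  rw [inducedFunctor, zjFun, CfsgLib.PLocal.map_centerThompsonAOf P.subtype_injective,
    ← MonoidHom.range_eq_map, range_subtype]

theorem isCharPFunctor_zjFun : IsCharPFunctor.{u} p @zjFun := by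
  refine ⟨fun Q _ _ hQ _ => ?_, fun Q R _ _ _ _ φ => ?_⟩
  · set J := thompsonSubgroupAOf (⊤ : Subgroup Q) with hJ
    intro h
    have hJ1 : J ≠ ⊥ := by
      intro hb
      obtain ⟨A, hA⟩ := CfsgLib.PLocal.maxAbIn_nonempty (⊤ : Subgroup Q)
      obtain ⟨x, hx⟩ := exists_ne (1 : Q)
      have hle := le_bot_iff.mp ((CfsgLib.PLocal.le_thompsonSubgroupAOf hA).trans (show thompsonSubgroupAOf (⊤ : Subgroup Q) ≤ ⊥ from (hJ ▸ hb).le))
      have hcard := hA.2.2 (Subgroup.zpowers x) le_top (CfsgLib.PLocal.isMulCommutative_zpowers x)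
      rw [hle, Subgroup.card_bot, Nat.card_zpowers] at hcard
      exact hx (orderOf_eq_one_iff.mp (le_antisymm hcard (orderOf_pos x)))
    haveI : Nontrivial J := (nontrivial_iff_ne_bot J).mpr hJ1
    haveI : Nontrivial (center J) := (hQ.to_subgroup J).center_nontrivial
    obtain ⟨⟨z, hz⟩, hz1⟩ := exists_ne (1 : center J)
    apply hz1
    have hmem : (z : Q) ∈ zjFun Q := ⟨z.2, mem_centralizer_iff.mpr fun y hy =>
      congrArg Subtype.val (mem_center_iff.mp hz ⟨y, hy⟩)⟩
    have h' : zjFun Q = ⊥ := h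
    rw [h', mem_bot] at hmem
    exact Subtype.ext (Subtype.ext hmem)
  · show (zjFun Q).map φ.toMonoidHom = zjFun R
    rw [zjFun, CfsgLib.PLocal.map_centerThompsonAOf φ.injective,
      map_top_of_surjective φ.toMonoidHom φ.surjective, zjFun]

/-- In a finite `p`-stable group, `p ≥ 5`, `N(Z(J(S)))` controls strong fusion. -/
theorem zjFun_controls (hp3 : 3 < p) : ∀ (X : Type u) [Group X] [Finite X],
    IsNormalizerPStable p X →
      FamilyControlsStrongFusionIn p (indFam {@zjFun} X) ⊤ := by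
  suffices H : ∀ (n : ℕ) (X : Type u) [Group X] [Finite X], Nat.card X = n →
      IsNormalizerPStable p X →
        FamilyControlsStrongFusionIn p (indFam {@zjFun} X) ⊤ from
    fun X _ _ h => H _ X rfl h
  intro n
  induction n using Nat.strongRecOn with
  | ind n ih =>
  intro X _ _ hX hst
  set 𝓦 : Set (∀ (Q : Type u) [Group Q], Subgroup Q) := {@zjFun}
  have h𝓦 : ∀ W ∈ 𝓦, IsCharPFunctor.{u} p W := by
    intro W hW
    rw [Set.mem_singleton_iff] at hW
    subst hW
    exact isCharPFunctor_zjFun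
  have h𝓦X := isConjugacyFunctor_induced_image (G := X) h𝓦
  obtain ⟨S, -, hS⟩ := exists_isSylowIn_ge (A := (⊥ : Subgroup X)) (H := ⊤) (p := p) bot_le IsPGroup.of_bot
  refine familyControlsStrongFusionIn_iff.mpr ⟨S, hS, ?_⟩
  have hsub : ∀ L : Subgroup X, L ≠ ⊤ → FamilyControlsStrongFusionIn p (indFam 𝓦 ↥L) ⊤ :=
    fun L hL => ih _ (by
      have h1 := L.card_mul_index
      have h2 : L.index ≠ 1 := fun h => hL (index_eq_one.mp h)
      have h3 : 0 < Nat.card L := Nat.card_pos
      have h4 : L.index ≠ 0 := FiniteIndex.index_ne_zero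
      nlinarith [Nat.one_lt_iff_ne_zero_and_ne_one.mpr ⟨h4, h2⟩]) L rfl (stable_subgroup hst L)
  have hquot : ∀ (N : Subgroup X) [N.Normal], N ≠ ⊥ → IsNormalizerPStable p (X ⧸ N) →
      FamilyControlsStrongFusionIn p (indFam 𝓦 (X ⧸ N)) ⊤ := fun N _ hN h => ih _ (by
      have h1 := N.card_mul_index
      have h2 : Nat.card N ≠ 1 := fun h => hN (card_eq_one.mp h)
      have h3 : 0 < Nat.card N := Nat.card_pos
      have h4 : N.index ≠ 0 := FiniteIndex.index_ne_zero
      show N.index < n
      nlinarith [show 1 < Nat.card N by omega, Nat.pos_of_ne_zero h4]) (X ⧸ N) rfl h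
  by_cases hc : IsConstrained p X
  · intro A g _ hA hgA
    have hn := CfsgLib.OddOrder.ZJ.centerThompsonAOf_normal (by omega : p ≠ 2)
      (quadraticStable_of_stable hst) hc hS.toSylowTop
    refine Fus.single hA (show (⊤ : Subgroup X) ⊓
      Subgroup.normalizer (inducedFunctor (G := X) @zjFun S : Set X) ∈
        famIn (indFam 𝓦 X) ⊤ S from ⟨_, ⟨_, rfl, rfl⟩, rfl⟩) ?_ (cjSet_subset_iff.mp hgA)
    rw [inducedFunctor_zjFun, top_inf_eq,
      show centerThompsonAOf S = centerThompsonAOf (hS.toSylowTop : Subgroup X) from rfl,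
      normalizer_eq_top_iff.mpr hn]
    exact mem_top g
  have hprop : ∀ H : Subgroup X, H ≠ ⊤ → S ≤ H →
      FusControls (famIn (indFam 𝓦 X) ⊤ S) S H := fun H hH hSH =>
    (fusControls_of_subgroup h𝓦 (hS.of_le hSH le_top) (hsub H hH)).mono (famIn_le_top _ _ _)
  by_cases hQ : pCore p X = ⊥
  · refine familyControls_of_local hS h𝓦X fun T hT hne hext => ?_
    have hN : Subgroup.normalizer (T : Set X) ≠ ⊤ := fun h => hne (by
      have : T.Normal := normalizer_eq_top_iff.mp h
      exact le_bot_iff.mp (hQ ▸ CfsgLib.PLocal.le_pCore (hS.2.1.to_le hT)))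
    exact familyControlsStrongFusionIn_iff.mpr ⟨_, (extremal_iff hS.2.1).mp hext,
      fusControls_of_subgroup h𝓦 ((extremal_iff hS.2.1).mp hext) (hsub _ hN)⟩
  by_cases hK : pPrimeCore p X = ⊥
  swap
  · have hKc := CfsgLib.PLocal.coprime_card_pPrimeCore p X
    refine fusControls_of_quotient_disjoint hS (inf_pPrimeCore_eq_bot hS) (le_of_mem_famIn h𝓦 hS.2.1) ?_
    exact (fusControls_of_family (isConjugacyFunctor_induced_image h𝓦)
      (hquot _ hK (stable_quotient_coprime hst _ hKc))
      (isSylowIn_map hS _ (QuotientGroup.mk'_surjective _))).mono (nrm_map_mk'_le_map h𝓦 hKc hS.2.1)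
  have hD := normalizer_dSub_ne_top hS hK hc
  by_cases hCS : Subgroup.centralizer (pCore p X : Set X) ⊔ S = ⊤
  swap
  · refine (fusControls_pair hS).bind ?_
    rintro H (rfl | rfl)
    · exact hprop _ hCS le_sup_right
    · exact hprop _ hD le_normalizer_dSub
  have hcent : ∀ k : X, (orderOf k).Coprime p → ∀ q ∈ pCore p X, k * q = q * k := by
    intro k hk
    suffices hkC : k ∈ Subgroup.centralizer (pCore p X : Set X) from
      fun q hq => (Subgroup.mem_centralizer_iff.mp hkC q hq).symm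
    obtain ⟨c, hc', s, hs, rfl⟩ := exists_decomp_of_sup_eq_top hCS k
    obtain ⟨a, ha⟩ := hS.2.1 ⟨s, hs⟩
    have h1 : (c * s) ^ p ^ a ∈ Subgroup.centralizer (pCore p X : Set X) := by
      rw [← QuotientGroup.eq_one_iff, QuotientGroup.mk_pow, QuotientGroup.mk_mul,
        (QuotientGroup.eq_one_iff c).mpr hc', one_mul, ← QuotientGroup.mk_pow,
        show s ^ p ^ a = 1 from congrArg Subtype.val ha]
      rfl
    obtain ⟨j, hj⟩ := exists_pow_eq_self_of_coprime (hk.pow_right a).symm
    exact hj ▸ pow_mem h1 j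
  have hSQ := not_sylow_le_pCore hS hK hc
  let f := QuotientGroup.mk' (pCore p X)
  have hinner : FusControls (famIn (indFam 𝓦 X) ⊤ S) S S :=
    hprop S (fun h => hD (eq_top_iff.mpr (h.ge.trans le_normalizer_dSub))) le_rfl
  have hq := fusControls_of_family (isConjugacyFunctor_induced_image h𝓦)
    (hquot _ hQ (stable_quotient_centralised hp3 hst _ (CfsgLib.PLocal.isPGroup_pCore p X) hcent))
    (isSylowIn_map hS f (QuotientGroup.mk'_surjective _))
  let Ms : Set (Subgroup X) :=
    Subgroup.comap f '' famIn (indFam 𝓦 (X ⧸ pCore p X)) ⊤ (S.map f)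
  have hMs : ∀ M ∈ Ms, S ≤ M ∧ M ≠ ⊤ := by
    rintro _ ⟨_, ⟨_, ⟨W, hW, rfl⟩, rfl⟩, rfl⟩
    dsimp only
    rw [top_inf_eq]
    exact ⟨map_le_iff_le_comap.mp
      (le_normalizer_functor (isConjugacyFunctor_induced (h𝓦 W hW)) (hS.2.1.map f)),
      comap_normalizer_ne_top hSQ hS.2.1 (h𝓦 W hW)⟩
  have hall : FusControls (famIn (indFam 𝓦 X) ⊤ S ∪ Ms) S ⊤ := by
    refine fusControls_of_quotient_pCore hS hCS
      (hinner.mono fun M hM => ⟨M, Or.inl hM, le_rfl⟩) (hq.mono fun M hM => ?_)
    exact ⟨_, ⟨_, Or.inr ⟨M, hM, rfl⟩, rfl⟩,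
      (map_comap_eq_self_of_surjective (QuotientGroup.mk'_surjective _) M).ge⟩
  refine hall.bind ?_
  rintro H (hH | hH)
  · exact fun A g hg hA hgA => Fus.single hA hH hg (cjSet_subset_iff.mp hgA)
  · exact hprop H (hMs H hH).2 (hMs H hH).1

/-- The subgroup form: control in every Sylow subgroup. -/
theorem normalizer_centerThompsonAOf_controls {G : Type u} [Group G] [Finite G] (hp3 : 3 < p)
    (hst : IsNormalizerPStable p G) (P : Sylow p G) (A : Set G) (hA : A ⊆ (P : Subgroup G)) :
    ControlsStrongFusionOf (Subgroup.normalizer (centerThompsonAOf (P : Subgroup G) : Set G))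
      (P : Subgroup G) A := by
  refine ⟨hA, fun g hg => ?_⟩
  have h𝓦 : ∀ W ∈ ({@zjFun} : Set (∀ (Q : Type u) [Group Q], Subgroup Q)),
      IsCharPFunctor.{u} p W := by
    intro W hW
    rw [Set.mem_singleton_iff] at hW
    subst hW
    exact isCharPFunctor_zjFun
  have hc := fusControls_of_family (isConjugacyFunctor_induced_image h𝓦)
    (zjFun_controls hp3 G hst) (isSylowIn_top P)
  have hf := hc A g trivial hA hg
  simp only [Set.image_singleton, famIn_singleton] at hf
  obtain ⟨x, hx, hxA⟩ := hf.exists_mem_of_singleton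
  refine ⟨x, ?_, fun a ha => (hxA a ha).symm⟩
  rw [inducedFunctor_zjFun] at hx
  exact hx.2

end CfsgLib.Techniques
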