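import Cfsg.Agent.ConjFunctor.Basic
import Mathlib.GroupTheory.Sylow
import Mathlib.Tactic

/-!
# Control of fusion passes up from a normal subgroup

If `N_N(V)` controls strong fusion in `R = P ∩ N` and `W` is generated by the conjugates of `V` under
`N_G(R)`, then `N_G(W)` controls strong fusion in `P`.
-/

set_option autoImplicit false

namespace CfsgLib.Techniques

open Subgroup CfsgLib.ConjFunctor
open scoped CfsgLib.ConjFunctor Pointwise

variable {G : Type*} [Group G] [Finite G] {p : ℕ} [hp : Fact p.Prime]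

/-- `N(W)` controls strong fusion in `P`. -/
theorem control_of_normal (N : Subgroup G) [N.Normal] (P : Sylow p G) (V : Subgroup G)
    (hV : V ≤ (P : Subgroup G) ⊓ N)
    (hctrl : ∀ A : Subgroup G, A ≤ (P : Subgroup G) ⊓ N → ∀ n ∈ N,
      A.map (MulAut.conj n).toMonoidHom ≤ (P : Subgroup G) ⊓ N →
        ∃ h ∈ N ⊓ normalizer (V : Set G), ∃ c ∈ N ⊓ centralizer (A : Set G), n = h * c)
    (W : Subgroup G) (hW : W = Subgroup.closure
      (⋃ x ∈ normalizer (((P : Subgroup G) ⊓ N : Subgroup G) : Set G),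
        ((V.map (MulAut.conj x).toMonoidHom : Subgroup G) : Set G))) :
    ∀ A : Subgroup G, A ≤ (P : Subgroup G) → ∀ g : G,
      A.map (MulAut.conj g).toMonoidHom ≤ (P : Subgroup G) →
        ∃ h ∈ normalizer (W : Set G), ∃ c ∈ centralizer (A : Set G), g = h * c := by
  classical
  set S : Subgroup G := (P : Subgroup G) with hSdef
  set R : Subgroup G := S ⊓ N with hR
  have hS : IsSylowIn p S ⊤ := isSylowIn_top P
  have hVxW : ∀ x ∈ normalizer (R : Set G), x *• V ≤ W := by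
    intro x hx z hz
    rw [hW]
    exact subset_closure (Set.mem_biUnion hx hz)
  have hWle : ∀ D : Subgroup G, (∀ x ∈ normalizer (R : Set G), x *• V ≤ D) → W ≤ D := by
    intro D hD
    rw [hW, Subgroup.closure_le]
    refine Set.iUnion₂_subset fun x hx z hz => hD x hx hz
  have hVxR : ∀ x ∈ normalizer (R : Set G), x *• V ≤ R := fun x hx =>
    (cj_mono x hV).trans (cj_eq_of_mem_normalizer hx).le
  have hWR : W ≤ R := hWle R hVxR
  have hNRW : normalizer (R : Set G) ≤ normalizer (W : Set G) := by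
    intro y hy
    refine mem_normalizer_of_cj_le ?_
    rw [map_le_iff_le_comap]
    refine hWle _ fun x hx => ?_
    rw [← map_le_iff_le_comap, cj_cj]
    exact hVxW _ (mul_mem hy hx)
  have hSNR : S ≤ normalizer (R : Set G) := by
    intro s hs
    refine mem_normalizer_of_cj_le ?_
    rw [hR, cj_inf, cj_self_of_mem hs, cj_eq_of_mem_normalizer (by rw [normalizer_eq_top N]; exact mem_top s)]
  have hSW : S ≤ normalizer (W : Set G) := hSNR.trans hNRW
  -- control inside `N`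
  have hone : ∀ x ∈ normalizer (R : Set G), ∀ A : Subgroup G, A ≤ R → ∀ n ∈ N, n *• A ≤ R →
      ∃ h ∈ N, h *• (x *• V) = x *• V ∧ ∀ a ∈ A, h * a * h⁻¹ = n * a * n⁻¹ := by
    intro x hx A hA n hn hnA
    have hA' : x⁻¹ *• A ≤ R := (cj_mono _ hA).trans (cj_eq_of_mem_normalizer (inv_mem hx)).le
    have hn' : x⁻¹ * n * x ∈ N := by
      simpa using (inferInstance : N.Normal).conj_mem n hn x⁻¹
    have hnA' : (x⁻¹ * n * x) *• (x⁻¹ *• A) ≤ R := by
      rw [cj_cj, mul_inv_cancel_right, ← cj_cj]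
      exact (cj_mono _ hnA).trans (cj_eq_of_mem_normalizer (inv_mem hx)).le
    obtain ⟨h, hh, c, hc, he⟩ := hctrl _ hA' _ hn' hnA'
    refine ⟨x * h * x⁻¹, (inferInstance : N.Normal).conj_mem h hh.1 x, ?_, fun a ha => ?_⟩
    · rw [cj_cj, inv_mul_cancel_right, ← cj_cj, cj_eq_of_mem_normalizer hh.2]
    · have h1 := mem_centralizer_iff.mp hc.2 (x⁻¹ * a * x⁻¹⁻¹) (conj_mem_cj x⁻¹ ha)
      have hne : n = x * h * c * x⁻¹ := by
        rw [mul_assoc x h c, ← he]; group
      rw [hne]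
      calc x * h * x⁻¹ * a * (x * h * x⁻¹)⁻¹
          = x * h * (x⁻¹ * a * x⁻¹⁻¹ * c) * c⁻¹ * h⁻¹ * x⁻¹ := by group
        _ = x * h * (c * (x⁻¹ * a * x⁻¹⁻¹)) * c⁻¹ * h⁻¹ * x⁻¹ := by rw [h1]
        _ = x * h * c * x⁻¹ * a * (x * h * c * x⁻¹)⁻¹ := by group
  have hinN : ∀ A : Subgroup G, A ≤ R → ∀ n ∈ N, n *• A ≤ R →
      ∃ h ∈ N, h ∈ normalizer (W : Set G) ∧ ∀ a ∈ A, h * a * h⁻¹ = n * a * n⁻¹ := by
    intro A hA n hn hnA
    haveI := Fintype.ofFinite G
    have key : ∀ s : Finset G, (∀ x ∈ s, x ∈ normalizer (R : Set G)) →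
        ∃ h ∈ N, (∀ x ∈ s, h *• (x *• V) = x *• V) ∧ ∀ a ∈ A, h * a * h⁻¹ = n * a * n⁻¹ := by
      intro s
      induction s using Finset.induction_on with
      | empty => exact fun _ => ⟨n, hn, by simp, fun _ _ => rfl⟩
      | @insert x s _ ih =>
        intro hs
        obtain ⟨h, hh, hfix, hact⟩ := ih fun y hy => hs y (Finset.mem_insert_of_mem hy)
        set A' : Subgroup G := A ⊔ ⨆ y ∈ s, y *• V with hA'
        have hA'R : A' ≤ R :=
          sup_le hA (iSup₂_le fun y hy => hVxR y (hs y (Finset.mem_insert_of_mem hy)))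
        have hhA' : h *• A' ≤ R := by
          rw [hA', Subgroup.map_sup]
          refine sup_le (cj_le_iff.mpr fun a ha => ?_) ?_
          · rw [hact a ha]; exact hnA (conj_mem_cj n ha)
          · simp only [Subgroup.map_iSup]
            refine iSup₂_le fun y hy => ?_
            rw [hfix y hy]
            exact hVxR y (hs y (Finset.mem_insert_of_mem hy))
        obtain ⟨h', hh', hfix', hact'⟩ :=
          hone x (hs x (Finset.mem_insert_self x s)) A' hA'R h hh hhA'
        refine ⟨h', hh', fun y hy => ?_, fun a ha => ?_⟩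
        · rcases Finset.mem_insert.mp hy with rfl | hy
          · exact hfix'
          · conv_rhs => rw [← hfix y hy]
            have hsub : y *• V ≤ A' :=
              le_trans (le_iSup₂ (f := fun y (_ : y ∈ s) => y *• V) y hy) le_sup_right
            refine le_antisymm (cj_le_iff.mpr fun z hz => ?_) (cj_le_iff.mpr fun z hz => ?_)
            · rw [hact' z (hsub hz)]; exact conj_mem_cj h hz
            · rw [← hact' z (hsub hz)]; exact conj_mem_cj h' hz
        · rw [hact' a (le_sup_left (b := ⨆ y ∈ s, y *• V) ha)]; exact hact a ha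
    obtain ⟨h, hh, hfix, hact⟩ := key (Finset.univ.filter (fun x => x ∈ normalizer (R : Set G)))
      fun x hx => (Finset.mem_filter.mp hx).2
    refine ⟨h, hh, mem_normalizer_of_cj_le ?_, hact⟩
    rw [map_le_iff_le_comap]
    refine hWle _ fun x hx => ?_
    rw [← map_le_iff_le_comap, hfix x (Finset.mem_filter.mpr ⟨Finset.mem_univ x, hx⟩)]
    exact hVxW x hx
  -- Frattini argument
  have hRN : IsSylowIn p R N := hS.inf_of_normal le_top (by rw [normalizer_eq_top N])
  have hfrat : ∀ g : G, ∃ f ∈ normalizer (R : Set G), ∃ n ∈ N, g = f * n := by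
    intro g
    have hg : IsSylowIn p (g *• R) N := by
      have := hRN.cj g
      rwa [cj_eq_of_mem_normalizer (g := g) (T := N) (by rw [normalizer_eq_top N]; exact mem_top g)] at this
    obtain ⟨m, hm, hme⟩ := hRN.exists_cj_eq hg
    rw [cj_cj] at hme
    refine ⟨m * g, mem_normalizer_of_cj_le hme.le, g⁻¹ * m⁻¹ * g, ?_, by group⟩
    simpa using (inferInstance : N.Normal).conj_mem _ (N.inv_mem hm) g⁻¹
  -- the induction
  suffices H : ∀ k, ∀ T : Subgroup G, Nat.card S - Nat.card T = k → T ≤ S → ∀ g : G, g *• T ≤ S →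
      ∃ y ∈ normalizer (W : Set G), ∀ t ∈ T, y * t * y⁻¹ = g * t * g⁻¹ by
    intro A hA g hg
    obtain ⟨y, hy, hyA⟩ := H _ A rfl hA g hg
    refine ⟨y, hy, y⁻¹ * g, mem_centralizer_iff.mpr fun a ha => ?_, by group⟩
    calc a * (y⁻¹ * g) = y⁻¹ * (y * a * y⁻¹) * g := by group
      _ = y⁻¹ * (g * a * g⁻¹) * g := by rw [hyA a ha]
      _ = y⁻¹ * g * a := by group
  intro k
  induction k using Nat.strongRecOn with
  | ind k ih =>
  intro T hk hT g hgT
  have big : ∀ T' : Subgroup G, T' ≤ S → Nat.card T < Nat.card T' → ∀ g : G, g *• T' ≤ S →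
      ∃ y ∈ normalizer (W : Set G), ∀ t ∈ T', y * t * y⁻¹ = g * t * g⁻¹ := fun T' hT' hc g hg' =>
    ih _ (by have := Nat.le_of_dvd Nat.card_pos (card_dvd_of_le hT'); omega) T' rfl hT' g hg'
  by_cases hTS : T = S
  · subst hTS
    refine ⟨g, hNRW ?_, fun t _ => rfl⟩
    have hg : g ∈ normalizer (S : Set G) := mem_normalizer_of_cj_le hgT
    refine mem_normalizer_of_cj_le ?_
    rw [hR, cj_inf, cj_eq_of_mem_normalizer hg,
      cj_eq_of_mem_normalizer (g := g) (T := N) (by rw [normalizer_eq_top N]; exact mem_top g)]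
  -- reduce to an extremal conjugate
  obtain ⟨a₀, hU, hUE, -⟩ := exists_extremal_conj hS hT
  set U := a₀ *• T with hUdef
  obtain ⟨a, haT, haN⟩ := exists_conj_to_extremal hS.2.1 hUE ⟨a₀, rfl⟩ (T := T)
  obtain ⟨b, hbT, hbN⟩ := exists_conj_to_extremal hS.2.1 hUE
    ⟨a₀ * g⁻¹, by rw [cj_cj, inv_mul_cancel_right]⟩ (T := g *• T)
  have hlt : Nat.card T < Nat.card ↥(S ⊓ normalizer (T : Set G)) := by
    have h1 := lt_inf_normalizer hS.2.1 (lt_of_le_of_ne hT hTS)
    refine lt_of_le_of_ne (Nat.le_of_dvd Nat.card_pos (card_dvd_of_le h1.le)) fun he => ?_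
    exact h1.ne (eq_of_le_of_card_ge h1.le he.ge)
  have hgTS : g *• T < S := lt_of_le_of_ne hgT fun h => hTS (eq_of_le_of_card_ge hT
    (by rw [← h, card_cj]))
  have hlt' : Nat.card T < Nat.card ↥(S ⊓ normalizer ((g *• T : Subgroup G) : Set G)) := by
    have h1 := lt_inf_normalizer hS.2.1 hgTS
    rw [← card_cj g T]
    refine lt_of_le_of_ne (Nat.le_of_dvd Nat.card_pos (card_dvd_of_le h1.le)) fun he => ?_
    exact h1.ne (eq_of_le_of_card_ge h1.le he.ge)
  obtain ⟨ya, hya, hyaT⟩ := big _ inf_le_left hlt a (haN.trans inf_le_left)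
  obtain ⟨yb, hyb, hybT⟩ := big _ inf_le_left hlt' b (hbN.trans inf_le_left)
  -- the extremal case
  have hmain : ∀ x ∈ normalizer (U : Set G),
      ∃ y ∈ normalizer (W : Set G), ∀ t ∈ U, y * t * y⁻¹ = x * t * x⁻¹ := by
    intro x hx
    set T0 := U ⊓ N with hT0
    have hT0R : T0 ≤ R := inf_le_inf_right _ hU
    have hdec : ∀ z ∈ normalizer (U : Set G), ∃ q, q ∈ normalizer (W : Set G) ∧
        q ∈ normalizer (T0 : Set G) ∧ ∀ t ∈ T0, q * t * q⁻¹ = z * t * z⁻¹ := by
      intro z hz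
      have hz0 : z *• T0 = T0 := by
        rw [hT0, cj_inf, cj_eq_of_mem_normalizer hz, cj_eq_of_mem_normalizer (g := z) (T := N)
          (by rw [normalizer_eq_top N]; exact mem_top z)]
      obtain ⟨f, hf, n, hn, rfl⟩ := hfrat z
      have hn0 : n *• T0 ≤ R := by
        rw [← cj_le_cj_iff (g := f), cj_cj, hz0, cj_eq_of_mem_normalizer hf]
        exact hT0R
      obtain ⟨h, -, hhW, hact⟩ := hinN T0 hT0R n hn hn0
      have hagree : ∀ t ∈ T0, f * h * t * (f * h)⁻¹ = f * n * t * (f * n)⁻¹ := fun t ht => by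
        calc f * h * t * (f * h)⁻¹ = f * (h * t * h⁻¹) * f⁻¹ := by group
          _ = f * (n * t * n⁻¹) * f⁻¹ := by rw [hact t ht]
          _ = f * n * t * (f * n)⁻¹ := by group
      refine ⟨f * h, mul_mem (hNRW hf) hhW, mem_normalizer_of_forall_conj_mem fun t ht => ?_, hagree⟩
      rw [hagree t ht, ← hz0]
      exact conj_mem_cj _ ht
    by_cases hWU : W ≤ U
    · obtain ⟨q, hqW, -, hq⟩ := hdec x hx
      refine ⟨x, mem_normalizer_of_forall_conj_mem fun w hw => ?_, fun t _ => rfl⟩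
      rw [← hq w ⟨hWU hw, (hWR hw).2⟩]
      exact (mem_normalizer_iff.mp hqW w).mp hw
    let L : Subgroup G :=
      { carrier := {n | n ∈ N ∧ n ∈ normalizer (U : Set G) ∧
          ∃ w ∈ W ⊓ normalizer (T0 : Set G), ∀ t ∈ T0, n * t * n⁻¹ = w * t * w⁻¹}
        one_mem' := ⟨one_mem _, one_mem _, 1, one_mem _, by simp⟩
        mul_mem' := by
          rintro m n ⟨hm1, hm2, v, hv, hv'⟩ ⟨hn1, hn2, w, hw, hw'⟩
          refine ⟨mul_mem hm1 hn1, mul_mem hm2 hn2, v * w, mul_mem hv hw, fun t ht => ?_⟩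
          have hmem : w * t * w⁻¹ ∈ T0 := (mem_normalizer_iff.mp hw.2 t).mp ht
          calc m * n * t * (m * n)⁻¹ = m * (n * t * n⁻¹) * m⁻¹ := by group
            _ = v * (w * t * w⁻¹) * v⁻¹ := by rw [hw' t ht, hv' _ hmem]
            _ = v * w * t * (v * w)⁻¹ := by group
        inv_mem' := by
          rintro n ⟨hn1, hn2, w, hw, hw'⟩
          refine ⟨inv_mem hn1, inv_mem hn2, w⁻¹, inv_mem hw, fun t ht => ?_⟩
          have hmem : w⁻¹ * t * w⁻¹⁻¹ ∈ T0 := (mem_normalizer_iff.mp (inv_mem hw.2) t).mp ht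
          have h1 := hw' _ hmem
          calc n⁻¹ * t * n⁻¹⁻¹ = n⁻¹ * (w * (w⁻¹ * t * w⁻¹⁻¹) * w⁻¹) * n := by group
            _ = n⁻¹ * (n * (w⁻¹ * t * w⁻¹⁻¹) * n⁻¹) * n := by rw [h1]
            _ = w⁻¹ * t * w⁻¹⁻¹ := by group }
    have hLN : L ≤ normalizer (U : Set G) := fun n hn => hn.2.1
    have hLn : normalizer (U : Set G) ≤ normalizer (L : Set G) := by
      intro z hz
      refine mem_normalizer_of_forall_conj_mem ?_
      rintro n ⟨hn1, hn2, w, hw, hw'⟩
      obtain ⟨q, hqW, hq0, hq⟩ := hdec z hz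
      refine ⟨(inferInstance : N.Normal).conj_mem n hn1 z,
        (normalizer (U : Set G)).mul_mem ((normalizer (U : Set G)).mul_mem hz hn2)
          ((normalizer (U : Set G)).inv_mem hz), q * w * q⁻¹,
        ⟨(mem_normalizer_iff.mp hqW w).mp hw.1, (normalizer (T0 : Set G)).mul_mem
          ((normalizer (T0 : Set G)).mul_mem hq0 hw.2) ((normalizer (T0 : Set G)).inv_mem hq0)⟩,
        fun t ht => ?_⟩
      have ht' : q⁻¹ * t * q ∈ T0 := (mem_normalizer_iff''.mp hq0 t).mp ht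
      have hz' : z⁻¹ * t * z = q⁻¹ * t * q := by
        have h1 := hq _ ht'
        calc z⁻¹ * t * z = z⁻¹ * (q * (q⁻¹ * t * q) * q⁻¹) * z := by group
          _ = z⁻¹ * (z * (q⁻¹ * t * q) * z⁻¹) * z := by rw [h1]
          _ = q⁻¹ * t * q := by group
      have hmem : w * (q⁻¹ * t * q) * w⁻¹ ∈ T0 := (mem_normalizer_iff.mp hw.2 _).mp ht'
      calc z * n * z⁻¹ * t * (z * n * z⁻¹)⁻¹ = z * (n * (z⁻¹ * t * z) * n⁻¹) * z⁻¹ := by group
        _ = z * (w * (q⁻¹ * t * q) * w⁻¹) * z⁻¹ := by rw [hz', hw' _ ht']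
        _ = q * (w * (q⁻¹ * t * q) * w⁻¹) * q⁻¹ := (hq _ hmem).symm
        _ = q * w * q⁻¹ * t * (q * w * q⁻¹)⁻¹ := by group
    have hLpow : ∀ n ∈ L, ∃ e : ℕ, n ^ p ^ e ∈ centralizer (U : Set G) := by
      intro n hn
      obtain ⟨-, -, w, hw, hw'⟩ := id hn
      obtain ⟨e1, he1⟩ := hS.2.1 ⟨w, (hWR hw.1).1⟩
      have hiter : ∀ j : ℕ, ∀ t ∈ T0, n ^ j * t * (n ^ j)⁻¹ = w ^ j * t * (w ^ j)⁻¹ := by
        intro j
        induction j with
        | zero => simp
        | succ j ihj =>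
          intro t ht
          have hmem : w * t * w⁻¹ ∈ T0 := (mem_normalizer_iff.mp hw.2 t).mp ht
          calc n ^ (j + 1) * t * (n ^ (j + 1))⁻¹ = n ^ j * (n * t * n⁻¹) * (n ^ j)⁻¹ := by
                rw [pow_succ]; group
            _ = w ^ j * (w * t * w⁻¹) * (w ^ j)⁻¹ := by rw [hw' t ht, ihj _ hmem]
            _ = w ^ (j + 1) * t * (w ^ (j + 1))⁻¹ := by rw [pow_succ]; group
      set m := n ^ p ^ e1 with hm
      have hm0 : ∀ t ∈ T0, m * t * m⁻¹ = t := fun t ht => by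
        rw [hm, hiter _ t ht, show w ^ p ^ e1 = 1 from congrArg Subtype.val he1]; simp
      obtain ⟨e2, he2⟩ := IsPGroup.iff_card.mp (hS.2.1.to_le (inf_le_left.trans hU : T0 ≤ S))
      refine ⟨e1 + e2, mem_centralizer_iff.mpr fun t ht => ?_⟩
      have hmL : m ∈ L := L.pow_mem hn _
      set z := m * t * m⁻¹ * t⁻¹ with hz
      have hz0 : z ∈ T0 := by
        refine ⟨U.mul_mem ((mem_normalizer_iff.mp hmL.2.1 t).mp ht) (U.inv_mem ht), ?_⟩
        have := N.mul_mem hmL.1 ((inferInstance : N.Normal).conj_mem _ (N.inv_mem hmL.1) t)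
        simpa [hz, mul_assoc] using this
      have hstep : ∀ j : ℕ, m ^ j * t * (m ^ j)⁻¹ = z ^ j * t := by
        intro j
        induction j with
        | zero => simp
        | succ j ihj =>
          calc m ^ (j + 1) * t * (m ^ (j + 1))⁻¹ = m * (m ^ j * t * (m ^ j)⁻¹) * m⁻¹ := by
                rw [pow_succ']; group
            _ = (m * z ^ j * m⁻¹) * (m * t * m⁻¹) := by rw [ihj]; group
            _ = z ^ j * (z * t) := by
              rw [hm0 _ (T0.pow_mem hz0 j), show z * t = m * t * m⁻¹ from inv_mul_cancel_right _ _]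
            _ = z ^ (j + 1) * t := by rw [pow_succ]; group
      have h1 := hstep (p ^ e2)
      have hzp : z ^ p ^ e2 = 1 := by
        have := congrArg Subtype.val (pow_card_eq_one' (x := (⟨z, hz0⟩ : T0)))
        rwa [he2, Subgroup.coe_pow] at this
      rw [hzp, one_mul, mul_inv_eq_iff_eq_mul] at h1
      rw [pow_add, pow_mul]
      exact h1.symm
    set LP := S ⊓ normalizer (U : Set G) ⊓ L with hLP
    have hLPs : IsSylowIn p LP L := ((extremal_iff hS.2.1).mp hUE).inf_of_normal hLN hLn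
    -- `L = C(U) LP` up to elements of `L`
    set C := centralizer (U : Set G) ⊓ L with hC
    have hCn : normalizer (U : Set G) ≤ normalizer (C : Set G) := by
      intro z hz
      refine mem_normalizer_of_forall_conj_mem fun c hc => ⟨?_, (mem_normalizer_iff.mp (hLn hz) c).mp hc.2⟩
      show z * c * z⁻¹ ∈ centralizer (U : Set G)
      rw [mem_centralizer_iff]
      intro t ht
      have h1 := mem_centralizer_iff.mp hc.1 _ ((mem_normalizer_iff''.mp hz t).mp ht)
      calc t * (z * c * z⁻¹) = z * ((z⁻¹ * t * z) * c) * z⁻¹ := by group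
        _ = z * (c * (z⁻¹ * t * z)) * z⁻¹ := by rw [h1]
        _ = z * c * z⁻¹ * t := by group
    have hLsup : C ⊔ LP = L := by
      refine le_antisymm (sup_le inf_le_right inf_le_right) ?_
      haveI : (C.subgroupOf L).Normal :=
        (normal_subgroupOf_iff_le_normalizer inf_le_right).mpr (hLN.trans hCn)
      have hpg : IsPGroup p (↥L ⧸ C.subgroupOf L) := by
        intro z
        obtain ⟨n, rfl⟩ := QuotientGroup.mk'_surjective _ z
        obtain ⟨e, he⟩ := hLpow n n.2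
        refine ⟨e, ?_⟩
        rw [← map_pow]
        exact (QuotientGroup.eq_one_iff _).mpr
          (mem_subgroupOf.mpr ⟨by simpa using he, (n ^ p ^ e).2⟩)
      obtain ⟨j, hj⟩ := IsPGroup.iff_card.mp hpg
      have h1 : (C ⊔ LP).relIndex L ∣ p ^ j := by
        rw [← hj]; exact relIndex_dvd_of_le_left L le_sup_left
      have h2 : ¬ p ∣ (C ⊔ LP).relIndex L := fun hd =>
        hLPs.2.2 (hd.trans (relIndex_dvd_of_le_left L le_sup_right))
      obtain ⟨i, hi, hi'⟩ := (Nat.dvd_prime_pow Fact.out).mp h1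
      rcases i with _ | i
      · exact relIndex_eq_one.mp (by simpa using hi')
      · exact absurd (hi' ▸ dvd_pow_self p (Nat.succ_ne_zero i)) h2
    have hxLP : IsSylowIn p (x *• LP) L := by
      have := hLPs.cj x
      rwa [cj_eq_of_mem_normalizer (hLn hx)] at this
    obtain ⟨l, hl, hle⟩ := hLPs.exists_cj_eq hxLP
    rw [cj_cj] at hle
    have hlC : l⁻¹ ∈ C ⊔ LP := hLsup.symm ▸ L.inv_mem hl
    have hLPn : LP ≤ normalizer (C : Set G) := (inf_le_left.trans inf_le_right).trans hCn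
    rw [sup_comm, ← SetLike.mem_coe, coe_mul_of_left_le_normalizer_right LP C hLPn] at hlC
    obtain ⟨s, hs, c, hc, hsc⟩ := hlC
    set U' := U ⊔ LP with hU'
    have hLPS : LP ≤ S := inf_le_left.trans inf_le_left
    have hkU' : (l * x) *• U' ≤ S := by
      rw [hU', Subgroup.map_sup, hle, cj_eq_of_mem_normalizer (mul_mem (hLN hl) hx)]
      exact sup_le hU hLPS
    have hUU' : U < U' := by
      refine lt_of_le_of_ne le_sup_left fun he => hWU ?_
      by_contra hWU'
      have hlt2 : U < W ⊔ U := lt_of_le_of_ne le_sup_right fun h => hWU' (h ▸ le_sup_left)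
      have h1 := lt_inf_normalizer (hS.2.1.to_le (sup_le (hWR.trans inf_le_left) hU)) hlt2
      refine h1.not_ge fun z hz => ?_
      have hz' : z ∈ ((U : Set G) * (W : Set G)) := by
        rw [← coe_mul_of_left_le_normalizer_right U W (hU.trans hSW)]
        exact (sup_comm W U ▸ hz.1)
      obtain ⟨u, hu, w, hw, rfl⟩ := hz'
      have hwn : w ∈ normalizer (U : Set G) := by
        simpa using mul_mem (inv_mem (le_normalizer hu)) hz.2
      have hwLP : w ∈ LP := by
        refine ⟨⟨(hWR hw).1, hwn⟩, (hWR hw).2, hwn, w, ⟨hw, ?_⟩, fun t _ => rfl⟩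
        refine mem_normalizer_of_cj_le ?_
        rw [hT0, cj_inf, cj_eq_of_mem_normalizer hwn,
          cj_eq_of_mem_normalizer (g := w) (T := N) (by rw [normalizer_eq_top N]; exact mem_top w)]
      exact U.mul_mem hu (he.ge (mem_sup_right hwLP))
    have hcardU : Nat.card T < Nat.card U' := by
      rw [← card_cj a₀ T, ← hUdef]
      refine lt_of_le_of_ne (Nat.le_of_dvd Nat.card_pos (card_dvd_of_le hUU'.le)) fun he => ?_
      exact hUU'.ne (eq_of_le_of_card_ge hUU'.le he.ge)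
    obtain ⟨y, hy, hyk⟩ := big U' (sup_le hU hLPS) hcardU (l * x) hkU'
    refine ⟨s * y, mul_mem (hSW (hLPS hs)) hy, fun t ht => ?_⟩
    have hkt : l * x * t * (l * x)⁻¹ ∈ U :=
      (mem_normalizer_iff.mp (mul_mem (hLN hl) hx) t).mp ht
    have hct : c * (l * x * t * (l * x)⁻¹) * c⁻¹ = l * x * t * (l * x)⁻¹ := by
      rw [← mem_centralizer_iff.mp hc.1 _ hkt, mul_inv_cancel_right]
    calc s * y * t * (s * y)⁻¹ = s * (y * t * y⁻¹) * s⁻¹ := by group
      _ = s * (c * (l * x * t * (l * x)⁻¹) * c⁻¹) * s⁻¹ := by rw [hyk t (mem_sup_left ht), hct]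
      _ = (s * c) * l * x * t * ((s * c) * l * x)⁻¹ := by group
      _ = x * t * x⁻¹ := by rw [show s * c = l⁻¹ from hsc, inv_mul_cancel, one_mul]
  have hx : b * g * a⁻¹ ∈ normalizer (U : Set G) := by
    refine mem_normalizer_of_cj_le (le_of_eq ?_)
    nth_rewrite 1 [← haT]
    rw [cj_cj, inv_mul_cancel_right, ← cj_cj, hbT]
  obtain ⟨ym, hym, hymU⟩ := hmain _ hx
  refine ⟨yb⁻¹ * ym * ya, mul_mem (mul_mem (inv_mem hyb) hym) hya, fun t ht => ?_⟩
  have ht1 : a * t * a⁻¹ ∈ U := haT ▸ conj_mem_cj a ht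
  have h1 : ya * t * ya⁻¹ = a * t * a⁻¹ := hyaT t ⟨hT ht, le_normalizer ht⟩
  have h2 := hybT (g * t * g⁻¹) ⟨hgT (conj_mem_cj g ht), le_normalizer (conj_mem_cj g ht)⟩
  calc yb⁻¹ * ym * ya * t * (yb⁻¹ * ym * ya)⁻¹
      = yb⁻¹ * (ym * (ya * t * ya⁻¹) * ym⁻¹) * yb := by group
    _ = yb⁻¹ * (b * g * a⁻¹ * (a * t * a⁻¹) * (b * g * a⁻¹)⁻¹) * yb := by rw [h1, hymU _ ht1]
    _ = yb⁻¹ * (b * (g * t * g⁻¹) * b⁻¹) * yb := by group
    _ = yb⁻¹ * (yb * (g * t * g⁻¹) * yb⁻¹) * yb := by rw [h2]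
    _ = g * t * g⁻¹ := by group

end CfsgLib.Techniques
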