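import Cfsg.Agent.ConjFunctor.Basic
import Mathlib.GroupTheory.GroupAction.Quotient
import Mathlib.Tactic

/-!
# An involution fixing a single point

For an involution `z` fixing exactly one point of `G/H`, the products `z t` with commuting conjugates
`t ≠ z` fix exactly one point iff `z` is `2`-central and their centralisers lie in `H`.
-/

set_option autoImplicit false

namespace CfsgLib.Techniques.OnePoint

open Subgroup CfsgLib.ConjFunctor
open scoped CfsgLib.ConjFunctor Pointwise

variable {G : Type*} [Group G] {z : G} {H : Subgroup G}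

/-- `x` fixes the point `gH`. -/
def Fx (H : Subgroup G) (g x : G) : Prop := g⁻¹ * x * g ∈ H

theorem mem_cj_iff {g x : G} : x ∈ H.map (MulAut.conj g).toMonoidHom ↔ Fx H g x := by
  constructor
  · rintro ⟨h, hh, rfl⟩
    show g⁻¹ * (g * h * g⁻¹) * g ∈ H
    rwa [show g⁻¹ * (g * h * g⁻¹) * g = h by group]
  · exact fun h => ⟨_, h, show g * (g⁻¹ * x * g) * g⁻¹ = x by group⟩

theorem fx_conj (g y x : G) : Fx H (y * g) (y * x * y⁻¹) ↔ Fx H g x := by
  unfold Fx
  rw [show (y * g)⁻¹ * (y * x * y⁻¹) * (y * g) = g⁻¹ * x * g by group]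

theorem fx_conj' (g y x : G) : Fx H g (y * x * y⁻¹) ↔ Fx H (y⁻¹ * g) x := by
  rw [← fx_conj (y⁻¹ * g) y x, mul_inv_cancel_left]

theorem fx_one (x : G) : Fx H 1 x ↔ x ∈ H := by simp [Fx]

/-- `z` fixes only `H`. -/
def One (H : Subgroup G) (z : G) : Prop := ∀ g, Fx H g z ↔ g ∈ H

theorem One.mem (h : One H z) : z ∈ H := (fx_one z).mp ((h 1).mpr (one_mem H))

theorem One.centralizer_le (h : One H z) : centralizer ({z} : Set G) ≤ H := by
  intro g hg
  refine (h g).mp ?_
  show g⁻¹ * z * g ∈ H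
  rw [mul_assoc, mem_centralizer_singleton_iff.mp hg |>.symm, inv_mul_cancel_left]
  exact h.mem

theorem One.uniq (h : One H z) {a : G} (ha : IsConj z a) {g g' : G} (h1 : Fx H g a) (h2 : Fx H g' a) :
    g⁻¹ * g' ∈ H := by
  obtain ⟨c, rfl⟩ := isConj_iff.mp ha
  rw [fx_conj', h] at h1 h2
  simpa [mul_assoc] using mul_mem (inv_mem h1) h2

theorem One.index_odd [Finite G] (h : One H z) (hz : orderOf z = 2) : Odd H.index := by
  haveI : Fact (Nat.Prime 2) := ⟨Nat.prime_two⟩
  have hp : IsPGroup 2 (zpowers z) := IsPGroup.of_card_dvd_pow (n := 1) (by rw [Nat.card_zpowers, hz, pow_one])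
  have hmod := hp.card_modEq_card_fixedPoints (G ⧸ H)
  have hfix : MulAction.fixedPoints (zpowers z) (G ⧸ H) = {(QuotientGroup.mk 1 : G ⧸ H)} := by
    ext q
    obtain ⟨g, rfl⟩ := QuotientGroup.mk_surjective q
    rw [Set.mem_singleton_iff, QuotientGroup.eq, mul_one, inv_mem_iff]
    constructor
    · intro hq
      have : ((z * g : G) : G ⧸ H) = (g : G ⧸ H) := hq ⟨z, mem_zpowers z⟩
      rw [QuotientGroup.eq, mul_inv_rev] at this
      refine (h g).mp ?_
      show g⁻¹ * z * g ∈ H
      simpa [mul_assoc] using inv_mem this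
    · intro hg y
      show (((y : G) * g : G) : G ⧸ H) = (g : G ⧸ H)
      rw [QuotientGroup.eq, mul_inv_rev]
      exact mul_mem (mul_mem (inv_mem hg) (inv_mem ((zpowers_le.mpr h.mem) y.2))) hg
  rw [hfix, Nat.card_eq_fintype_card (α := ({(QuotientGroup.mk 1 : G ⧸ H)} : Set (G ⧸ H))),
    Set.card_singleton] at hmod
  rw [Subgroup.index, Nat.odd_iff]
  exact hmod

/-- The reflection identity in a dihedral group. -/
theorem conj_pow_mul {a b : G} (ha : a * a = 1) (hb : b * b = 1) (j : ℕ) :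
    (a * b) ^ j * a * ((a * b) ^ j)⁻¹ = (a * b) ^ (2 * j) * a := by
  have hinv : a * (a * b) * a⁻¹ = (a * b)⁻¹ := by
    rw [← mul_assoc, ha, one_mul, mul_inv_rev, inv_eq_of_mul_eq_one_right ha,
      inv_eq_of_mul_eq_one_right hb]
  have : a * ((a * b) ^ j)⁻¹ = (a * b) ^ j * a := by
    rw [← inv_pow, ← hinv, conj_pow]
    rw [inv_eq_of_mul_eq_one_right ha]
    simp only [← mul_assoc]
    rw [ha, one_mul]
  rw [mul_assoc, this, ← mul_assoc, two_mul, pow_add]

/-- In a dihedral group with `orderOf (a b)` even, the central involution times `a` is conjugate to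
`a` or `b`. -/
theorem exists_central [Finite G] {a b : G} (ha : a * a = 1) (hb : b * b = 1)
    (he : Even (orderOf (a * b))) :
    ∃ j : ℕ, (a * b) ^ j ≠ 1 ∧ Commute a ((a * b) ^ j) ∧ Commute b ((a * b) ^ j) ∧
      (IsConj a (a * (a * b) ^ j) ∨ IsConj b (a * (a * b) ^ j)) := by
  obtain ⟨m, hm⟩ := he
  have hpos := orderOf_pos (a * b)
  set i := (a * b) ^ m with hi
  have hsq : i * i = 1 := by rw [hi, ← pow_add, ← hm, pow_orderOf_eq_one]
  have hai : a * i * a⁻¹ = i := by
    rw [hi, ← conj_pow, show a * (a * b) * a⁻¹ = (a * b)⁻¹ by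
      rw [← mul_assoc, ha, one_mul, mul_inv_rev, inv_eq_of_mul_eq_one_right ha,
        inv_eq_of_mul_eq_one_right hb], inv_pow, ← hi]
    exact inv_eq_of_mul_eq_one_right hsq
  have hca : Commute a i := mul_inv_eq_iff_eq_mul.mp hai
  have hcb : Commute b i := by
    have h1 : Commute (a * b) i := (Commute.refl (a * b)).pow_right m
    have := hca.mul_left h1
    rwa [← mul_assoc, ha, one_mul] at this
  refine ⟨m, pow_ne_one_of_lt_orderOf (by omega) (by omega), hca, hcb, ?_⟩
  rw [hca.eq, hi]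
  rcases Nat.even_or_odd m with ⟨j, hj⟩ | ⟨j, hj⟩
  · left
    refine isConj_iff.mpr ⟨(a * b) ^ j, ?_⟩
    rw [conj_pow_mul ha hb, hj, two_mul]
  · right
    refine isConj_iff.mpr ⟨(a * b) ^ j * a, ?_⟩
    calc (a * b) ^ j * a * b * ((a * b) ^ j * a)⁻¹
        = (a * b) ^ j * ((a * b) * a⁻¹) * ((a * b) ^ j)⁻¹ := by group
      _ = (a * b) ^ j * ((a * b) * a) * ((a * b) ^ j)⁻¹ := by rw [inv_eq_of_mul_eq_one_right ha]
      _ = (a * b) * ((a * b) ^ j * a * ((a * b) ^ j)⁻¹) := by
          rw [← mul_assoc ((a * b) ^ j) (a * b) a, ← pow_succ, pow_succ']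
          simp only [mul_assoc]
      _ = (a * b) ^ m * a := by rw [conj_pow_mul ha hb, ← mul_assoc, ← pow_succ', hj]

section Main

variable [Finite G]

theorem mul_self_of_isConj (hz : orderOf z = 2) {a : G} (ha : IsConj z a) : a * a = 1 := by
  obtain ⟨c, rfl⟩ := isConj_iff.mp ha
  have h2 : z * z = 1 := by rw [← sq, ← hz]; exact pow_orderOf_eq_one z
  rw [show c * z * c⁻¹ * (c * z * c⁻¹) = c * (z * z) * c⁻¹ by group, h2, mul_one, mul_inv_cancel]

/-- Products of commuting conjugates fix at most the point of the factors. -/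
theorem prod_fx (h : One H z)
    (hprod : ∀ t : G, IsConj z t → t ≠ z → t * z = z * t → ∀ g : G, Fx H g (z * t) ↔ g ∈ H)
    {a c : G} (ha : IsConj z a) (hc : IsConj z c) (hne : c ≠ a) (hac : Commute a c) {y : G}
    (hy : Fx H y (a * c)) : Fx H y a := by
  obtain ⟨g, rfl⟩ := isConj_iff.mp ha
  set t := g⁻¹ * c * g with ht
  have hct : c = g * t * g⁻¹ := by rw [ht]; group
  have hzt : IsConj z t := hc.trans (isConj_iff.mpr ⟨g⁻¹, by rw [ht, inv_inv]⟩)
  have htne : t ≠ z := fun he => hne (by rw [hct, he])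
  have htc : t * z = z * t := by
    rw [hct] at hac
    have := congrArg (fun x => g⁻¹ * x * g) hac.eq
    simpa [mul_assoc] using this.symm
  rw [fx_conj', h]
  rw [hct, show g * z * g⁻¹ * (g * t * g⁻¹) = g * (z * t) * g⁻¹ by group, fx_conj',
    hprod t hzt htne htc] at hy
  exact hy

/-- Two conjugates without a common fixed point have a product of odd order. -/
theorem odd_orderOf_mul (h : One H z) (hz : orderOf z = 2)
    (hprod : ∀ t : G, IsConj z t → t ≠ z → t * z = z * t → ∀ g : G, Fx H g (z * t) ↔ g ∈ H)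
    {a b : G} (ha : IsConj z a) (hb : IsConj z b) (hno : ∀ y, Fx H y a → ¬ Fx H y b) :
    Odd (orderOf (a * b)) := by
  rw [← Nat.not_even_iff_odd]
  intro he
  have ha2 := mul_self_of_isConj hz ha
  obtain ⟨j, hj1, hca, hcb, hconj⟩ := exists_central ha2 (mul_self_of_isConj hz hb) he
  set i := (a * b) ^ j with hi
  have hK : IsConj z (a * i) := hconj.elim ha.trans hb.trans
  have hfix : ∀ x : G, IsConj z x → Commute x i → ∀ y, Fx H y x → Fx H y i := by
    intro x hx hxi y hy
    have h1 : Fx H (i * y) x := by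
      have h1 := (fx_conj y i x).mpr hy
      rwa [← hxi.eq, mul_inv_cancel_right] at h1
    show y⁻¹ * i * y ∈ H
    rw [mul_assoc]
    exact h.uniq hx hy h1
  obtain ⟨g, rfl⟩ := isConj_iff.mp hb
  have hgb : Fx H g (g * z * g⁻¹) := by
    rw [fx_conj', inv_mul_cancel, fx_one]; exact h.mem
  have hgi := hfix _ hb hcb g hgb
  refine hno g (prod_fx h hprod ha hK (fun he' => hj1 ?_) ((Commute.refl a).mul_right hca) ?_) hgb
  · rwa [mul_eq_left] at he'
  · rwa [← mul_assoc, ha2, one_mul]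

/-- A conjugate moving `H` centralises a Sylow `2`-subgroup of the two point stabiliser, so the
number of conjugates moving `H` to a given point is odd. -/
theorem odd_index_centralizer (h : One H z) (hz : orderOf z = 2) (hH : H ≠ ⊤)
    (hprod : ∀ t : G, IsConj z t → t ≠ z → t * z = z * t → ∀ g : G, Fx H g (z * t) ↔ g ∈ H) :
    Odd (centralizer ({z} : Set G)).index := by
  classical
  haveI : Fact (Nat.Prime 2) := ⟨Nat.prime_two⟩
  obtain ⟨g, -, hg⟩ := SetLike.exists_of_lt (lt_top_iff_ne_top.mpr hH)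
  set C := centralizer ({z} : Set G) with hC
  set s := g * z * g⁻¹ with hs
  have hsK : IsConj z s := isConj_iff.mpr ⟨g, rfl⟩
  have hsg : Fx H g s := by rw [hs, fx_conj', inv_mul_cancel, fx_one]; exact h.mem
  -- the conjugates fixing `gH`, and those moving `H` to `gH`
  let K : Set G := {x | IsConj z x ∧ Fx H g x}
  let B : Set G := {x | IsConj z x ∧ g⁻¹ * x ∈ H}
  have hBnot : ∀ b ∈ B, ¬ Fx H 1 b := fun b hb hb1 => hg (by
    rw [fx_one] at hb1
    have := H.mul_mem hb1 (H.inv_mem hb.2)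
    simpa using this)
  have hB2 : ∀ b ∈ B, b * b = 1 := fun b hb => mul_self_of_isConj hz hb.1
  have hz1 : ∀ y, Fx H y z → y ∈ H := fun y => (h y).mp
  have hzb : ∀ b ∈ B, Odd (orderOf (z * b)) := fun b hb =>
    odd_orderOf_mul h hz hprod (IsConj.refl z) hb.1 fun y hy hyb => hBnot b hb (by
      rw [fx_one]
      have := H.mul_mem (H.mul_mem (hz1 y hy) hyb) (H.inv_mem (hz1 y hy))
      simpa [mul_assoc] using this)
  have hzs : ∀ x ∈ K, Odd (orderOf (z * x)) := fun x hx =>
    odd_orderOf_mul h hz hprod (IsConj.refl z) hx.1 fun y hy hyx => hg (by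
      have := H.mul_mem (hz1 y hy) (h.uniq hx.1 hyx hx.2)
      simpa using this)
  have hz2 : z * z = 1 := mul_self_of_isConj hz (IsConj.refl z)
  let f : G → G := fun b => b * z * b
  let f' : G → G := fun x => (z * x) ^ ((orderOf (z * x) - 1) / 2) * z
  have hmaps : ∀ b ∈ B, f b ∈ K := by
    intro b hb
    have hbi : b⁻¹ = b := inv_eq_of_mul_eq_one_right (hB2 b hb)
    refine ⟨isConj_iff.mpr ⟨b, by rw [hbi]⟩, ?_⟩
    show Fx H g (b * z * b)
    conv => arg 3; arg 2; rw [← hbi]
    rw [fx_conj', h, hbi]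
    have := H.inv_mem hb.2
    rwa [mul_inv_rev, inv_inv, hbi] at this
  have hinv : ∀ b ∈ B, f' (f b) = b := by
    intro b hb
    obtain ⟨k, hk⟩ := hzb b hb
    have hord : orderOf (z * f b) = 2 * k + 1 := by
      rw [show z * f b = (z * b) ^ 2 by simp only [f, sq, mul_assoc]]
      rw [Nat.Coprime.orderOf_pow, hk]
      rw [hk]
      exact (Nat.coprime_two_right.mpr ⟨k, rfl⟩)
    show (z * f b) ^ ((orderOf (z * f b) - 1) / 2) * z = b
    rw [hord, show (2 * k + 1 - 1) / 2 = k by omega,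
      show z * f b = (z * b) ^ 2 by simp only [f, sq, mul_assoc], ← pow_mul]
    have h1 : (z * b) ^ (2 * k) = (z * b)⁻¹ := eq_inv_of_mul_eq_one_left (by
      rw [← pow_succ, ← hk, pow_orderOf_eq_one])
    rw [h1, mul_inv_rev, inv_eq_of_mul_eq_one_right (hB2 b hb), inv_eq_of_mul_eq_one_right hz2,
      mul_assoc, hz2, mul_one]
  have hsurj : ∀ x ∈ K, f' x ∈ B ∧ f (f' x) = x := by
    intro x hx
    obtain ⟨k, hk⟩ := hzs x hx
    have hx2 := mul_self_of_isConj hz hx.1
    set d := z * x with hd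
    set b := d ^ k * z with hb
    have hf' : f' x = b := by
      show d ^ ((orderOf d - 1) / 2) * z = b
      rw [hk, show (2 * k + 1 - 1) / 2 = k by omega]
    rw [hf']
    have hcz : ∀ j, d ^ j * z * (d ^ j)⁻¹ = d ^ (2 * j) * z := conj_pow_mul hz2 hx2
    have hbK : IsConj z b := by
      rcases Nat.even_or_odd k with ⟨j, hj⟩ | ⟨j, hj⟩
      · exact isConj_iff.mpr ⟨d ^ j, by rw [hcz, hb, hj, two_mul]⟩
      · refine isConj_iff.mpr ⟨d ^ (j + k + 1), ?_⟩
        rw [hcz, hb, show 2 * (j + k + 1) = k + (2 * k + 1) by omega, pow_add, ← hk,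
          pow_orderOf_eq_one, mul_one]
    have hb2 := mul_self_of_isConj hz hbK
    have hbz : b * z * b = x := by
      rw [hb]
      calc d ^ k * z * z * (d ^ k * z) = d ^ k * (z * z) * (d ^ k * z) := by group
        _ = d ^ (2 * k) * z := by rw [hz2, mul_one, ← mul_assoc, ← pow_add, two_mul]
        _ = d⁻¹ * z := by
            rw [eq_inv_of_mul_eq_one_left (a := d ^ (2 * k)) (b := d) (by
              rw [← pow_succ, ← hk, pow_orderOf_eq_one])]
        _ = x := by
            rw [hd, mul_inv_rev, inv_eq_of_mul_eq_one_right hz2, inv_eq_of_mul_eq_one_right hx2,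
              mul_assoc, hz2, mul_one]
    refine ⟨⟨hbK, ?_⟩, hbz⟩
    have h1 : Fx H g (b * z * b⁻¹) := by
      rw [inv_eq_of_mul_eq_one_right hb2, hbz]; exact hx.2
    rw [fx_conj', h, inv_eq_of_mul_eq_one_right hb2] at h1
    have := H.inv_mem h1
    rwa [mul_inv_rev, inv_eq_of_mul_eq_one_right hb2] at this
  have hcard : Nat.card B = Nat.card K :=
    Nat.card_congr
      { toFun := fun b => ⟨f b, hmaps b b.2⟩
        invFun := fun x => ⟨f' x, (hsurj x x.2).1⟩
        left_inv := fun b => Subtype.ext (hinv b b.2)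
        right_inv := fun x => Subtype.ext (hsurj x x.2).2 }
  -- `K` is the `H`-class of `z`, moved to `gH`
  have hKcard : Nat.card K = C.relIndex H := by
    let F : H ⧸ C.subgroupOf H → K := fun q => Quotient.liftOn' q
      (fun y => ⟨(g * y) * z * (g * (y : G))⁻¹, isConj_iff.mpr ⟨_, rfl⟩, by
        rw [fx_conj', h]; simp [y.2]⟩)
      (fun y y' hyy => Subtype.ext (by
        rw [QuotientGroup.leftRel_apply, mem_subgroupOf] at hyy
        have h1 : (y : G)⁻¹ * y' * z = z * ((y : G)⁻¹ * y') := by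
          simpa using mem_centralizer_singleton_iff.mp hyy
        calc g * (y : G) * z * (g * (y : G))⁻¹
            = g * (y : G) * (z * ((y : G)⁻¹ * y')) * ((y : G)⁻¹ * y')⁻¹ * (g * (y : G))⁻¹ := by group
          _ = g * (y : G) * ((y : G)⁻¹ * y' * z) * ((y : G)⁻¹ * y')⁻¹ * (g * (y : G))⁻¹ := by rw [h1]
          _ = g * (y' : G) * z * (g * (y' : G))⁻¹ := by group))
    refine (Nat.card_congr (Equiv.ofBijective F ⟨?_, ?_⟩)).symm
    · intro q q' hqq
      obtain ⟨y, rfl⟩ := QuotientGroup.mk_surjective q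
      obtain ⟨y', rfl⟩ := QuotientGroup.mk_surjective q'
      have h1 : g * (y : G) * z * (g * (y : G))⁻¹ = g * (y' : G) * z * (g * (y' : G))⁻¹ :=
        congrArg Subtype.val hqq
      rw [QuotientGroup.eq, mem_subgroupOf]
      refine mem_centralizer_singleton_iff.mpr ?_
      simp only [Subgroup.coe_mul, Subgroup.coe_inv]
      calc (y : G)⁻¹ * y' * z
          = (y : G)⁻¹ * g⁻¹ * (g * (y' : G) * z * (g * (y' : G))⁻¹) * g * y' := by group
        _ = (y : G)⁻¹ * g⁻¹ * (g * (y : G) * z * (g * (y : G))⁻¹) * g * y' := by rw [h1]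
        _ = z * ((y : G)⁻¹ * y') := by group
    · rintro ⟨x, hx, hxg⟩
      obtain ⟨c, rfl⟩ := isConj_iff.mp hx
      rw [fx_conj', h] at hxg
      have hgc : g⁻¹ * c ∈ H := by simpa [mul_inv_rev] using H.inv_mem hxg
      exact ⟨QuotientGroup.mk ⟨g⁻¹ * c, hgc⟩,
        Subtype.ext (show g * (g⁻¹ * c) * z * (g * (g⁻¹ * c))⁻¹ = _ by group)⟩
  -- `B` is one class of `L = H ∩ gHg⁻¹` of odd size
  obtain ⟨b, hb⟩ : ∃ b, b ∈ B := ⟨_, (hsurj s ⟨hsK, hsg⟩).1⟩
  have hb2 := hB2 b hb
  have hbi : b⁻¹ = b := inv_eq_of_mul_eq_one_right hb2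
  set L : Subgroup G := H ⊓ g *• H with hL
  have hLmem : ∀ x, x ∈ L ↔ x ∈ H ∧ Fx H g x := fun x => and_congr_right fun _ => mem_cj_iff
  have hBL : ∀ b' ∈ B, b * b' ∈ L := by
    intro b' hb'
    refine (hLmem _).mpr ⟨?_, ?_⟩
    · have := H.mul_mem (H.inv_mem hb.2) hb'.2
      simpa [hbi, mul_assoc] using this
    · show g⁻¹ * (b * b') * g ∈ H
      have h1 := H.inv_mem hb'.2
      rw [mul_inv_rev, inv_inv, inv_eq_of_mul_eq_one_right (hB2 b' hb')] at h1
      have := H.mul_mem hb.2 h1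
      simpa [mul_assoc] using this
  have hbL : b ∈ normalizer (L : Set G) := by
    refine mem_normalizer_of_forall_conj_mem fun x hx => ?_
    obtain ⟨hx1, hx2⟩ := (hLmem x).mp hx
    rw [hbi]
    refine (hLmem _).mpr ⟨?_, ?_⟩
    · have h1 : g⁻¹ * b ∈ H := hb.2
      have h2 : Fx H g x := hx2
      have := H.mul_mem (H.mul_mem (H.inv_mem h1) h2) h1
      simpa [hbi, mul_assoc] using this
    · show g⁻¹ * (b * x * b) * g ∈ H
      have h1 : g⁻¹ * b ∈ H := hb.2
      have h3 := H.inv_mem h1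
      rw [mul_inv_rev, inv_inv, hbi] at h3
      have := H.mul_mem (H.mul_mem h1 hx1) h3
      simpa [mul_assoc] using this
  set X0 : Subgroup G := L ⊔ zpowers b with hX0
  have hbX : b ∈ X0 := mem_sup_right (mem_zpowers b)
  obtain ⟨X, hXge, hX⟩ := exists_isSylowIn_ge (p := 2) (zpowers_le.mpr hbX)
    (IsPGroup.of_card_dvd_pow (n := 1) (by
      rw [Nat.card_zpowers, pow_one]
      exact orderOf_dvd_of_pow_eq_one (by rw [sq]; exact hb2)))
  have hX0n : X0 ≤ normalizer (L : Set G) := sup_le le_normalizer (zpowers_le.mpr hbL)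
  have hR : IsSylowIn 2 (X ⊓ L) L := hX.inf_of_normal le_sup_left hX0n
  have hRC : X ⊓ L ≤ centralizer ({b} : Set G) := by
    by_contra hnot
    set T := X ⊓ centralizer ({b} : Set G) with hT
    have hlt : T < X := lt_of_le_of_ne inf_le_left fun he =>
      hnot (inf_le_left.trans (he.ge.trans inf_le_right))
    obtain ⟨c, hc, hcT⟩ := SetLike.exists_of_lt (lt_inf_normalizer hX.2.1 hlt)
    have hbT : b ∈ T := ⟨hXge (mem_zpowers b), mem_centralizer_singleton_iff.mpr rfl⟩
    have hb'T : c * b * c⁻¹ ∈ T := (mem_normalizer_iff.mp hc.2 b).mp hbT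
    have hne : c * b * c⁻¹ ≠ b := fun he =>
      hcT ⟨hc.1, mem_centralizer_singleton_iff.mpr (mul_inv_eq_iff_eq_mul.mp he)⟩
    have hcomm : Commute b (c * b * c⁻¹) := (mem_centralizer_singleton_iff.mp hb'T.2).symm
    have hbc : b * (c * b * c⁻¹) ∈ L := by
      have hc0 : c ∈ (L : Set G) * (zpowers b : Set G) := by
        rw [← coe_mul_of_right_le_normalizer_left L (zpowers b) (zpowers_le.mpr hbL)]
        exact hX.1 hc.1
      obtain ⟨l, hl, e, he, rfl⟩ := hc0
      obtain ⟨n, rfl⟩ := mem_zpowers_iff.mp he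
      have h1 : l * b ^ n * b * (l * b ^ n)⁻¹ = l * b * l⁻¹ := by group
      rw [h1]
      have h2 : b * l * b⁻¹ ∈ L := (mem_normalizer_iff.mp hbL l).mp hl
      have := L.mul_mem h2 (L.inv_mem hl)
      simpa [mul_assoc, hbi, hb2, ← mul_assoc b b] using this
    refine hBnot b hb (prod_fx h hprod hb.1 (hb.1.trans (isConj_iff.mpr ⟨c, rfl⟩)) hne hcomm ?_)
    rw [fx_one]
    exact hbc.1
  have hCL : ¬ 2 ∣ (centralizer ({b} : Set G)).relIndex L := fun hd =>
    hR.2.2 (hd.trans (relIndex_dvd_of_le_left L hRC))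
  have hBcard : Nat.card B = (centralizer ({b} : Set G)).relIndex L := by
    let F : L ⧸ (centralizer ({b} : Set G)).subgroupOf L → B := fun q => Quotient.liftOn' q
      (fun y => ⟨(y : G) * b * (y : G)⁻¹, hb.1.trans (isConj_iff.mpr ⟨_, rfl⟩), by
        have h1 := ((hLmem y).mp y.2).2
        have := H.mul_mem (H.mul_mem h1 hb.2) (H.inv_mem ((hLmem y).mp y.2).1)
        simpa [mul_assoc] using this⟩)
      (fun y y' hyy => Subtype.ext (by
        rw [QuotientGroup.leftRel_apply, mem_subgroupOf] at hyy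
        have h1 : (y : G)⁻¹ * y' * b = b * ((y : G)⁻¹ * y') := by
          simpa using mem_centralizer_singleton_iff.mp hyy
        calc (y : G) * b * (y : G)⁻¹
            = (y : G) * (b * ((y : G)⁻¹ * y')) * (y' : G)⁻¹ := by group
          _ = (y : G) * ((y : G)⁻¹ * y' * b) * (y' : G)⁻¹ := by rw [h1]
          _ = (y' : G) * b * (y' : G)⁻¹ := by group))
    refine (Nat.card_congr (Equiv.ofBijective F ⟨?_, ?_⟩)).symm
    · intro q q' hqq
      obtain ⟨y, rfl⟩ := QuotientGroup.mk_surjective q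
      obtain ⟨y', rfl⟩ := QuotientGroup.mk_surjective q'
      have h1 : (y : G) * b * (y : G)⁻¹ = (y' : G) * b * (y' : G)⁻¹ := congrArg Subtype.val hqq
      rw [QuotientGroup.eq, mem_subgroupOf]
      refine mem_centralizer_singleton_iff.mpr ?_
      simp only [Subgroup.coe_mul, Subgroup.coe_inv]
      calc (y : G)⁻¹ * y' * b = (y : G)⁻¹ * ((y' : G) * b * (y' : G)⁻¹) * y' := by group
        _ = (y : G)⁻¹ * ((y : G) * b * (y : G)⁻¹) * y' := by rw [h1]
        _ = b * ((y : G)⁻¹ * y') := by group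
    · rintro ⟨b', hb'⟩
      set r := b * b' with hr
      obtain ⟨k, hk⟩ : Odd (orderOf r) := by
        rw [← Nat.not_even_iff_odd]
        intro he
        obtain ⟨j, hj1, hcb, -, hconj⟩ := exists_central hb2 (hB2 b' hb') he
        refine hBnot b hb (prod_fx h hprod hb.1 (hconj.elim hb.1.trans hb'.1.trans)
          (fun he' => hj1 (by rwa [mul_eq_left] at he')) ((Commute.refl b).mul_right hcb) ?_)
        rw [← mul_assoc, hb2, one_mul, fx_one]
        exact ((hLmem _).mp (L.pow_mem (hBL b' hb') j)).1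
      refine ⟨QuotientGroup.mk ⟨r ^ k, L.pow_mem (hBL b' hb') k⟩,
        Subtype.ext (show r ^ k * b * (r ^ k)⁻¹ = b' from ?_)⟩
      rw [hr, conj_pow_mul hb2 (hB2 b' hb'), eq_inv_of_mul_eq_one_left
        (a := (b * b') ^ (2 * k)) (b := b * b') (by rw [← pow_succ, ← hk, pow_orderOf_eq_one]),
        mul_inv_rev, inv_mul_cancel_right, inv_eq_of_mul_eq_one_right (hB2 b' hb')]
  have hodd : Odd (C.relIndex H) := by
    rw [← Nat.not_even_iff_odd, even_iff_two_dvd, ← hKcard, ← hcard, hBcard]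
    exact hCL
  rw [← relIndex_mul_index h.centralizer_le]
  exact hodd.mul (h.index_odd hz)

/-- The main equivalence. -/
theorem main (h : One H z) (hz : orderOf z = 2) (hH : H ≠ ⊤) :
    (∀ t : G, IsConj z t → t ≠ z → t * z = z * t → ∀ g : G, Fx H g (z * t) ↔ g ∈ H) ↔
      ((∃ P : Sylow 2 G, z ∈ (Subgroup.center ↥(P : Subgroup G)).map (P : Subgroup G).subtype) ∧
        ∀ t : G, IsConj z t → t ≠ z → t * z = z * t → centralizer ({z * t} : Set G) ≤ H) := by
  haveI : Fact (Nat.Prime 2) := ⟨Nat.prime_two⟩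
  constructor
  · intro hprod
    refine ⟨?_, fun t ht hne htz g hg => (hprod t ht hne htz g).mp ?_⟩
    · have hodd := odd_index_centralizer h hz hH hprod
      obtain ⟨S, -, hS⟩ := exists_isSylowIn_ge (p := 2) (H := centralizer ({z} : Set G))
        (A := zpowers z) (zpowers_le.mpr (mem_centralizer_singleton_iff.mpr rfl))
        (IsPGroup.of_card_dvd_pow (n := 1) (by rw [Nat.card_zpowers, hz, pow_one]))
      have hSt : IsSylowIn 2 S ⊤ := ⟨le_top, hS.2.1, by
        rw [← relIndex_mul_relIndex S _ ⊤ hS.1 le_top, Nat.prime_two.dvd_mul, relIndex_top_right]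
        exact not_or.mpr ⟨hS.2.2, hodd.not_two_dvd_nat⟩⟩
      obtain ⟨a, ha, hzS⟩ := hS.exists_cj_le
        (zpowers_le.mpr (mem_centralizer_singleton_iff.mpr rfl : z ∈ centralizer ({z} : Set G)))
        (IsPGroup.of_card_dvd_pow (n := 1) (by rw [Nat.card_zpowers, hz, pow_one]))
      have hzS' : z ∈ S := by
        have := hzS (conj_mem_cj a (mem_zpowers z))
        rwa [mem_centralizer_singleton_iff.mp ha, mul_inv_cancel_right] at this
      refine ⟨hSt.toSylowTop, ⟨z, hzS'⟩, mem_center_iff.mpr fun x => Subtype.ext ?_, rfl⟩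
      exact mem_centralizer_singleton_iff.mp (hS.1 x.2)
    · have hu : z * t ∈ H := (fx_one _).mp ((hprod t ht hne htz 1).mpr (one_mem H))
      show g⁻¹ * (z * t) * g ∈ H
      rw [mul_assoc, ← mem_centralizer_singleton_iff.mp hg, inv_mul_cancel_left]
      exact hu
  · rintro ⟨⟨P, z', hz'c, hze⟩, hcent⟩ t ht hne htz g
    have hPC : (P : Subgroup G) ≤ centralizer ({z} : Set G) := fun x hx => by
      rw [← hze]
      exact mem_centralizer_singleton_iff.mpr (congrArg Subtype.val (mem_center_iff.mp hz'c ⟨x, hx⟩))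
    have htC : t ∈ centralizer ({z} : Set G) := mem_centralizer_singleton_iff.mpr htz
    have hu : z * t ∈ H := H.mul_mem h.mem (h.centralizer_le htC)
    refine ⟨fun hg => ?_, fun hg => H.mul_mem (H.mul_mem (H.inv_mem hg) hu) hg⟩
    set u' := g⁻¹ * (z * t) * g with hu'
    have hu'2 : IsPGroup 2 (zpowers u') := by
      refine IsPGroup.of_card_dvd_pow (n := 1) ?_
      rw [Nat.card_zpowers, pow_one]
      refine orderOf_dvd_of_pow_eq_one ?_
      have hz2 : z * z = 1 := mul_self_of_isConj hz (IsConj.refl _)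
      have ht2 : t * t = 1 := mul_self_of_isConj hz ht
      rw [sq, hu', show g⁻¹ * (z * t) * g * (g⁻¹ * (z * t) * g) = g⁻¹ * (z * (t * z) * t) * g by group,
        htz, show z * (z * t) * t = (z * z) * (t * t) by group, hz2, ht2, mul_one, mul_one,
        inv_mul_cancel]
    have hPH : IsSylowIn 2 (P : Subgroup G) H :=
      (isSylowIn_top P).of_le (hPC.trans h.centralizer_le) le_top
    obtain ⟨a, ha, hau⟩ := hPH.exists_cj_le (zpowers_le.mpr hg) hu'2
    have hcomm : Commute z (a * u' * a⁻¹) :=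
      (mem_centralizer_singleton_iff.mp (hPC (hau (conj_mem_cj a (mem_zpowers u'))))).symm
    set c := g * a⁻¹ with hc
    have hw : c * z * c⁻¹ ∈ centralizer ({z * t} : Set G) := by
      rw [mem_centralizer_singleton_iff]
      have h1 := congrArg (fun x => c * x * c⁻¹) hcomm.eq
      rw [hu', hc] at h1
      rw [hc]
      simpa [mul_assoc] using h1
    have h1 : c⁻¹ ∈ H := by
      have h2 := (fx_one _).mpr (hcent t ht hne htz hw)
      rwa [fx_conj', mul_one, h] at h2
    have := H.mul_mem (H.inv_mem h1) ha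
    simpa [hc] using this

end Main

end CfsgLib.Techniques.OnePoint
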