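import Cfsg.Agent.Transfer.Residual
import Mathlib.GroupTheory.Perm.Cycle.Type
import Mathlib.GroupTheory.GroupAction.Quotient
import Mathlib.Tactic

/-!
# Semiregular elements that act as odd permutations lie outside `O^2`
-/

namespace CfsgLib.Techniques

open Equiv

/-- A permutation all of whose orbits have the same even length `n`, an odd number of them, is
odd. -/
theorem sign_eq_neg_one_of_semiregular {α : Type*} [Fintype α] [DecidableEq α] {σ : Perm α}
    {n r : ℕ} (hn : Even n) (hn0 : n ≠ 0) (hr : Odd r) (hcard : Fintype.card α = n * r)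
    (hσn : σ ^ n = 1) (hfree : ∀ i : ℕ, ∀ a, (σ ^ i) a = a → n ∣ i) : Perm.sign σ = -1 := by
  have hall : ∀ m ∈ σ.cycleType, m = n := by
    intro m hm
    have hdvd : m ∣ n := (Perm.dvd_of_mem_cycleType hm).trans (orderOf_dvd_of_pow_eq_one hσn)
    obtain ⟨c, τ, hστ, hdisj, hc, hmc⟩ := Perm.mem_cycleType_iff.mp hm
    obtain ⟨a, ha⟩ : c.support.Nonempty := by
      rw [Finset.nonempty_iff_ne_empty]; exact mt Perm.support_eq_empty_iff.mp hc.ne_one
    have hτa : τ a = a := (hdisj a).resolve_left (Perm.mem_support.mp ha)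
    have hcm : c ^ m = 1 := by rw [← hmc, ← hc.orderOf, pow_orderOf_eq_one]
    have hτm : (τ ^ m) a = a := Perm.pow_apply_eq_self_of_apply_eq_self hτa m
    refine Nat.dvd_antisymm hdvd (hfree m a ?_)
    rw [hστ, hdisj.commute.mul_pow, hcm, one_mul, hτm]
  have hsupp : σ.support = Finset.univ := by
    ext a
    simp only [Perm.mem_support, Finset.mem_univ, iff_true]
    intro h
    have h1 := hfree 1 a (by simpa using h)
    obtain ⟨k, hk⟩ := hn
    have := Nat.eq_one_of_dvd_one h1
    omega
  have hrep : σ.cycleType = Multiset.replicate (Multiset.card σ.cycleType) n :=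
    Multiset.eq_replicate.mpr ⟨rfl, hall⟩
  have hsum : σ.cycleType.sum = n * r := by
    rw [Perm.sum_cycleType, hsupp, Finset.card_univ, hcard]
  have hcnt : Multiset.card σ.cycleType = r := by
    rw [hrep, Multiset.sum_replicate, smul_eq_mul, mul_comm] at hsum
    exact Nat.eq_of_mul_eq_mul_left (Nat.pos_of_ne_zero hn0) hsum
  rw [Perm.sign_of_cycleType, hsum, hcnt]
  exact (Even.add_odd (hn.mul_right r) hr).neg_one_pow

/-- An element of even order acting semiregularly on the cosets of `M`, with an odd number of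
orbits, lies outside `O^2(G)`. -/
theorem not_mem_pResidual_two_of_semiregular {G : Type*} [Group G] [Finite G] (M : Subgroup G)
    {g : G} {r : ℕ} (hr : Odd r) (hind : M.index = orderOf g * r) (he : Even (orderOf g))
    (hfree : ∀ i : ℕ, ∀ a : G, a⁻¹ * g ^ i * a ∈ M → g ^ i = 1) :
    g ∉ Cfsg.pResidual 2 G := by
  classical
  haveI : Fact (Nat.Prime 2) := ⟨Nat.prime_two⟩
  haveI := Fintype.ofFinite (G ⧸ M)
  let f := MulAction.toPermHom G (G ⧸ M)
  have hsign : Perm.sign (f g) = -1 := by
    refine sign_eq_neg_one_of_semiregular he (orderOf_pos g).ne' hr ?_ ?_ ?_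
    · rw [← Nat.card_eq_fintype_card, ← Subgroup.index_eq_card, hind]
    · rw [← map_pow, pow_orderOf_eq_one, map_one]
    · intro i a ha
      induction a using QuotientGroup.induction_on with
      | _ b =>
        refine orderOf_dvd_of_pow_eq_one (hfree i b ?_)
        rw [← map_pow] at ha
        have h2 : ((g ^ i * b : G) : G ⧸ M) = (b : G ⧸ M) := ha
        rw [eq_comm, QuotientGroup.eq, ← mul_assoc] at h2
        exact h2
  intro hg
  have hU : IsPGroup 2 ℤˣ := IsPGroup.of_card (n := 1) (by
    rw [Nat.card_eq_fintype_card, Fintype.card_units_int, pow_one])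
  have h1 := CfsgLib.Transfer.pResidual_le_ker (Perm.sign.comp f) hU hg
  rw [MonoidHom.mem_ker, MonoidHom.comp_apply, hsign] at h1
  exact absurd h1 (by decide)

end CfsgLib.Techniques
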