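import Mathlib.GroupTheory.Index
import Mathlib.GroupTheory.QuotientGroup.Basic
import Mathlib.Algebra.BigOperators.Group.Finset.Basic
import Mathlib.GroupTheory.GroupAction.Quotient
import Mathlib.GroupTheory.OrderOfElement
import Mathlib.Algebra.BigOperators.GroupWithZero.Action
import Mathlib.Tactic.Group

/-!
# Relative norms

For `T ≤ L` of index prime to the orders of the elements of the abelian `L`-group `M`, the fixed points of `L` are a
direct factor of the fixed points of `T`.
-/

set_option autoImplicit false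

namespace CfsgLib.Techniques

/-- If `[L : T]` is prime to all element orders of `M`, then `C_M(L)` has a complement in `C_M(T)`. -/
theorem exists_complement_fixed {L M : Type*} [Group L] [Finite L] [CommGroup M] [MulDistribMulAction L M]
    (T : Subgroup L) (hcop : ∀ m : M, T.index.Coprime (orderOf m)) :
    ∃ K : Subgroup M, (∀ x ∈ K, ∀ t ∈ T, t • x = x) ∧ (∀ x ∈ K, (∀ l : L, l • x = x) → x = 1) ∧
      ∀ x : M, (∀ t ∈ T, t • x = x) → ∃ w, (∀ l : L, l • w = w) ∧ ∃ k ∈ K, x = w * k := by
  classical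
  have : Fintype (L ⧸ T) := Fintype.ofFinite _
  let ν : M →* M :=
    { toFun := fun x => ∏ q : L ⧸ T, q.out • x
      map_one' := by simp
      map_mul' := fun x y => by simp [smul_mul', Finset.prod_mul_distrib] }
  have hfl : ∀ x : M, (∀ t ∈ T, t • x = x) → ∀ (l : L) (q : L ⧸ T), l • q.out • x = (l • q).out • x := by
    intro x hx l q
    have h1 : ((l * q.out : L) : L ⧸ T) = l • q := by
      conv_rhs => rw [← QuotientGroup.out_eq' q]
      rw [MulAction.Quotient.smul_coe]; rfl
    obtain ⟨t, ht⟩ := QuotientGroup.mk_out_eq_mul T (l * q.out)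
    rw [← h1, ht, mul_smul (l * q.out), hx _ t.2, mul_smul]
  have hν : ∀ x : M, (∀ t ∈ T, t • x = x) → ∀ l : L, l • ν x = ν x := by
    intro x hx l
    show l • ∏ q : L ⧸ T, q.out • x = _
    rw [Finset.smul_prod']
    simp only [hfl x hx]
    exact Equiv.prod_comp (MulAction.toPerm l) fun q : L ⧸ T => q.out • x
  have hpow : ∀ w : M, (∀ l : L, l • w = w) → ν w = w ^ T.index := by
    intro w hw
    show ∏ q : L ⧸ T, q.out • w = _
    simp only [hw, Finset.prod_const, Finset.card_univ]
    rw [← Nat.card_eq_fintype_card]; rfl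
  let F : Subgroup M :=
    { carrier := {x | ∀ t ∈ T, t • x = x}
      one_mem' := fun t _ => smul_one t
      mul_mem' := fun {a b} ha hb t ht => by rw [smul_mul', ha t ht, hb t ht]
      inv_mem' := fun {a} ha t ht => by rw [smul_inv', ha t ht] }
  refine ⟨F ⊓ ν.ker, fun x hx => hx.1, ?_, ?_⟩
  · intro x hx hfix
    have h1 : ν x = 1 := hx.2
    rw [hpow x hfix] at h1
    rw [← orderOf_eq_one_iff]
    exact Nat.Coprime.eq_one_of_dvd (hcop x).symm (orderOf_dvd_of_pow_eq_one h1)
  · intro x hx
    obtain ⟨j, hj⟩ := exists_pow_eq_self_of_coprime (hcop (ν x))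
    refine ⟨ν x ^ j, fun l => by rw [smul_pow', hν x hx], (ν x ^ j)⁻¹ * x, ⟨?_, ?_⟩, by group⟩
    · exact F.mul_mem (F.inv_mem (fun t _ => by rw [smul_pow', hν x hx])) hx
    · show ν ((ν x ^ j)⁻¹ * x) = 1
      rw [map_mul, map_inv, hpow _ (fun l => by rw [smul_pow', hν x hx]), ← pow_mul, mul_comm j,
        pow_mul, hj, inv_mul_cancel]

end CfsgLib.Techniques
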