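import Cfsg.Agent.Techniques.SmallExponent
import Cfsg.Agent.Transfer.Frobenius

/-!
# `p'`-elements acting on a `p`-subgroup through its elements of small order
-/

set_option autoImplicit false

namespace CfsgLib.Techniques

open Subgroup

variable {G : Type*} [Group G] [Finite G] {p : ℕ} [Fact p.Prime]

/-- A `p'`-element normalizing a `p`-subgroup `Q` and acting trivially on the factors of a series, as far as the elements of
small order of `Q` are concerned, centralizes `Q`. -/
theorem mem_centralizer_of_small_series {Q : Subgroup G} (hQ : IsPGroup p Q) {g : G}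
    (hg : g ∈ normalizer (Q : Set G)) (hgp : (orderOf g).Coprime p) (S : ℕ → Subgroup G) (h0 : S 0 = ⊥)
    (hstep : ∀ i, ∀ d ∈ Q, (d ^ p = 1 ∨ (p = 2 ∧ d ^ 4 = 1)) → d ∈ S (i + 1) → d⁻¹ * (g * d * g⁻¹) ∈ S i)
    (hall : ∀ d ∈ Q, (d ^ p = 1 ∨ (p = 2 ∧ d ^ 4 = 1)) → ∃ i, d ∈ S i) :
    g ∈ centralizer (Q : Set G) := by
  set α : MulAut Q := Q.normalizerMonoidHom ⟨g, hg⟩ with hα
  have hαc : (orderOf α).Coprime p := by
    refine Nat.Coprime.coprime_dvd_left ?_ hgp
    refine (orderOf_map_dvd _ _).trans ?_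
    rw [orderOf_mk]
  have hval : ∀ x : Q, ((α x : Q) : G) = g * x * g⁻¹ := fun _ => rfl
  obtain ⟨D, hDinv, -, hDexp, -, hDdet⟩ := exists_small_detecting hQ (⊤ : Subgroup (MulAut Q)) le_top
  have hsmall : ∀ d ∈ D, ((d : G) ^ p = 1 ∨ (p = 2 ∧ (d : G) ^ 4 = 1)) := fun d hd => by
    rcases pow_smallExp_eq_one_iff.1 (hDexp d hd) with h | ⟨h, h'⟩
    · exact Or.inl (by simpa using congrArg Subtype.val h)
    · exact Or.inr ⟨h, by simpa using congrArg Subtype.val h'⟩
  have key : ∀ i, ∀ d ∈ D, (d : G) ∈ S i → α d = d := by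
    intro i
    induction i with
    | zero =>
      intro d _ hd
      rw [h0, mem_bot] at hd
      have : d = 1 := Subtype.ext (by simpa using hd)
      simp [this]
    | succ i ih =>
      intro d hdD hd
      refine eq_of_fix_quotient hQ hαc (ih _ (D.mul_mem (D.inv_mem hdD) (hDinv α trivial d hdD)) ?_)
      simpa [hval] using hstep i d d.2 (hsmall d hdD) hd
  have h1 : α = 1 := hDdet α trivial hαc fun d hd => by
    obtain ⟨i, hi⟩ := hall d d.2 (hsmall d hd)
    exact key i d hd hi
  intro q hq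
  have := congrArg Subtype.val (DFunLike.congr_fun h1 ⟨q, hq⟩)
  rw [hval, MulAut.one_apply] at this
  exact (mul_inv_eq_iff_eq_mul.1 this).symm

end CfsgLib.Techniques
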