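import Cfsg.Agent.Techniques.SLFree
import Cfsg.Agent.Techniques.ControlNormal

/-!
# The least centric-radical subgroup of an `SL(2, p)`-free group

For `p` odd, a maximal normal subgroup `Q` of `P` with `N(Q)` controlling strong fusion is centric-radical
and lies in every centric-radical subgroup of `P`.
-/

set_option autoImplicit false

universe u

namespace CfsgLib.Techniques

open Cfsg Subgroup CfsgLib.ConjFunctor
open scoped CfsgLib.ConjFunctor Pointwise

variable {p : ℕ} [hp : Fact p.Prime]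

/-- Control modulo a central `p`-subgroup gives control. -/
theorem fusControls_of_quotient_central {X : Type*} [Group X] [Finite X] {Z : Subgroup X} [Z.Normal]
    (hZc : Z ≤ center X) {S : Subgroup X} (hS : IsSylowIn p S ⊤) (hZS : Z ≤ S) {M : Subgroup X}
    (hSM : S ≤ M)
    (h : FusControls (Subgroup.map (QuotientGroup.mk' Z) '' {M}) (S.map (QuotientGroup.mk' Z)) ⊤) :
    FusControls {M} S ⊤ := by
  have hfam : IsConjugationFamily {U : Subgroup X | U ≤ S ∧ Extremal p S U} S :=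
    isConjugationFamily_of_extremal hS (fun _ h => h.1) fun T hT => by
      obtain ⟨a, h1, h2, -⟩ := exists_extremal_conj hS hT
      exact ⟨_, ⟨h1, h2⟩, ⟨a, rfl⟩, h2⟩
  refine fusControls_of_conjugationFamily hfam hZS fun U hU hZU x hx => ?_
  let f := QuotientGroup.mk' Z
  have hxU : cjSet x (U : Set X) ⊆ S := by
    rw [cjSet_coe, cj_eq_of_mem_normalizer hx]; exact hU.1
  obtain ⟨n, hn, hnU⟩ := exists_lift_of_le (p := p) hZS (h (f '' (U : Set X)) (f x) trivial
    (Set.image_mono hU.1) (by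
      rintro _ ⟨_, ⟨a, ha, rfl⟩, rfl⟩
      exact ⟨_, hxU ⟨a, ha, rfl⟩, by simp [f]⟩)) (U : Set X) rfl hU.1
  have hagree : ∀ u ∈ U, (n * u * n⁻¹)⁻¹ * (x * u * x⁻¹) ∈ Z := by
    intro u hu
    rw [← QuotientGroup.eq]
    exact (hnU u hu).trans (by simp [f])
  have hnN : n ∈ normalizer (U : Set X) := mem_normalizer_of_forall_conj_mem fun u hu => by
    have h1 := (mem_normalizer_iff.mp hx u).mp hu
    have h2 := mul_mem h1 (inv_mem (hZU (hagree u hu)))
    simpa [mul_assoc] using h2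
  let E : Subgroup X :=
    { carrier := {y | y ∈ normalizer (U : Set X) ∧ ∀ u ∈ U, y * u * y⁻¹ * u⁻¹ ∈ Z}
      one_mem' := ⟨one_mem _, fun u _ => by simp [one_mem]⟩
      mul_mem' := fun {a b} ha hb => ⟨mul_mem ha.1 hb.1, fun u hu => by
        have := mul_mem (ha.2 _ ((mem_normalizer_iff.mp hb.1 u).mp hu)) (hb.2 u hu)
        simpa [mul_assoc] using this⟩
      inv_mem' := fun {a} ha => ⟨inv_mem ha.1, fun u hu => by
        have := inv_mem (ha.2 _ ((mem_normalizer_iff.mp (inv_mem ha.1) u).mp hu))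
        simpa [mul_assoc] using this⟩ }
  have hEN : E ≤ normalizer (U : Set X) := fun y hy => hy.1
  have hEnorm : normalizer (U : Set X) ≤ normalizer (E : Set X) := by
    intro y hy
    refine mem_normalizer_of_forall_conj_mem fun e he =>
      ⟨(normalizer (U : Set X)).mul_mem ((normalizer (U : Set X)).mul_mem hy he.1)
        ((normalizer (U : Set X)).inv_mem hy), fun u hu => ?_⟩
    have h1 := he.2 _ ((mem_normalizer_iff.mp (inv_mem hy) u).mp hu)
    have := Subgroup.Normal.conj_mem inferInstance _ h1 y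
    simpa [mul_assoc] using this
  obtain ⟨l, hl⟩ : ∃ l : ℕ, ∀ q ∈ Z, q ^ p ^ l = 1 := by
    obtain ⟨l, hl⟩ := IsPGroup.iff_card.mp (hS.2.1.to_le hZS)
    refine ⟨l, fun q hq => ?_⟩
    have := congrArg Subtype.val (pow_card_eq_one' (x := (⟨q, hq⟩ : Z)))
    simpa [hl] using this
  have hpow : ∀ y ∈ E, y ^ p ^ l ∈ centralizer (U : Set X) := by
    intro y hy
    refine mem_centralizer_iff.mpr fun u hu => ?_
    set q := y * u * y⁻¹ * u⁻¹ with hq
    have hqZ : q ∈ Z := hy.2 u hu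
    have hcq : ∀ i : ℕ, y * q ^ i * y⁻¹ = q ^ i := fun i => by
      rw [mem_center_iff.mp (hZc (Z.pow_mem hqZ i)) y, mul_inv_cancel_right]
    have hstep : ∀ i : ℕ, y ^ i * u * (y ^ i)⁻¹ = q ^ i * u := by
      intro i
      induction i with
      | zero => simp
      | succ j ih =>
        calc y ^ (j + 1) * u * (y ^ (j + 1))⁻¹ = y * (y ^ j * u * (y ^ j)⁻¹) * y⁻¹ := by
              rw [pow_succ']; group
          _ = (y * q ^ j * y⁻¹) * (y * u * y⁻¹) := by rw [ih]; group
          _ = q ^ j * (q * u) := by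
              rw [hcq, show q * u = y * u * y⁻¹ from inv_mul_cancel_right _ _]
          _ = q ^ (j + 1) * u := by rw [pow_succ]; exact (mul_assoc _ _ _).symm
    have h1 := hstep (p ^ l)
    rw [hl q hqZ, one_mul, mul_inv_eq_iff_eq_mul] at h1
    exact h1.symm
  set LP := S ⊓ normalizer (U : Set X) ⊓ E with hLP
  have hE : IsSylowIn p LP E := ((extremal_iff hS.2.1).mp hU.2).inf_of_normal hEN hEnorm
  set CU : Subgroup X := centralizer (U : Set X) with hCU
  have hCN : normalizer (U : Set X) ≤ normalizer (CU : Set X) :=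
    (normal_subgroupOf_iff_le_normalizer (centralizer_le_normalizer _)).mp
      (normal_subgroupOf_centralizer_normalizer (U : Set X))
  have hCE : CU ≤ E := fun y hy => ⟨centralizer_le_normalizer _ hy, fun u hu => by
    rw [← mem_centralizer_iff.mp hy u hu, mul_inv_cancel_right, mul_inv_cancel]
    exact one_mem _⟩
  have hsupE : CU ⊔ LP = E := by
    refine le_antisymm (sup_le hCE inf_le_right) ?_
    haveI : (CU.subgroupOf E).Normal := normal_subgroupOf_of_le_normalizer (hEN.trans hCN)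
    have hpg : IsPGroup p (↥E ⧸ CU.subgroupOf E) := by
      intro z
      obtain ⟨y, rfl⟩ := QuotientGroup.mk'_surjective _ z
      refine ⟨l, ?_⟩
      rw [← map_pow]
      exact (QuotientGroup.eq_one_iff _).mpr (mem_subgroupOf.mpr (by simpa using hpow y y.2))
    obtain ⟨j, hj⟩ := IsPGroup.iff_card.mp hpg
    have h1 : (CU ⊔ LP).relIndex E ∣ p ^ j := by
      rw [← hj]; exact relIndex_dvd_of_le_left E le_sup_left
    have h2 : ¬ p ∣ (CU ⊔ LP).relIndex E := fun hd =>
      hE.2.2 (hd.trans (relIndex_dvd_of_le_left E le_sup_right))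
    obtain ⟨i, hi, hi'⟩ := (Nat.dvd_prime_pow Fact.out).mp h1
    rcases i with _ | i
    · exact relIndex_eq_one.mp (by simpa using hi')
    · exact absurd (hi' ▸ dvd_pow_self p (Nat.succ_ne_zero i)) h2
  have hh : x * n⁻¹ ∈ E := ⟨(normalizer (U : Set X)).mul_mem hx ((normalizer (U : Set X)).inv_mem hnN),
    fun u hu => by
      have h1 := hagree _ ((mem_normalizer_iff.mp (inv_mem hnN) u).mp hu)
      have := Subgroup.Normal.conj_mem inferInstance _ h1 u
      simpa [mul_assoc] using this⟩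
  rw [← hsupE] at hh
  obtain ⟨z, hz, s, hs, hzs⟩ := exists_mul_of_mem_sup_normalizer
    ((inf_le_left.trans inf_le_right).trans hCN) hh
  have hUU : cjSet n (U : Set X) = U := by rw [cjSet_coe, cj_eq_of_mem_normalizer hnN]
  have h1 : Fus {M} S (U : Set X) (s * n) := hn.trans (by
    rw [hUU]
    exact Fus.single hU.1 rfl (hSM hs.1.1) fun u hu => hU.1 ((mem_normalizer_iff.mp hs.1.2 u).mp hu))
  refine h1.congr' fun u hu => ?_
  have hw : (s * n) * u * (s * n)⁻¹ ∈ U :=
    (mem_normalizer_iff.mp (mul_mem hs.1.2 hnN) u).mp hu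
  have hzc : z * ((s * n) * u * (s * n)⁻¹) * z⁻¹ = (s * n) * u * (s * n)⁻¹ := by
    rw [← mem_centralizer_iff.mp hz _ hw, mul_inv_cancel_right]
  have hxe : z * (s * n) = x := by rw [← mul_assoc, hzs]; group
  calc s * n * u * (s * n)⁻¹ = z * ((s * n) * u * (s * n)⁻¹) * z⁻¹ := hzc.symm
    _ = (z * (s * n)) * u * (z * (s * n))⁻¹ := by group
    _ = x * u * x⁻¹ := by rw [hxe]

variable {G : Type u} [Group G] [Finite G]

/-- The subgroup `M` controls strong fusion in `P`. -/
def Controls (P M : Subgroup G) : Prop :=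
  ∀ A : Subgroup G, A ≤ P → ∀ g : G, g *• A ≤ P → ∃ h ∈ M, ∃ c ∈ centralizer (A : Set G), g = h * c

/-- A candidate: normal in `P`, and its normaliser controls strong fusion in `P`. -/
def Good (P Q : Subgroup G) : Prop :=
  Q ≤ P ∧ P ≤ normalizer (Q : Set G) ∧ Controls P (normalizer (Q : Set G))

omit hp [Finite G] in
theorem good_bot (P : Subgroup G) : Good P ⊥ := by
  refine ⟨bot_le, ?_, fun A _ g _ => ⟨g, ?_, 1, one_mem _, (mul_one g).symm⟩⟩
  · rw [normalizer_eq_top (⊥ : Subgroup G)]; exact le_top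
  · rw [normalizer_eq_top (⊥ : Subgroup G)]; exact mem_top g

/-- Enlarging a good subgroup inside a normal subgroup of its normaliser. -/
theorem good_of_control_normal (P : Sylow p G) {Q : Subgroup G} (hQ : Good (P : Subgroup G) Q)
    (K : Subgroup G) (hKN : K ≤ normalizer (Q : Set G))
    (hKn : normalizer (Q : Set G) ≤ normalizer (K : Set G)) (V : Subgroup G)
    (hV : V ≤ (P : Subgroup G) ⊓ K)
    (hctrl : ∀ A : Subgroup G, A ≤ (P : Subgroup G) ⊓ K → ∀ n ∈ K, n *• A ≤ (P : Subgroup G) ⊓ K →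
      ∃ h ∈ K ⊓ normalizer (V : Set G), ∃ c ∈ K ⊓ centralizer (A : Set G), n = h * c) :
    ∃ W : Subgroup G, V ≤ W ∧ W ≤ (P : Subgroup G) ⊓ K ∧ Good (P : Subgroup G) (Q ⊔ W) := by
  obtain ⟨hQP, hPN, hQc⟩ := hQ
  set N := normalizer (Q : Set G) with hN
  set P' : Sylow p N := P.subtype hPN with hP'
  have hP'c : (P' : Subgroup N) = (P : Subgroup G).subgroupOf N := rfl
  haveI : (K.subgroupOf N).Normal := normal_subgroupOf_of_le_normalizer hKn
  have hmap : ∀ (A : Subgroup N) (n : N), (n *• A).map N.subtype = (n : G) *• A.map N.subtype :=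
    fun A n => by
      rw [Subgroup.map_map, Subgroup.map_map]
      rfl
  have hcN : ∀ x : N, ∀ A : Subgroup N,
      (x : G) ∈ centralizer ((A.map N.subtype : Subgroup G) : Set G) → x ∈ centralizer (A : Set N) :=
    fun x A hx => mem_centralizer_iff.mpr fun a ha =>
      Subtype.ext (mem_centralizer_iff.mp hx _ (mem_map_of_mem N.subtype ha))
  have hV' : V.subgroupOf N ≤ (P' : Subgroup N) ⊓ K.subgroupOf N := by
    rw [hP'c]
    exact fun v hv => hV hv
  set W1 : Subgroup N := Subgroup.closure (⋃ x ∈ normalizer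
    ((((P' : Subgroup N) ⊓ K.subgroupOf N : Subgroup N)) : Set N),
      (((V.subgroupOf N).map (MulAut.conj x).toMonoidHom : Subgroup N) : Set N)) with hW1
  have hVN : V ≤ N := hV.trans (inf_le_right.trans hKN)
  have hctrl' := control_of_normal (K.subgroupOf N) P' (V.subgroupOf N) hV' (fun A hA n hn hnA => by
    rw [hP'c] at hA hnA
    obtain ⟨h, hh, c, hc, he⟩ := hctrl (A.map N.subtype)
      (by rintro _ ⟨a, ha, rfl⟩; exact hA ha) n hn (by
        rw [← hmap]; rintro _ ⟨a, ha, rfl⟩; exact hnA ha)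
    refine ⟨⟨h, hKN hh.1⟩, ⟨hh.1, mem_normalizer_of_forall_conj_mem fun v hv => ?_⟩,
      ⟨c, hKN hc.1⟩, ⟨hc.1, hcN _ _ hc.2⟩, Subtype.ext he⟩
    exact (mem_normalizer_iff.mp hh.2 v).mp hv) W1 hW1
  have hRle : ∀ x ∈ normalizer ((((P' : Subgroup N) ⊓ K.subgroupOf N : Subgroup N)) : Set N),
      x *• V.subgroupOf N ≤ (P' : Subgroup N) ⊓ K.subgroupOf N := fun x hx =>
    (cj_mono x hV').trans (cj_eq_of_mem_normalizer hx).le
  have hW1R : W1 ≤ (P' : Subgroup N) ⊓ K.subgroupOf N := by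
    rw [hW1, Subgroup.closure_le]
    exact Set.iUnion₂_subset fun x hx => hRle x hx
  have hVW1 : V.subgroupOf N ≤ W1 := fun v hv => by
    rw [hW1]
    exact subset_closure (Set.mem_biUnion (one_mem _) ⟨v, hv, by simp⟩)
  refine ⟨W1.map N.subtype, fun v hv => ⟨⟨v, hVN hv⟩, hVW1 hv, rfl⟩, ?_, ?_⟩
  · rintro _ ⟨w, hw, rfl⟩
    have := hW1R hw
    rw [hP'c] at this
    exact this
  have hPW : ∀ s : N, (s : G) ∈ (P : Subgroup G) → s ∈ normalizer (W1 : Set N) := by
    intro s hs
    refine mem_normalizer_of_cj_le ?_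
    rw [hW1, MonoidHom.map_closure, Subgroup.closure_le]
    rintro _ ⟨v, hv, rfl⟩
    obtain ⟨x, hx, hv⟩ := Set.mem_iUnion₂.mp hv
    refine subset_closure (Set.mem_biUnion (x := s * x) (mul_mem ?_ hx) ?_)
    · refine mem_normalizer_of_cj_le ?_
      rw [cj_inf, cj_self_of_mem (show s ∈ (P' : Subgroup N) by rw [hP'c]; exact hs),
        cj_eq_of_mem_normalizer (T := K.subgroupOf N) (g := s)
          (by rw [normalizer_eq_top (K.subgroupOf N)]; exact mem_top s)]
    · show _ ∈ ((s * x) *• V.subgroupOf N)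
      rw [← cj_cj]
      exact mem_map_of_mem _ hv
  have hup : ∀ h : N, h ∈ normalizer (W1 : Set N) →
      (h : G) ∈ normalizer ((Q ⊔ W1.map N.subtype : Subgroup G) : Set G) := fun h hh =>
    normalizer_inf_normalizer_le_normalizer_sup _ _
      ⟨h.2, le_normalizer_map N.subtype (mem_map_of_mem _ hh)⟩
  refine ⟨sup_le hQP fun w hw => ?_, fun s hs => hup ⟨s, hPN hs⟩ (hPW _ hs), fun A hA g hg => ?_⟩
  · obtain ⟨w', hw', rfl⟩ := hw
    have := (hW1R hw').1
    rw [hP'c] at this
    exact this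
  obtain ⟨h, hh, c, hc, rfl⟩ := hQc A hA g hg
  have hAN : A ≤ N := hA.trans hPN
  obtain ⟨h', hh', c', hc', he⟩ := hctrl' (A.subgroupOf N) (by rw [hP'c]; exact fun a ha => hA ha)
    ⟨h, hh⟩ (by
      rw [hP'c]
      rintro _ ⟨a, ha, rfl⟩
      have h1 : h * c * a * (h * c)⁻¹ ∈ (P : Subgroup G) := hg (conj_mem_cj _ ha)
      show h * (a : G) * h⁻¹ ∈ (P : Subgroup G)
      convert h1 using 1
      calc h * (a : G) * h⁻¹ = h * ((a : G) * c) * c⁻¹ * h⁻¹ := by group
        _ = h * (c * a) * c⁻¹ * h⁻¹ := by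
          rw [show (a : G) * c = c * a from mem_centralizer_iff.mp hc (a : G) ha]
        _ = h * c * a * (h * c)⁻¹ := by group)
  refine ⟨h', hup h' hh', (c' : G) * c, mul_mem (mem_centralizer_iff.mpr fun a ha => ?_) hc, ?_⟩
  · exact congrArg Subtype.val (mem_centralizer_iff.mp hc' ⟨a, hAN ha⟩ ha)
  · rw [← mul_assoc]
    exact congrArg (fun z : N => (z : G) * c) he

/-- In a maximal good subgroup `Q`, every element of `P` centralising `Q` lies in `Q`. -/
theorem inf_centralizer_le_of_maximal (hp2 : p ≠ 2) (hG : SLFree p G) (P : Sylow p G) {Q : Subgroup G}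
    (hQ : Good (P : Subgroup G) Q)
    (hmax : ∀ Q', Q ≤ Q' → Good (P : Subgroup G) Q' → Q' = Q) :
    (P : Subgroup G) ⊓ centralizer (Q : Set G) ≤ Q := by
  set C := centralizer (Q : Set G) with hC
  set N := normalizer (Q : Set G) with hN
  have hCN : C ≤ N := centralizer_le_normalizer _
  have hNC : N ≤ normalizer (C : Set G) :=
    (normal_subgroupOf_iff_le_normalizer hCN).mp (normal_subgroupOf_centralizer_normalizer (Q : Set G))
  set D := (P : Subgroup G) ⊓ C with hD
  have hDS : IsSylowIn p D C := ((isSylowIn_top P).of_le hQ.2.1 le_top).inf_of_normal hCN hNC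
  set Z0 : Subgroup C := Q.subgroupOf C with hZ0
  have hZc : Z0 ≤ center C := fun z hz => mem_center_iff.mpr fun x =>
    Subtype.ext ((mem_centralizer_iff.mp x.2 (z : G) hz).symm)
  haveI : Z0.Normal := ⟨fun z hz x => by rwa [mem_center_iff.mp (hZc hz) x, mul_inv_cancel_right]⟩
  set S0 : Subgroup C := D.subgroupOf C with hS0
  have hS : IsSylowIn p S0 ⊤ := isSylowIn_subgroupOf hDS
  have hZS : Z0 ≤ S0 := fun z hz => ⟨hQ.1 hz, z.2⟩
  set π := QuotientGroup.mk' Z0 with hπ
  set Sb := S0.map π with hSb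
  have hSbs : IsSylowIn p Sb ⊤ := isSylowIn_map hS π (QuotientGroup.mk'_surjective _)
  set Wb := centerThompsonAOf Sb with hWb
  have hfus := slFree_fusControls hp2
    (slFree_of_surjective π (QuotientGroup.mk'_surjective _) (slFree_subgroup hG C)) hSbs
  set M : Subgroup C := (normalizer (Wb : Set (C ⧸ Z0))).comap π with hM
  have hWbS : Wb ≤ Sb := by
    rw [hWb, ← inducedFunctor_zjFun]
    exact inducedFunctor_le _
  have hSM : S0 ≤ M := map_le_iff_le_comap.mp (by
    have := le_normalizer_functor (isConjugacyFunctor_induced (G := C ⧸ Z0) (isCharPFunctor_zjFun (p := p)))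
      hSbs.2.1
    rwa [inducedFunctor_zjFun] at this)
  have hfus' : FusControls {M} S0 ⊤ := by
    refine fusControls_of_quotient_central hZc hS hZS hSM ?_
    rw [Set.image_singleton, hM, map_comap_eq_self_of_surjective (QuotientGroup.mk'_surjective _)]
    exact hfus
  set W0 : Subgroup C := Wb.comap π with hW0
  have hW0S : W0 ≤ S0 := by
    refine (comap_mono hWbS).trans ?_
    rw [hSb, comap_map_eq, QuotientGroup.ker_mk']
    exact sup_le le_rfl hZS
  have hMW : M = normalizer (W0 : Set C) :=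
    comap_normalizer_eq_of_surjective Wb (QuotientGroup.mk'_surjective _)
  obtain ⟨W, hVW, hWD, hgood⟩ := good_of_control_normal P hQ C hCN hNC (W0.map C.subtype)
    ((map_mono hW0S).trans (by rw [hS0, subgroupOf_map_subtype]; exact inf_le_left)) (by
    intro A hA n hn hnA
    obtain ⟨x, hx, hxA⟩ := (hfus' ((A.subgroupOf C : Subgroup C) : Set C) ⟨n, hn⟩ trivial
      (fun a ha => hA ha) (by
        rintro _ ⟨a, ha, rfl⟩
        exact hnA (conj_mem_cj n ha))).exists_mem_of_singleton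
    rw [hMW] at hx
    refine ⟨x, ⟨x.2, le_normalizer_map C.subtype (mem_map_of_mem _ hx)⟩, (x : G)⁻¹ * n,
      ⟨C.mul_mem (C.inv_mem x.2) hn, mem_centralizer_iff.mpr fun a ha => ?_⟩, by group⟩
    have := congrArg Subtype.val (hxA ⟨a, (hA ha).2⟩ ha)
    simp only [Subgroup.coe_mul, Subgroup.coe_inv] at this
    calc a * ((x : G)⁻¹ * n) = (x : G)⁻¹ * ((x : G) * a * (x : G)⁻¹) * n := by group
      _ = (x : G)⁻¹ * (n * a * n⁻¹) * n := by rw [this]
      _ = (x : G)⁻¹ * n * a := by group)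
  have hWQ : W0.map C.subtype ≤ Q := hVW.trans ((le_sup_right : W ≤ Q ⊔ W).trans (hmax _ le_sup_left hgood).le)
  have hWb1 : Wb = ⊥ := by
    rw [← map_comap_eq_self_of_surjective (QuotientGroup.mk'_surjective Z0) Wb, Subgroup.map_eq_bot_iff,
      QuotientGroup.ker_mk']
    exact fun w hw => hWQ (mem_map_of_mem _ hw)
  have hSb1 : Sb = ⊥ := by
    by_contra hne
    apply functor_ne_bot (isConjugacyFunctor_induced (G := C ⧸ Z0) (isCharPFunctor_zjFun (p := p)))
      hSbs.2.1 hne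
    rw [inducedFunctor_zjFun]
    exact hWb1
  intro d hd
  rw [hSb, Subgroup.map_eq_bot_iff, QuotientGroup.ker_mk'] at hSb1
  exact hSb1 (show (⟨d, hd.2⟩ : C) ∈ S0 from hd)

/-- A centric-radical subgroup in the sense of the statement. -/
def CentricRadical (p : ℕ) (Q : Subgroup G) : Prop :=
  (∃ R : Sylow p ↥(centralizer (Q : Set G)),
      (R : Subgroup ↥(centralizer (Q : Set G))).map (centralizer (Q : Set G)).subtype =
        Q ⊓ centralizer (Q : Set G)) ∧
    ∀ X : Subgroup G, X ≤ normalizer (Q : Set G) →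
      (∀ n ∈ normalizer (Q : Set G), X.map (MulAut.conj n).toMonoidHom = X) →
      Q ⊔ centralizer (Q : Set G) ≤ X →
      (∃ k : ℕ, (Q ⊔ centralizer (Q : Set G)).relIndex X = p ^ k) →
      X = Q ⊔ centralizer (Q : Set G)

theorem centricRadical_of_maximal (hp2 : p ≠ 2) (hG : SLFree p G) (P : Sylow p G) {Q : Subgroup G}
    (hQ : Good (P : Subgroup G) Q)
    (hmax : ∀ Q', Q ≤ Q' → Good (P : Subgroup G) Q' → Q' = Q) : CentricRadical p Q := by
  have hcent := inf_centralizer_le_of_maximal hp2 hG P hQ hmax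
  set C := centralizer (Q : Set G) with hC
  set N := normalizer (Q : Set G) with hN
  have hCN : C ≤ N := centralizer_le_normalizer _
  have hNC : N ≤ normalizer (C : Set G) :=
    (normal_subgroupOf_iff_le_normalizer hCN).mp (normal_subgroupOf_centralizer_normalizer (Q : Set G))
  have hPin : IsSylowIn p (P : Subgroup G) N := (isSylowIn_top P).of_le hQ.2.1 le_top
  set D := (P : Subgroup G) ⊓ C with hD
  have hDS : IsSylowIn p D C := hPin.inf_of_normal hCN hNC
  refine ⟨⟨(hDS.2.1.comap_subtype (K := C)).toSylow hDS.2.2, ?_⟩, fun X hXN hXn hle ⟨k, hk⟩ => ?_⟩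
  · show (D.subgroupOf C).map C.subtype = _
    refine (map_subgroupOf_eq_of_le hDS.1).trans (le_antisymm (fun d hd => ⟨hcent hd, hd.2⟩) ?_)
    exact inf_le_inf_right _ hQ.1
  have hNX : N ≤ normalizer (X : Set G) := fun n hn => mem_normalizer_iff_cj.mpr (hXn n hn)
  set Q1 := (P : Subgroup G) ⊓ X with hQ1
  have hQ1s : IsSylowIn p Q1 X := hPin.inf_of_normal hXN hNX
  have hQQ1 : Q ≤ Q1 := le_inf hQ.1 (le_sup_left.trans hle)
  have hCX : C ≤ X := le_sup_right.trans hle
  have hXeq : X = C ⊔ Q1 := by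
    refine le_antisymm ?_ (sup_le hCX inf_le_right)
    have h0 : Q ⊔ C ≤ C ⊔ Q1 := sup_le (hQQ1.trans le_sup_right) le_sup_left
    have h1 : (C ⊔ Q1).relIndex X ∣ p ^ k := hk ▸ relIndex_dvd_of_le_left X h0
    have h2 : ¬ p ∣ (C ⊔ Q1).relIndex X := fun hd =>
      hQ1s.2.2 (hd.trans (relIndex_dvd_of_le_left X le_sup_right))
    obtain ⟨i, -, hi⟩ := (Nat.dvd_prime_pow hp.out).mp h1
    rcases i with _ | i
    · exact relIndex_eq_one.mp (by simpa using hi)
    · exact absurd (hi ▸ dvd_pow_self p (Nat.succ_ne_zero i)) h2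
  -- `p`-elements of `C` lie in `D`
  have hpel : ∀ c ∈ C, (∃ j : ℕ, c ^ p ^ j = 1) → c ∈ D := by
    intro c hc ⟨j, hj⟩
    obtain ⟨a, ha, hac⟩ := hDS.exists_cj_le (zpowers_le.mpr hc) (IsPGroup.of_card_dvd_pow (n := j)
      (Nat.card_zpowers c ▸ orderOf_dvd_of_pow_eq_one hj))
    have h1 : a * c * a⁻¹ ∈ D := hac (conj_mem_cj a (mem_zpowers c))
    have h2 : a⁻¹ * (a * c * a⁻¹) * a = a * c * a⁻¹ := by
      rw [mul_assoc, mem_centralizer_iff.mp ha _ (hcent h1), ← mul_assoc, inv_mul_cancel, one_mul]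
    have h3 : c = a * c * a⁻¹ := by
      conv_lhs => rw [show c = a⁻¹ * (a * c * a⁻¹) * a by group, h2]
    rw [h3]; exact h1
  obtain ⟨W, hVW, hWX, hgood⟩ := good_of_control_normal P hQ X hXN hNX Q1 le_rfl (by
    intro A hA n hn hnA
    have hn' : n ∈ Q1 ⊔ C := by rw [sup_comm, ← hXeq]; exact hn
    rw [← SetLike.mem_coe, coe_mul_of_left_le_normalizer_right Q1 C
      ((inf_le_right.trans hXN).trans hNC)] at hn'
    obtain ⟨q, hq, k0, hk0, rfl⟩ := Set.mem_mul.mp hn'
    -- split off the `p`-part of `k0`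
    obtain ⟨d, hd, k1, hk1, hk1c, hdk⟩ : ∃ d ∈ D, ∃ k1 ∈ C, (orderOf k1).Coprime p ∧ d * k1 = k0 := by
      obtain ⟨i, m, hm, hi⟩ := Nat.exists_eq_pow_mul_and_not_dvd (orderOf_pos k0).ne' p hp.out.ne_one
      have hcm : Nat.Coprime (p ^ i) m := Nat.Coprime.pow_left _ (hp.out.coprime_iff_not_dvd.mpr hm)
      obtain ⟨j, hj0, hj1⟩ := Nat.chineseRemainder hcm 1 0
      obtain ⟨c, rfl⟩ := Nat.modEq_zero_iff_dvd.mp hj1
      refine ⟨k0 ^ (m * c), hpel _ (C.pow_mem hk0 _) ⟨i, ?_⟩, (k0 ^ (m * c))⁻¹ * k0,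
        C.mul_mem (C.inv_mem (C.pow_mem hk0 _)) hk0, ?_, mul_inv_cancel_left _ _⟩
      · rw [← pow_mul, show m * c * p ^ i = orderOf k0 * c by rw [hi]; ring, pow_mul,
          pow_orderOf_eq_one, one_pow]
      · refine Nat.Coprime.coprime_dvd_left (orderOf_dvd_of_pow_eq_one (n := m) ?_)
          (Nat.Coprime.symm (hp.out.coprime_iff_not_dvd.mpr hm))
        rw [((Commute.refl k0).pow_left _).inv_left.mul_pow, inv_pow, ← pow_mul]
        have hmod : m * c * m ≡ m [MOD orderOf k0] := by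
          rw [hi]
          have := Nat.ModEq.mul_right' m hj0
          simpa [mul_comm (p ^ i)] using this
        rw [pow_eq_pow_iff_modEq.mpr hmod, inv_mul_cancel]
    refine ⟨q * d, ⟨X.mul_mem hq.2 (hCX hd.2), ?_⟩, k1, ⟨hCX hk1, ?_⟩, by rw [mul_assoc, hdk]⟩
    · exact le_normalizer (mul_mem hq ⟨hd.1, hCX hd.2⟩)
    · refine mem_centralizer_iff.mpr fun a ha => ?_
      set z := k1 * a * k1⁻¹ * a⁻¹ with hz
      have haN : a ∈ N := hXN (hA ha).2
      have hzC : z ∈ C := by
        have h1 : a * k1⁻¹ * a⁻¹ ∈ C := (mem_normalizer_iff.mp (hNC haN) _).mp (C.inv_mem hk1)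
        simpa [hz, mul_assoc] using C.mul_mem hk1 h1
      have hk1a : k1 * a * k1⁻¹ ∈ Q1 := by
        have h1 : q * k0 * a * (q * k0)⁻¹ ∈ Q1 := hnA (conj_mem_cj _ ha)
        have h2 := Q1.mul_mem (Q1.mul_mem (Q1.inv_mem (Q1.mul_mem hq ⟨hd.1, hCX hd.2⟩)) h1)
          (Q1.mul_mem hq ⟨hd.1, hCX hd.2⟩)
        rw [← hdk] at h2
        simpa [mul_assoc] using h2
      have hzQ : z ∈ Q := hcent ⟨(Q1.mul_mem hk1a (Q1.inv_mem (hA ha))).1, hzC⟩
      have hstep : ∀ i : ℕ, k1 ^ i * a * (k1 ^ i)⁻¹ = z ^ i * a := by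
        intro i
        induction i with
        | zero => simp
        | succ j ih =>
          calc k1 ^ (j + 1) * a * (k1 ^ (j + 1))⁻¹ = k1 * (k1 ^ j * a * (k1 ^ j)⁻¹) * k1⁻¹ := by
                rw [pow_succ']; group
            _ = (k1 * z ^ j * k1⁻¹) * (k1 * a * k1⁻¹) := by rw [ih]; group
            _ = z ^ j * (z * a) := by
              rw [← mem_centralizer_iff.mp hk1 _ (Q.pow_mem hzQ j), mul_inv_cancel_right,
                show z * a = k1 * a * k1⁻¹ from inv_mul_cancel_right _ _]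
            _ = z ^ (j + 1) * a := by rw [pow_succ]; group
      have h3 := hstep (orderOf k1)
      rw [pow_orderOf_eq_one, inv_one, mul_one, one_mul, eq_comm, mul_eq_right] at h3
      obtain ⟨i, hi⟩ := P.isPGroup'.to_le hQ.1 ⟨z, hzQ⟩
      have hz1 : z = 1 := orderOf_eq_one_iff.mp (Nat.eq_one_of_dvd_coprimes (hk1c.pow_right i)
        (orderOf_dvd_of_pow_eq_one h3) (orderOf_dvd_of_pow_eq_one (congrArg Subtype.val hi)))
      have h4 : k1 * a * k1⁻¹ = a := mul_inv_eq_one.mp hz1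
      exact (mul_inv_eq_iff_eq_mul.mp h4).symm)
  have hQ1Q : Q1 ≤ Q := hVW.trans ((le_sup_right : W ≤ Q ⊔ W).trans (hmax _ le_sup_left hgood).le)
  rw [hXeq]
  exact le_antisymm (sup_le le_sup_right (hQ1Q.trans le_sup_left))
    (sup_le (hQQ1.trans le_sup_right) le_sup_left)

omit hp in
/-- A good subgroup lies in every centric-radical subgroup. -/
theorem good_le_centricRadical [Fact p.Prime] (P : Sylow p G) {Q R : Subgroup G}
    (hQ : Good (P : Subgroup G) Q) (hRP : R ≤ (P : Subgroup G)) (hR : CentricRadical p R) : Q ≤ R := by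
  set C := centralizer (R : Set G) with hC
  set N := normalizer (R : Set G) with hN
  obtain ⟨⟨T, hT⟩, hrad⟩ := hR
  have hCN : C ≤ N := centralizer_le_normalizer _
  have hNC : N ≤ normalizer (C : Set G) :=
    (normal_subgroupOf_iff_le_normalizer hCN).mp (normal_subgroupOf_centralizer_normalizer (R : Set G))
  set L := Q ⊓ N with hL
  set X := L ⊔ (R ⊔ C) with hX
  have hXN : X ≤ N := sup_le inf_le_right (sup_le le_normalizer hCN)
  have hXn : ∀ n ∈ N, n *• X = X := by
    intro n hn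
    obtain ⟨h, hh, c, hc, rfl⟩ := hQ.2.2 R hRP n (by rw [cj_eq_of_mem_normalizer hn]; exact hRP)
    have hhN : h ∈ N := by simpa using mul_mem hn (inv_mem (hCN hc))
    have hh' : h *• X = X := by
      rw [hX, hL, Subgroup.map_sup, Subgroup.map_sup, cj_inf, cj_eq_of_mem_normalizer hh,
        cj_eq_of_mem_normalizer (le_normalizer hhN), cj_eq_of_mem_normalizer hhN,
        cj_eq_of_mem_normalizer (hNC hhN)]
    rw [← cj_cj, cj_self_of_mem (mem_sup_right (mem_sup_right hc)), hh']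
  have hidx : ∃ k : ℕ, (R ⊔ C).relIndex X = p ^ k := by
    have hLn : L ≤ normalizer ((R ⊔ C : Subgroup G) : Set G) :=
      inf_le_right.trans (le_trans (le_inf le_rfl hNC) (normalizer_inf_normalizer_le_normalizer_sup R C))
    haveI : ((R ⊔ C).subgroupOf X).Normal :=
      normal_subgroupOf_of_le_normalizer (sup_le hLn le_normalizer)
    let f : L →* X ⧸ (R ⊔ C).subgroupOf X :=
      (QuotientGroup.mk' _).comp (Subgroup.inclusion (le_sup_left : L ≤ X))
    have hf : Function.Surjective f := by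
      intro z
      obtain ⟨⟨z, hz⟩, rfl⟩ := QuotientGroup.mk'_surjective _ z
      obtain ⟨l, hl, c, hc, rfl⟩ : z ∈ (L : Set G) * ((R ⊔ C : Subgroup G) : Set G) := by
        rw [← coe_mul_of_left_le_normalizer_right L (R ⊔ C) hLn]
        exact hz
      refine ⟨⟨l, hl⟩, QuotientGroup.eq.mpr (mem_subgroupOf.mpr ?_)⟩
      simpa [Subgroup.coe_inclusion] using hc
    obtain ⟨j, hj⟩ := IsPGroup.iff_card.mp
      ((P.isPGroup'.to_le (inf_le_left.trans hQ.1 : L ≤ _)).of_surjective f hf)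
    exact ⟨j, hj⟩
  have hXeq : X = R ⊔ C := hrad X hXN hXn le_sup_right hidx
  -- the `p`-subgroup `P ⊓ C` is `Z(R)`
  have hPC : (P : Subgroup G) ⊓ C ≤ R := by
    have hle : R.subgroupOf C ≤ ((P : Subgroup G) ⊓ C).subgroupOf C := fun x hx => ⟨hRP hx, x.2⟩
    have hTe : (T : Subgroup C) = R.subgroupOf C := by
      apply map_injective C.subtype_injective
      rw [subgroupOf_map_subtype]
      exact hT
    have := T.is_maximal' (P.isPGroup'.to_inf_left.comap_subtype (K := C)) (hTe.le.trans hle)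
    intro x hx
    have hx' : (⟨x, hx.2⟩ : C) ∈ ((P : Subgroup G) ⊓ C).subgroupOf C := hx
    rw [show ((P : Subgroup G) ⊓ C).subgroupOf C = (T : Subgroup C) from this, hTe] at hx'
    exact hx'
  have hLR : L ≤ R := by
    intro l hl
    have hl' : l ∈ R ⊔ C := hXeq ▸ mem_sup_left hl
    rw [← SetLike.mem_coe, coe_mul_of_left_le_normalizer_right R C (le_normalizer.trans hNC)] at hl'
    obtain ⟨r, hr, c, hc, rfl⟩ := Set.mem_mul.mp hl'
    refine R.mul_mem hr (hPC ⟨?_, hc⟩)
    have := (P : Subgroup G).mul_mem ((P : Subgroup G).inv_mem (hRP hr)) (hQ.1 hl.1)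
    rwa [inv_mul_cancel_left] at this
  by_contra hQR
  have hlt : R < Q ⊔ R := lt_of_le_of_ne le_sup_right fun h => hQR (h ▸ le_sup_left)
  refine (lt_inf_normalizer (P.isPGroup'.to_le (sup_le hQ.1 hRP)) hlt).not_ge fun z hz => ?_
  have hz' : z ∈ R ⊔ Q := sup_comm Q R ▸ hz.1
  rw [← SetLike.mem_coe, coe_mul_of_left_le_normalizer_right R Q (hRP.trans hQ.2.1)] at hz'
  obtain ⟨r, hr, q, hq, rfl⟩ := Set.mem_mul.mp hz'
  refine R.mul_mem hr (hLR ⟨hq, ?_⟩)
  simpa using mul_mem (inv_mem (le_normalizer hr : r ∈ N)) hz.2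

/-- The main theorem. -/
theorem exists_least_centricRadical (hp2 : p ≠ 2) (hG : SLFree p G) (P : Sylow p G) :
    ∃ Q : Subgroup G, Good (P : Subgroup G) Q ∧ CentricRadical p Q ∧
      ∀ R : Subgroup G, R ≤ (P : Subgroup G) → CentricRadical p R → Q ≤ R := by
  obtain ⟨Q, hQ, hmax⟩ := Set.Finite.exists_maximalFor (fun Q : Subgroup G => Q)
    {Q : Subgroup G | Good (P : Subgroup G) Q} (Set.toFinite _) ⟨⊥, good_bot _⟩
  have hmax' : ∀ Q', Q ≤ Q' → Good (P : Subgroup G) Q' → Q' = Q := fun Q' hle hQ' =>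
    le_antisymm (hmax hQ' hle) hle
  exact ⟨Q, hQ, centricRadical_of_maximal hp2 hG P hQ hmax',
    fun R hR hcr => good_le_centricRadical P hQ hR hcr⟩

end CfsgLib.Techniques
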