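import Cfsg.Agent.PLocal.TwoTransvection
import Cfsg.Agent.Transfer.Residual
import Mathlib.RingTheory.LittleWedderburn
import Mathlib.Algebra.CharP.Lemmas

/-!
# Irreducible groups generated by two quadratic elements, `p ≥ 5`

If a finite group acts irreducibly on an elementary abelian `p`-group and is generated by two
elements with `(x - 1)² = 0`, then it contains `-1` and a non-trivial quadratic element of its
`p`-residual.
-/

set_option autoImplicit false

namespace CfsgLib.Techniques.QPair

open Matrix CfsgLib.PLocal.SL2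
open scoped MatrixGroups

/-- `up 1` lies in `O^p(SL(2, p))` for `p ≥ 5`. -/
theorem up_one_mem_pResidual {p : ℕ} [Fact p.Prime] (hp : 3 < p) :
    up (1 : ZMod p) ∈ Cfsg.pResidual p SL(2, ZMod p) := by
  have hpp : p.Prime := Fact.out
  have hnat : ∀ n : ℕ, 0 < n → n < p → (n : ZMod p) ≠ 0 := fun n h1 h2 => by
    rw [ne_eq, ZMod.natCast_eq_zero_iff]
    exact Nat.not_dvd_of_pos_of_lt h1 h2
  have h2 : (2 : ZMod p) ≠ 0 := by simpa using hnat 2 (by norm_num) (by omega)
  have h3 : (3 : ZMod p) ≠ 0 := by simpa using hnat 3 (by norm_num) (by omega)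
  let D : SL(2, ZMod p) := ⟨!![2, 0; 0, 2⁻¹], by simp [Matrix.det_fin_two, h2]⟩
  have hDpow : ∀ n : ℕ, ((D ^ n : SL(2, ZMod p)) : Matrix (Fin 2) (Fin 2) (ZMod p)) =
      !![(2 : ZMod p) ^ n, 0; 0, (2 : ZMod p)⁻¹ ^ n] := by
    intro n
    induction n with
    | zero => ext i j; fin_cases i <;> fin_cases j <;> simp
    | succ n ih =>
      rw [pow_succ, Matrix.SpecialLinearGroup.coe_mul, ih]
      ext i j; fin_cases i <;> fin_cases j <;> simp [D, Matrix.mul_apply, Fin.sum_univ_two, pow_succ]
  have hD : D ∈ Cfsg.pResidual p SL(2, ZMod p) := by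
    refine CfsgLib.Transfer.mem_pResidual_of_coprime (Nat.Coprime.coprime_dvd_left
      (orderOf_dvd_of_pow_eq_one (n := p - 1) (Subtype.ext ?_)) ?_)
    · rw [hDpow, ZMod.pow_card_sub_one_eq_one h2, ZMod.pow_card_sub_one_eq_one (inv_ne_zero h2)]
      ext i j; fin_cases i <;> fin_cases j <;> simp
    · refine Nat.Coprime.symm ((Nat.Prime.coprime_iff_not_dvd hpp).mpr fun hd => ?_)
      have := Nat.le_of_dvd (by omega) hd
      omega
  set N := Cfsg.pResidual p SL(2, ZMod p)
  have hconj : D * up 1 * D⁻¹ = up (4 : ZMod p) := by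
    rw [mul_inv_eq_iff_eq_mul]
    apply ext2 <;> rw [mul_apply2, mul_apply2] <;> simp [D] <;> field_simp <;> norm_num
  have hk : up (3 : ZMod p) ∈ N := by
    have h1 : D * up 1 * D⁻¹ * (up (1 : ZMod p))⁻¹ ∈ N := by
      have := N.mul_mem hD ((inferInstance : N.Normal).conj_mem _ (N.inv_mem hD) (up 1))
      simpa [mul_assoc] using this
    rw [hconj, up_inv, up_mul] at h1
    norm_num at h1
    exact h1
  have := N.pow_mem hk ((3 : ZMod p)⁻¹).val
  rwa [up_pow, ZMod.natCast_zmod_val, inv_mul_cancel₀ h3] at this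

theorem eq_neg_one_of_sq {F : Type*} [Field F] (h2 : (2 : F) ≠ 0) {g : SL(2, F)} (hg : g * g = 1)
    (hne : g ≠ 1) : g = -1 := by
  have e00 := congrArg (fun m : SL(2, F) => m 0 0) hg
  have e01 := congrArg (fun m : SL(2, F) => m 0 1) hg
  have e10 := congrArg (fun m : SL(2, F) => m 1 0) hg
  have hd := det2 g
  simp [mul_apply2] at e00 e01 e10
  have e11 := congrArg (fun m : SL(2, F) => m 1 1) hg
  simp [mul_apply2] at e11
  have hsum : g 0 0 + g 1 1 ≠ 0 := by
    intro h
    apply h2
    linear_combination (-1 : F) * e00 - hd + g 0 0 * h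
  have h01 : g 0 1 = 0 := by
    have : g 0 1 * (g 0 0 + g 1 1) = 0 := by linear_combination e01
    exact (mul_eq_zero.mp this).resolve_right hsum
  have h10 : g 1 0 = 0 := by
    have : g 1 0 * (g 0 0 + g 1 1) = 0 := by linear_combination e10
    exact (mul_eq_zero.mp this).resolve_right hsum
  rw [h01, zero_mul, add_zero] at e00
  rw [h01, zero_mul, sub_zero] at hd
  have h11 : g 1 1 = g 0 0 := by linear_combination g 0 0 * hd - g 1 1 * e00
  rcases mul_self_eq_one_iff.mp e00 with h | h
  · exact absurd (ext2 (by simpa using h) (by simpa using h01) (by simpa using h10)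
      (by simpa [h11] using h)) hne
  · exact ext2 (by simpa using h) (by simpa using h01) (by simpa using h10) (by simpa [h11] using h)

variable {p : ℕ} [Fact p.Prime] {V : Type*} [AddCommGroup V] [Finite V] [Nontrivial V]
variable {H : Type*} [Group H] [Finite H]

/-- An irreducible group generated by two quadratic elements contains a copy of `SL(2, p)` whose
central involution is `-1` and whose unipotent elements are quadratic. -/
theorem exists_sl2 (hp2 : p ≠ 2) (hV : ∀ v : V, p • v = 0)
    (ρ : H →* AddMonoid.End V)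
    (hirr : ∀ W : AddSubgroup V, (∀ h, ∀ w ∈ W, ρ h w ∈ W) → W = ⊥ ∨ W = ⊤)
    {x y : H} (hgen : Subgroup.closure ({x, y} : Set H) = ⊤) (hx1 : ρ x ≠ 1)
    (hx : (ρ x - 1) * (ρ x - 1) = 0) (hy : (ρ y - 1) * (ρ y - 1) = 0) :
    ∃ f : SL(2, ZMod p) →* AddMonoid.End V, (∀ g, ∃ h, ρ h = f g) ∧ (∀ g, f g = 1 → g = 1) ∧
      f (-1) = -1 ∧ (f (up 1) - 1) * (f (up 1) - 1) = 0 := by
  classical
  have hpp : p.Prime := Fact.out
  have happ : ∀ (f g : AddMonoid.End V) (v : V), (f * g) v = f (g v) := fun _ _ _ => rfl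
  set A := ρ x - 1 with hA
  set B := ρ y - 1 with hB
  have hAA : A * A = 0 := hx
  have hBB : B * B = 0 := hy
  have hAn : A ≠ 0 := fun h => hx1 (sub_eq_zero.mp h)
  have hρx : ρ x = 1 + A := by rw [hA]; abel
  have hρy : ρ y = 1 + B := by rw [hB]; abel
  have hind : ∀ P : H → Prop, P 1 → (∀ a b, P a → P b → P (a * b)) → P x → P y → ∀ h, P h := by
    intro P h1 hmul hPx hPy h
    have hh : h ∈ Subgroup.closure ({x, y} : Set H) := hgen ▸ Subgroup.mem_top h
    induction hh using Subgroup.closure_induction with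
    | mem z hz =>
      rcases hz with rfl | hz
      · exact hPx
      · rw [Set.mem_singleton_iff] at hz; subst hz; exact hPy
    | one => exact h1
    | mul a b _ _ ha hb => exact hmul a b ha hb
    | inv a _ ha =>
      rw [show a⁻¹ = a ^ (orderOf a - 1) from (eq_inv_of_mul_eq_one_left (by
        rw [← pow_succ, Nat.sub_add_cancel (orderOf_pos a), pow_orderOf_eq_one])).symm]
      induction orderOf a - 1 with
      | zero => simpa using h1
      | succ k ih => rw [pow_succ]; exact hmul _ _ ih ha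
  have hinv : ∀ W : AddSubgroup V, (∀ w ∈ W, A w ∈ W) → (∀ w ∈ W, B w ∈ W) → W = ⊥ ∨ W = ⊤ := by
    intro W hWA hWB
    refine hirr W (hind _ (fun w hw => by simpa using hw) (fun a b ha hb w hw => ?_) ?_ ?_)
    · rw [map_mul, happ]; exact ha _ (hb _ hw)
    · intro w hw; rw [hρx]; exact W.add_mem hw (hWA w hw)
    · intro w hw; rw [hρy]; exact W.add_mem hw (hWB w hw)
  set C := A * B + B * A with hC
  have hCA : Commute C A := by
    show C * A = A * C
    rw [hC, add_mul, mul_add, mul_assoc B A A, hAA, mul_zero, add_zero, ← mul_assoc A A B, hAA,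
      zero_mul, zero_add, mul_assoc]
  have hCB : Commute C B := by
    show C * B = B * C
    rw [hC, add_mul, mul_add, mul_assoc A B B, hBB, mul_zero, zero_add, ← mul_assoc B B A, hBB,
      zero_mul, add_zero, mul_assoc]
  have hC0 : C ≠ 0 := by
    intro h
    have hBA : ∀ v, B (A v) = - A (B v) := fun v => by
      have := DFunLike.congr_fun h v
      rw [hC] at this
      exact eq_neg_of_add_eq_zero_right this
    rcases hinv (AddMonoidHom.range (show V →+ V from A)) (fun w _ => ⟨w, rfl⟩)
      (by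
        rintro _ ⟨v, rfl⟩
        exact ⟨-(B v), show A (-(B v)) = B (A v) by rw [map_neg, hBA v]⟩) with h1 | h1
    · exact hAn (AddMonoidHom.range_eq_bot_iff.mp h1)
    · refine hAn (AddMonoidHom.ext fun v => ?_)
      obtain ⟨w, rfl⟩ : v ∈ AddMonoidHom.range (show V →+ V from A) := h1 ▸ AddSubgroup.mem_top v
      exact DFunLike.congr_fun hAA w
  set F : Subring (AddMonoid.End V) := Subring.closure {C} with hF
  have hFc : ∀ f ∈ F, Commute f A ∧ Commute f B := by
    intro f hf
    have hle : F ≤ Subring.centralizer {A, B} := by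
      rw [hF, Subring.closure_le, Set.singleton_subset_iff]
      rintro z (rfl | hz)
      · exact hCA.symm
      · rw [Set.mem_singleton_iff] at hz; subst hz; exact hCB.symm
    exact ⟨((Subring.mem_centralizer_iff).mp (hle hf) A (Or.inl rfl)).symm,
      ((Subring.mem_centralizer_iff).mp (hle hf) B (Or.inr rfl)).symm⟩
  haveI : Finite (AddMonoid.End V) := Finite.of_injective _ (DFunLike.coe_injective (F := AddMonoid.End V))
  letI instCR : CommRing F := Subring.closureCommRingOfComm (fun a ha b hb => by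
    rw [Set.mem_singleton_iff] at ha hb; rw [ha, hb])
  haveI : Nontrivial (AddMonoid.End V) := ⟨⟨A, 0, hAn⟩⟩
  haveI : Nontrivial F := ⟨⟨0, 1, fun h => zero_ne_one (congrArg Subtype.val h)⟩⟩
  have hinjF : ∀ f ∈ F, f ≠ 0 → Function.Injective f := by
    intro f hf hf0
    obtain ⟨h1, h2⟩ := hFc f hf
    rcases hinv (AddMonoidHom.ker (show V →+ V from f)) (fun w hw => by
        show f (A w) = 0
        rw [← happ, h1.eq, happ, show f w = 0 from hw, map_zero])
      (fun w hw => by
        show f (B w) = 0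
        rw [← happ, h2.eq, happ, show f w = 0 from hw, map_zero])
      with h | h
    · exact (AddMonoidHom.ker_eq_bot_iff _).mp h
    · exact absurd (AddMonoidHom.ext fun v => (AddMonoidHom.mem_ker.mp (show v ∈ AddMonoidHom.ker (show V →+ V from f) from h ▸ AddSubgroup.mem_top v) : f v = 0)) hf0
  haveI : NoZeroDivisors F := ⟨fun {a b} hab => by
    by_contra h
    push Not at h
    apply h.2
    refine Subtype.ext (AddMonoidHom.ext fun v => hinjF a a.2 (fun h0 => h.1 (Subtype.ext h0)) ?_)
    show ((a * b : F) : AddMonoid.End V) v = _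
    rw [hab]
    exact (map_zero (a : AddMonoid.End V)).symm⟩
  haveI : IsDomain F := NoZeroDivisors.to_isDomain F
  haveI : Finite F := inferInstance
  letI instF : Field F := (Finite.isField_of_domain F).toField
  haveI : CharP F p := (CharP.charP_iff_prime_eq_zero hpp).mpr (Subtype.ext (by
    push_cast
    refine AddMonoidHom.ext fun v => ?_
    show (p : AddMonoid.End V) v = 0
    rw [AddMonoid.End.natCast_apply]; exact hV v))
  let c : F := ⟨C, Subring.subset_closure rfl⟩
  have hc : c ≠ 0 := fun h => hC0 (congrArg Subtype.val h)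
  let d : F := c⁻¹
  set D : AddMonoid.End V := (d : AddMonoid.End V) with hD
  have hCD : C * D = 1 := congrArg Subtype.val (mul_inv_cancel₀ hc)
  obtain ⟨hDA, hDB⟩ := hFc D d.2
  -- the four matrix units
  set e11 := A * B * D with he11
  set e21 := B * D with he21
  set e22 := B * A * D with he22
  have hBA' : B * A = C - A * B := by rw [hC]; abel
  have hAB' : A * B = C - B * A := by rw [hC]; abel
  have hABA : A * B * A = A * C := by
    rw [mul_assoc, hBA', mul_sub, ← mul_assoc A A B, hAA, zero_mul, sub_zero]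
  have hBAB : B * A * B = B * C := by
    rw [mul_assoc, hAB', mul_sub, ← mul_assoc B B A, hBB, zero_mul, sub_zero]
  have hone : e11 + e22 = 1 := by rw [he11, he22, ← add_mul, ← hC, hCD]
  have h12_21 : A * e21 = e11 := by rw [he21, he11, mul_assoc]
  have h21_12 : e21 * A = e22 := by rw [he21, he22, mul_assoc, hDA.eq, ← mul_assoc]
  have h11_12 : e11 * A = A := by
    rw [he11, mul_assoc (A * B), hDA.eq, ← mul_assoc, hABA, mul_assoc, hCD, mul_one]
  have h12_22 : A * e22 = A := by rw [he22, ← mul_assoc, ← mul_assoc, hABA, mul_assoc, hCD, mul_one]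
  have h22_21 : e22 * e21 = e21 := by
    rw [he22, he21]
    calc B * A * D * (B * D) = B * A * (D * B) * D := by simp only [mul_assoc]
      _ = B * A * B * (D * D) := by rw [hDB.eq]; simp only [mul_assoc]
      _ = B * (C * D) * D := by rw [hBAB]; simp only [mul_assoc]
      _ = B * D := by rw [hCD, mul_one]
  have h21_11 : e21 * e11 = e21 := by
    rw [he21, he11]
    calc B * D * (A * B * D) = B * (D * A) * B * D := by simp only [mul_assoc]
      _ = B * A * (D * B) * D := by rw [hDA.eq]; simp only [mul_assoc]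
      _ = B * A * B * (D * D) := by rw [hDB.eq]; simp only [mul_assoc]
      _ = B * (C * D) * D := by rw [hBAB]; simp only [mul_assoc]
      _ = B * D := by rw [hCD, mul_one]
  have h11_11 : e11 * e11 = e11 := by
    conv_lhs => arg 2; rw [← h12_21]
    rw [← mul_assoc, h11_12, h12_21]
  have h22_22 : e22 * e22 = e22 := by
    conv_lhs => arg 2; rw [← h21_12]
    rw [← mul_assoc, h22_21, h21_12]
  have h11_22 : e11 * e22 = 0 := by
    have := congrArg (fun z => e11 * z) hone
    simpa [mul_add, h11_11] using this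
  have h22_11 : e22 * e11 = 0 := by
    have := congrArg (fun z => e22 * z) hone
    simpa [mul_add, h22_22] using this
  have h12_11 : A * e11 = 0 := by rw [he11, ← mul_assoc, ← mul_assoc, hAA]; simp
  have h22_12 : e22 * A = 0 := by
    rw [← h21_12, mul_assoc, hAA, mul_zero]
  have h21_22 : e21 * e22 = 0 := by
    rw [← h21_11, mul_assoc, h11_22, mul_zero]
  have h11_21 : e11 * e21 = 0 := by
    rw [← h22_21, ← mul_assoc, h11_22, zero_mul]
  have h21_21 : e21 * e21 = 0 := by
    conv_lhs => arg 2; rw [← h22_21]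
    rw [← mul_assoc, h21_22, zero_mul]
  have hFe : ∀ f : F, Commute (f : AddMonoid.End V) A ∧ Commute (f : AddMonoid.End V) e11 ∧
      Commute (f : AddMonoid.End V) e21 ∧ Commute (f : AddMonoid.End V) e22 := fun f => by
    obtain ⟨h1, h2⟩ := hFc f f.2
    have h3 : Commute (f : AddMonoid.End V) D := congrArg Subtype.val (mul_comm f d)
    exact ⟨h1, (h1.mul_right h2).mul_right h3, h2.mul_right h3, (h2.mul_right h1).mul_right h3⟩
  let τm : Matrix (Fin 2) (Fin 2) F → AddMonoid.End V := fun m =>
    (m 0 0 : AddMonoid.End V) * e11 + (m 0 1 : AddMonoid.End V) * A +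
      ((m 1 0 : AddMonoid.End V) * e21 + (m 1 1 : AddMonoid.End V) * e22)
  have hτmul : ∀ m n, τm (m * n) = τm m * τm n := by
    intro m n
    have hswap : ∀ (f g : F) (e e' : AddMonoid.End V), Commute (g : AddMonoid.End V) e →
        ((f : AddMonoid.End V) * e) * ((g : AddMonoid.End V) * e') = ((f * g : F) : AddMonoid.End V) * (e * e') := by
      intro f g e e' h
      rw [Subring.coe_mul, mul_assoc, ← mul_assoc e, ← h.eq]
      simp only [mul_assoc]
    simp only [τm, Matrix.mul_apply, Fin.sum_univ_two, mul_add, add_mul, Subring.coe_add]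
    simp only [hswap _ _ _ _ (hFe _).1, hswap _ _ _ _ (hFe _).2.1, hswap _ _ _ _ (hFe _).2.2.1,
      hswap _ _ _ _ (hFe _).2.2.2, h12_21, h21_12, h11_12, h12_22, h22_21, h21_11, h11_11, h22_22,
      h11_22, h22_11, h12_11, h22_12, h21_22, h11_21, h21_21, hAA, mul_zero, zero_add, add_zero]
    abel
  have hτone : τm 1 = 1 := by simp [τm, hone]
  let τ : SL(2, F) →* AddMonoid.End V :=
    { toFun := fun g => τm (g : Matrix (Fin 2) (Fin 2) F)
      map_one' := hτone
      map_mul' := fun a b => by rw [Matrix.SpecialLinearGroup.coe_mul, hτmul] }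
  have he11n : e11 ≠ 0 := fun h => hAn (by rw [← h11_12, h, zero_mul])
  have hτker : ∀ g, τ g = 1 → g = 1 := by
    intro g hg
    have hcancel : ∀ f : F, (f : AddMonoid.End V) * e11 = 0 → f = 0 := by
      intro f hf
      by_contra h0
      exact he11n (AddMonoidHom.ext fun v =>
        hinjF f f.2 (fun h => h0 (Subtype.ext h)) ((DFunLike.congr_fun hf v).trans (map_zero _).symm))
    have key : ∀ a b : AddMonoid.End V, a * τ g * b = a * b := fun a b => by rw [hg, mul_one]
    have hl : ∀ (f : F) (a e : AddMonoid.End V), Commute (f : AddMonoid.End V) a →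
        a * ((f : AddMonoid.End V) * e) = (f : AddMonoid.End V) * (a * e) := fun f a e h => by
      rw [← mul_assoc, ← h.eq, mul_assoc]
    have k00 := key e11 e11
    have k01 := key e11 e21
    have k10 := key A e11
    have k11 := key A e21
    simp only [τ, τm, MonoidHom.coe_mk, OneHom.coe_mk, mul_add, add_mul, hl _ _ _ (hFe _).2.1,
      hl _ _ _ (hFe _).1, mul_assoc, h12_21, h21_12, h11_12, h12_22, h22_21, h21_11, h11_11,
      h22_22, h11_22, h22_11, h12_11, h22_12, h21_22, h11_21, h21_21, hAA, mul_zero, zero_add,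
      add_zero] at k00 k01 k10 k11
    refine ext2 ?_ (by simpa using hcancel _ k01) (by simpa using hcancel _ k10) ?_
    · have := hcancel ((g : SL(2, F)) 0 0 - 1) (by rw [AddSubgroupClass.coe_sub, sub_mul, k00, Subring.coe_one, one_mul, sub_self])
      simpa using sub_eq_zero.mp this
    · have := hcancel ((g : SL(2, F)) 1 1 - 1) (by rw [AddSubgroupClass.coe_sub, sub_mul, k11, Subring.coe_one, one_mul, sub_self])
      simpa using sub_eq_zero.mp this
  let low : SL(2, F) := ⟨!![1, 0; c, 1], by simp [Matrix.det_fin_two]⟩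
  have hτup : τ (up 1) = ρ x := by
    show τm _ = _
    rw [hρx, ← hone]
    simp [τm, up]
    abel
  have hτlow : τ low = ρ y := by
    show τm _ = _
    have : (c : AddMonoid.End V) * e21 = B := by
      show C * (B * D) = B
      rw [← mul_assoc, hCB.eq, mul_assoc, hCD, mul_one]
    rw [hρy, ← hone]
    simp [τm, low, this]
    abel
  set X : Subgroup SL(2, F) := Subgroup.closure {up 1, low} with hX
  have hupX : up (1 : F) ∈ X := Subgroup.subset_closure (Or.inl rfl)
  have hlowX : low ∈ X := Subgroup.subset_closure (Or.inr rfl)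
  haveI : Finite SL(2, F) := inferInstance
  have hnc : ¬ Commute (up (1 : F)) low := by
    intro h
    have this : ((up (1 : F) * low : SL(2, F)) 0 0 : F) = (low * up 1 : SL(2, F)) 0 0 := by rw [h.eq]
    rw [mul_apply2, mul_apply2] at this
    simp [low] at this
    exact hc this
  obtain ⟨f, hfi, hfX⟩ := exists_sl2_zmod_hom (p := p) hp2 X hupX hlowX
    (by simp [tr, up]; norm_num) (by simp [tr, low]; norm_num) hnc
  -- the images in the unit group
  let ρ' : H →* (AddMonoid.End V)ˣ := ρ.toHomUnits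
  let τ' : X →* (AddMonoid.End V)ˣ := (τ.comp X.subtype).toHomUnits
  have hρ'c : ∀ h, (ρ' h : AddMonoid.End V) = ρ h := fun h => rfl
  have hτ'c : ∀ g, (τ' g : AddMonoid.End V) = τ g := fun g => rfl
  have hrange : ∀ g : X, τ' g ∈ ρ'.range := by
    rintro ⟨g, hg⟩
    suffices ∀ g ∈ X, ∀ hg' : g ∈ X, τ' ⟨g, hg'⟩ ∈ ρ'.range from this g hg hg
    intro g hg
    induction hg using Subgroup.closure_induction with
    | mem z hz =>
      intro _
      rcases hz with rfl | hz
      · exact ⟨x, Units.ext (by rw [hρ'c, hτ'c]; exact hτup.symm)⟩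
      · rw [Set.mem_singleton_iff] at hz; subst hz
        exact ⟨y, Units.ext (by rw [hρ'c, hτ'c]; exact hτlow.symm)⟩
    | one => intro _; exact ⟨1, Units.ext (by rw [hρ'c, hτ'c]; simp)⟩
    | mul a b ha hb iha ihb =>
      intro hab
      have : (⟨a * b, hab⟩ : X) = ⟨a, ha⟩ * ⟨b, hb⟩ := rfl
      rw [this, map_mul]
      exact mul_mem (iha ha) (ihb hb)
    | inv a ha iha =>
      intro ha'
      have : (⟨a⁻¹, ha'⟩ : X) = ⟨a, ha⟩⁻¹ := rfl
      rw [this, map_inv]
      exact inv_mem (iha ha)
  refine ⟨τ.comp f, fun g => ?_, fun g hg => hfi ((hτker _ hg).trans (map_one f).symm), ?_, ?_⟩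
  · obtain ⟨h, hh⟩ := hrange ⟨f g, hfX ⟨_, rfl⟩⟩
    exact ⟨h, congrArg Units.val hh⟩
  · have hneg : f (-1) = -1 := by
      refine eq_neg_one_of_sq (two_ne_zero' (p := p) hp2) ?_ ?_
      · rw [← map_mul, neg_mul_neg, one_mul, map_one]
      · intro h
        have h1 : (-1 : SL(2, ZMod p)) = 1 := hfi (by rw [h, map_one])
        have := congrArg (fun g : SL(2, ZMod p) => g 0 0) h1
        simp at this
        exact two_ne_zero' (K := ZMod p) (p := p) hp2 (by linear_combination -this)
    show τ (f (-1)) = -1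
    rw [hneg]
    show τm _ = _
    rw [← hone]
    simp [τm]
    abel
  · show (τm _ - 1) * (τm _ - 1) = 0
    have htr : tr (f (up 1)) = 2 := tr_eq_two_of_pow (p := p) (k := 1) (by
      rw [pow_one, ← map_pow, up_pow, ZMod.natCast_self, zero_mul, up_zero, map_one])
    have hsub : τm ((f (up 1) : Matrix (Fin 2) (Fin 2) F) - 1) = τm (f (up 1) : Matrix (Fin 2) (Fin 2) F) - 1 := by
      rw [← hτone]
      simp only [τm, Matrix.sub_apply, AddSubgroupClass.coe_sub, sub_mul]
      abel
    rw [← hsub, ← hτmul, ← sq, sub_one_sq htr]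
    simp [τm]

/-- An irreducible group generated by two quadratic elements contains `-1` and a quadratic
element of its `p`-residual. -/
theorem exists_neg_one_and_quadratic (hp : 3 < p) (hV : ∀ v : V, p • v = 0)
    (ρ : H →* AddMonoid.End V)
    (hirr : ∀ W : AddSubgroup V, (∀ h, ∀ w ∈ W, ρ h w ∈ W) → W = ⊥ ∨ W = ⊤)
    {x y : H} (hgen : Subgroup.closure ({x, y} : Set H) = ⊤) (hx1 : ρ x ≠ 1)
    (hx : (ρ x - 1) * (ρ x - 1) = 0) (hy : (ρ y - 1) * (ρ y - 1) = 0) :
    ∃ t u : H, ρ t = -1 ∧ (orderOf t).Coprime p ∧ u ∈ Cfsg.pResidual p H ∧ ρ u ≠ 1 ∧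
      (ρ u - 1) * (ρ u - 1) = 0 := by
  have hpp : p.Prime := Fact.out
  have hp2 : p ≠ 2 := by omega
  obtain ⟨f, hfρ, hfi, hneg, hquad⟩ := exists_sl2 hp2 hV ρ hirr hgen hx1 hx hy
  let ρ' : H →* (AddMonoid.End V)ˣ := ρ.toHomUnits
  let f' : SL(2, ZMod p) →* ρ'.range := f.toHomUnits.codRestrict _ fun g => by
    obtain ⟨h, hh⟩ := hfρ g
    exact ⟨h, Units.ext hh⟩
  have hu₀ : f' (up 1) ∈ (Cfsg.pResidual p H).map ρ'.rangeRestrict := by
    rw [CfsgLib.Transfer.map_pResidual_of_surjective _ ρ'.rangeRestrict_surjective]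
    exact CfsgLib.Transfer.map_pResidual_le f' (Subgroup.mem_map_of_mem _ (up_one_mem_pResidual hp))
  obtain ⟨u, hu, hue⟩ := hu₀
  have hu' : ρ u = f (up 1) :=
    congrArg (fun z : ρ'.range => ((z : (AddMonoid.End V)ˣ) : AddMonoid.End V)) hue
  obtain ⟨t', ht'⟩ := hfρ (-1)
  rw [hneg] at ht'
  obtain ⟨k, m, hm, hk⟩ := Nat.exists_eq_pow_mul_and_not_dvd (orderOf_pos t').ne' p hpp.ne_one
  refine ⟨t' ^ p ^ k, u, ?_, ?_, hu, ?_, ?_⟩
  · rw [map_pow, ht']
    exact ((hpp.odd_of_ne_two hp2).pow).neg_one_pow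
  · rw [orderOf_pow_of_dvd (pow_ne_zero _ hpp.ne_zero) (hk ▸ dvd_mul_right _ _), hk,
      Nat.mul_div_cancel_left _ (pow_pos hpp.pos k)]
    exact ((Nat.Prime.coprime_iff_not_dvd hpp).mpr hm).symm
  · intro h
    rw [hu'] at h
    have := congrArg (fun g : SL(2, ZMod p) => g 0 1) (hfi _ h)
    simp at this
  · rw [hu']; exact hquad

end CfsgLib.Techniques.QPair
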