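import Cfsg.Agent.Techniques.QuadraticPair
import Cfsg.Agent.Small.BaerSuzuki
import Cfsg.Agent.Coprime.Action
import Cfsg.Agent.PLocal.Quadratic
import Cfsg.Agent.PLocal.Cores
import Cfsg.Agent.Components.FStar
import Cfsg.Agent.Solvable.Frattini
import Cfsg.Prelude.Def_LocalEven

/-!
# `p`-stability modulo a normal subgroup centralised by the `p'`-elements, `p` odd

In a minimal situation `U` modulo its fixed points `M` of the `p'`-elements is irreducible and a
`p'`-element `t` inverts it. All of `H` then fixes `[U, U]` pointwise, and the elements commuting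
with `t` that act quadratically modulo `M` act quadratically on the subgroup generated by the
elements inverted by `t`.
-/

set_option autoImplicit false

namespace CfsgLib.Techniques

open Subgroup
open scoped commutatorElement

variable {X : Type*} [Group X] [Finite X] {p : ℕ} [hp : Fact p.Prime]

/-- A quotient of a finite group by elements `h` with `h ^ (p ^ n) ∈ C` is a `p`-group. -/
theorem exists_pow_coprime (h : X) : ∃ a, (orderOf (h ^ p ^ a)).Coprime p := by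
  obtain ⟨k, m, hm, hk⟩ := Nat.exists_eq_pow_mul_and_not_dvd (orderOf_pos h).ne' p hp.out.ne_one
  refine ⟨k, ?_⟩
  rw [orderOf_pow_of_dvd (pow_ne_zero _ hp.out.ne_zero) (hk ▸ dvd_mul_right _ _), hk,
    Nat.mul_div_cancel_left _ (pow_pos hp.out.pos k)]
  exact ((Nat.Prime.coprime_iff_not_dvd hp.out).mpr hm).symm

/-- If `A` normalizes the `p`-group `W`, acts on it as a `p`-group and `W ≤ [A, W]`, then `W = 1`. -/
theorem eq_bot_of_le_commutator_pGroup {W A : Subgroup X} (hW : IsPGroup p W)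
    (hA : A ≤ normalizer (W : Set X))
    (hpow : ∀ a ∈ A, ∃ k : ℕ, a ^ p ^ k ∈ centralizer (W : Set X))
    (h : W ≤ ⁅A, W⁆) : W = ⊥ := by
  let D : Sylow p A := default
  let D' : Subgroup X := (D : Subgroup A).map A.subtype
  have hDA : D' ≤ A := map_subtype_le _
  let C : Subgroup A := (centralizer (W : Set X)).subgroupOf A
  have hCn : C.Normal := ⟨fun c hc a => (Subgroup.normal_subgroupOf_centralizer_normalizer
    (W : Set X)).conj_mem ⟨(c : X), hA c.2⟩ hc ⟨(a : X), hA a.2⟩⟩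
  have hq : IsPGroup p (A ⧸ C) := by
    intro q
    obtain ⟨a, rfl⟩ := QuotientGroup.mk'_surjective C q
    obtain ⟨k, hk⟩ := hpow a a.2
    refine ⟨k, ?_⟩
    rw [← map_pow, QuotientGroup.mk'_apply, QuotientGroup.eq_one_iff]
    exact hk
  let D₁ := D.mapSurjective (QuotientGroup.mk'_surjective C)
  have htop : (D₁ : Subgroup (A ⧸ C)) = ⊤ := (D₁.is_maximal' (hq.to_subgroup ⊤) le_top).symm
  have hle : ⁅A, W⁆ ≤ ⁅D', W⁆ := by
    rw [commutator_le]
    intro a ha w hw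
    obtain ⟨d, hd, hda⟩ :
        (QuotientGroup.mk' C ⟨a, ha⟩) ∈ (D₁ : Subgroup (A ⧸ C)) := htop ▸ mem_top _
    obtain ⟨c, hc, hcd⟩ := (QuotientGroup.mk'_eq_mk' (N := C)).mp hda
    have e : a = d * c := congrArg Subtype.val hcd.symm
    have hcw : ⁅(c : X), w⁆ = 1 :=
      commutatorElement_eq_one_iff_mul_comm.mpr (mem_centralizer_iff.mp hc w hw).symm
    have : ⁅a, w⁆ = ⁅(d : X), w⁆ := by
      rw [e, commutatorElement_mul_left_eq_conj_mul, hcw]; group
    rw [this]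
    exact commutator_mem_commutator ⟨d, hd, rfl⟩ hw
  set L := D' ⊔ W with hL
  have hLp : IsPGroup p L :=
    IsPGroup.to_sup_of_normal_right' (D.isPGroup'.map _) hW (hDA.trans hA)
  have : Group.IsNilpotent L := hLp.isNilpotent
  have hWL : W ≤ L := le_sup_right
  have h2 : W.subgroupOf L ≤ ⁅W.subgroupOf L, (⊤ : Subgroup L)⁆ := by
    rw [← Subgroup.map_le_map_iff_of_injective L.subtype_injective, map_commutator,
      subgroupOf_map_subtype, inf_eq_left.mpr hWL, ← MonoidHom.range_eq_map, range_subtype,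
      commutator_comm W L]
    exact (h.trans hle).trans (commutator_mono le_sup_left le_rfl)
  have h3 := CfsgLib.PLocal.eq_bot_of_le_commutator_top h2
  rw [subgroupOf_eq_bot, disjoint_iff, inf_eq_left.mpr hWL] at h3
  exact h3

/-- The core of the argument: in a `p`-stable group, `p` odd, an element acting quadratically on
`P` modulo a normal subgroup centralised by all `p'`-elements maps into `O_p(N(P)/C(P))`. -/
theorem mem_pCore_of_quadratic_mod' (hp2 : p ≠ 2) (hst : Cfsg.IsNormalizerPStable p X)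
    {Q P : Subgroup X} [Q.Normal] (hP : IsPGroup p P)
    (hQ : ∀ k : X, (orderOf k).Coprime p → ∀ q ∈ Q, k * q = q * k)
    {g : X} (hg : g ∈ normalizer (P : Set X)) (hgq : ∀ w ∈ P, ⁅⁅w, g⁆, g⁆ ∈ Q) :
    (QuotientGroup.mk ⟨g, hg⟩ : ↥(normalizer (P : Set X)) ⧸
        (centralizer (P : Set X)).subgroupOf (normalizer (P : Set X))) ∈
      Cfsg.pCore p (↥(normalizer (P : Set X)) ⧸
        (centralizer (P : Set X)).subgroupOf (normalizer (P : Set X))) := by
  classical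
  set NP := normalizer (P : Set X) with hNP
  set CP := (centralizer (P : Set X)).subgroupOf NP with hCP
  by_contra hcon
  obtain ⟨nbar, hnbar⟩ : ∃ n : NP ⧸ CP, ¬ IsPGroup p ↥(Subgroup.closure
      ({QuotientGroup.mk ⟨g, hg⟩, n * QuotientGroup.mk ⟨g, hg⟩ * n⁻¹} : Set (NP ⧸ CP))) := by
    by_contra h
    push Not at h
    obtain ⟨N, hN, hNp, hgN⟩ := CfsgLib.Small.baerSuzuki_elem (QuotientGroup.mk ⟨g, hg⟩ : NP ⧸ CP) h
    exact hcon (CfsgLib.PLocal.le_pCore (hN := hN) hNp hgN)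
  obtain ⟨n, rfl⟩ := QuotientGroup.mk_surjective nbar
  set g' : X := n * g * (n : X)⁻¹ with hg'def
  have hg' : g' ∈ NP := NP.mul_mem (NP.mul_mem n.2 hg) (NP.inv_mem n.2)
  set H : Subgroup X := Subgroup.closure {g, g'} with hH
  have hHN : H ≤ NP := (Subgroup.closure_le _).mpr (by
    rintro z (rfl | rfl) <;> assumption)
  have hgH : g ∈ H := subset_closure (Or.inl rfl)
  have hg'H : g' ∈ H := subset_closure (Or.inr rfl)
  have hgq' : ∀ w ∈ P, ⁅⁅w, g'⁆, g'⁆ ∈ Q := by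
    intro w hw
    have hw' : (n : X)⁻¹ * w * n ∈ P := (mem_normalizer_iff''.mp n.2 w).mp hw
    have h := (inferInstance : Q.Normal).conj_mem _ (hgq _ hw') n
    convert h using 1
    simp only [hg'def, commutatorElement_def]
    group
  set S : Set X := {k | k ∈ H ∧ (orderOf k).Coprime p} with hS
  have hbad : ∃ k ∈ S, k ∉ centralizer (P : Set X) := by
    by_contra h
    push Not at h
    apply hnbar
    have hle : Subgroup.closure ({QuotientGroup.mk ⟨g, hg⟩,
        QuotientGroup.mk n * QuotientGroup.mk ⟨g, hg⟩ * (QuotientGroup.mk n)⁻¹} : Set (NP ⧸ CP)) ≤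
        (H.subgroupOf NP).map (QuotientGroup.mk' CP) := by
      rw [Subgroup.closure_le]
      rintro z (rfl | rfl)
      · exact ⟨⟨g, hg⟩, hgH, rfl⟩
      · exact ⟨n * ⟨g, hg⟩ * n⁻¹, hg'H, rfl⟩
    refine IsPGroup.to_le ?_ hle
    rintro ⟨_, h', hh', rfl⟩
    obtain ⟨a, ha⟩ := exists_pow_coprime (p := p) (h' : X)
    refine ⟨a, Subtype.ext ?_⟩
    show (QuotientGroup.mk' CP h') ^ p ^ a = 1
    rw [← map_pow]
    exact (QuotientGroup.eq_one_iff _).mpr (h _ ⟨H.pow_mem hh' _, ha⟩)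
  let 𝒮 : Set (Subgroup X) := {U | U ≤ P ∧ H ≤ normalizer (U : Set X) ∧
    ∃ k ∈ S, k ∉ centralizer (U : Set X)}
  obtain ⟨U, ⟨hUP, hUN, k₀, hk₀, hk₀U⟩, hUmin⟩ := wellFounded_lt.has_min 𝒮 ⟨P, le_rfl, hHN, hbad⟩
  have hUp : IsPGroup p U := hP.to_le hUP
  set M : Subgroup X := U ⊓ centralizer S with hM
  have hmax : ∀ W ≤ U, H ≤ normalizer (W : Set X) → W ≠ U → W ≤ M := by
    intro W hWU hWN hne
    refine le_inf hWU fun w hw => mem_centralizer_iff.mpr fun k hk => ?_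
    by_contra h
    exact hUmin W ⟨hWU.trans hUP, hWN, k, hk, fun hkW => h ((mem_centralizer_iff.mp hkW) w hw).symm⟩
      (lt_of_le_of_ne hWU hne)
  have hSconj : ∀ h ∈ H, ∀ k ∈ S, h * k * h⁻¹ ∈ S := fun h hh k hk =>
    ⟨H.mul_mem (H.mul_mem hh hk.1) (H.inv_mem hh), by
      rw [show h * k * h⁻¹ = MulAut.conj h k from rfl, MulEquiv.orderOf_eq]; exact hk.2⟩
  have hMN : H ≤ normalizer (M : Set X) := by
    intro h hh
    refine mem_normalizer_fintype fun m hm => ?_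
    refine ⟨(mem_normalizer_iff.mp (hUN hh) m).mp hm.1, mem_centralizer_iff.mpr fun k hk => ?_⟩
    have h1 := mem_centralizer_iff.mp hm.2 _ (hSconj h⁻¹ (H.inv_mem hh) k hk)
    rw [inv_inv] at h1
    calc k * (h * m * h⁻¹) = h * ((h⁻¹ * k * h) * m) * h⁻¹ := by group
      _ = h * (m * (h⁻¹ * k * h)) * h⁻¹ := by rw [h1]
      _ = h * m * h⁻¹ * k := by group
  have hstab : ∀ k ∈ S, (∀ v ∈ U, ⁅v, k⁆ ∈ M) → k ∈ centralizer (U : Set X) := by
    intro k hk hv
    have hkN : zpowers k ≤ normalizer (U : Set X) := zpowers_le.mpr (hUN hk.1)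
    refine CfsgLib.Coprime.le_centralizer_of_commutator_commutator_eq_bot hkN ?_ ?_ (mem_zpowers k)
    · obtain ⟨a, ha⟩ := IsPGroup.iff_card.mp hUp
      rw [Nat.card_zpowers, ha]
      exact hk.2.pow_right a
    · rw [CfsgLib.PLocal.quadratic_iff (hUN hk.1)]
      exact fun v hv' => (mem_centralizer_iff.mp (hv v hv').2 k hk).symm
  set Ks : Subgroup X := Subgroup.closure S with hKs
  have hKsH : Ks ≤ H := (Subgroup.closure_le _).mpr fun k hk => hk.1
  have hMKs : M ≤ centralizer (Ks : Set X) := by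
    rw [le_centralizer_iff, hKs, Subgroup.closure_le]
    exact fun k hk => mem_centralizer_iff.mpr fun m hm => (mem_centralizer_iff.mp hm.2 k hk).symm
  have hUK : ⁅U, Ks⁆ = U := by
    by_contra hne
    have hle : ⁅U, Ks⁆ ≤ U := CfsgLib.Coprime.commutator_le_of_le_normalizer (hKsH.trans hUN)
    have hN : H ≤ normalizer ((⁅U, Ks⁆ : Subgroup X) : Set X) := by
      intro h hh
      rw [mem_normalizer_iff_map_conj_eq, map_commutator, mem_normalizer_iff_map_conj_eq.mp (hUN hh)]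
      congr 1
      have hinv : ∀ h ∈ H, Ks.map (MulAut.conj h).toMonoidHom ≤ Ks := by
        intro h hh
        rw [hKs, MonoidHom.map_closure, Subgroup.closure_le]
        rintro _ ⟨k, hk, rfl⟩
        exact subset_closure (hSconj h hh k hk)
      refine le_antisymm (hinv h hh) fun k hk => ?_
      exact ⟨h⁻¹ * k * h, by
        simpa [MulAut.conj_apply] using hinv h⁻¹ (H.inv_mem hh) (mem_map_of_mem _ hk), by
        simp [MulAut.conj_apply, mul_assoc]⟩
    have hWM := hmax _ hle hN hne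
    exact hk₀U (hstab k₀ hk₀ fun v hv =>
      hWM (commutator_mem_commutator hv (subset_closure hk₀)))
  have hUtriv : Nontrivial U := by
    rw [nontrivial_iff_ne_bot]
    rintro rfl
    exact hk₀U (mem_centralizer_iff.mpr fun v hv => by
      rw [SetLike.mem_coe, mem_bot] at hv; subst hv; simp)
  set Φ : Subgroup X := (frattini U).map U.subtype with hΦ
  have hΦM : Φ ≤ M := by
    refine hmax _ (map_subtype_le _)
      (hUN.trans (CfsgLib.Components.normalizer_le_normalizer_map_subtype _ _)) ?_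
    intro h
    obtain ⟨K, hK⟩ : ∃ K : Subgroup U, IsCoatom K := by
      obtain h1 | ⟨K, hK, -⟩ := eq_top_or_exists_le_coatom (⊥ : Subgroup U)
      · exact absurd h1 bot_ne_top
      · exact ⟨K, hK⟩
    apply hK.1
    refine top_unique (le_trans (le_of_eq ?_) (frattini_le_coatom hK))
    rw [← map_subtype_inj, ← MonoidHom.range_eq_map, range_subtype]
    exact h.symm
  have hcomM : ∀ a ∈ U, ∀ b ∈ U, ⁅a, b⁆ ∈ M := fun a ha b hb => hΦM
    ⟨⁅(⟨a, ha⟩ : U), ⟨b, hb⟩⁆, CfsgLib.Solvable.commutator_le_frattini hUp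
      (commutator_mem_commutator (mem_top _) (mem_top _)), rfl⟩
  have hpowM : ∀ a ∈ U, a ^ p ∈ M := fun a ha => hΦM
    ⟨(⟨a, ha⟩ : U) ^ p, CfsgLib.Solvable.pow_mem_frattini hUp _, rfl⟩
  have hMZ : ∀ m ∈ M, ∀ v ∈ U, m * v = v * m := by
    intro m hm v hv
    have h1 : ⁅⁅Ks, M⁆, U⁆ = ⊥ := by
      rw [commutator_eq_bot_iff_le_centralizer.mpr ((le_centralizer_iff).mp hMKs)]
      exact commutator_bot_left _
    have h2 : ⁅⁅M, U⁆, Ks⁆ = ⊥ := by
      rw [commutator_eq_bot_iff_le_centralizer]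
      exact (commutator_le.mpr fun a (ha : a ∈ M) b hb => hcomM a ha.1 b hb : ⁅M, U⁆ ≤ M).trans hMKs
    have h3 := commutator_commutator_eq_bot_of_rotate h1 h2
    rw [hUK, commutator_eq_bot_iff_le_centralizer] at h3
    exact mem_centralizer_iff.mp (h3 hv) m hm
  -- the representation on `U / M`
  set Mq := M.subgroupOf U with hMq
  haveI : Mq.Normal := ⟨fun m hm v => by
    rw [hMq, mem_subgroupOf] at hm ⊢
    simp only [Subgroup.coe_mul, Subgroup.coe_inv]
    rw [← hMZ _ hm _ v.2, mul_inv_cancel_right]; exact hm⟩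
  letI : CommGroup (U ⧸ Mq) := { (inferInstance : Group (U ⧸ Mq)) with
    mul_comm := by
      intro a b
      obtain ⟨a, rfl⟩ := QuotientGroup.mk_surjective a
      obtain ⟨b, rfl⟩ := QuotientGroup.mk_surjective b
      rw [← QuotientGroup.mk_mul, ← QuotientGroup.mk_mul, QuotientGroup.eq]
      have := hcomM _ (U.inv_mem b.2) _ (U.inv_mem a.2)
      rw [hMq, mem_subgroupOf]
      simpa [commutatorElement_def, mul_assoc] using this }
  let act : H →* MulAut U := U.normalizerMonoidHom.comp (Subgroup.inclusion hUN)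
  have hact : ∀ (h : H) (v : U), ((act h v : U) : X) = h * v * (h : X)⁻¹ := fun h v => rfl
  have hMinv : ∀ h : H, Mq ≤ Mq.comap (act h).toMonoidHom := fun h v hv => by
    rw [hMq, mem_comap, mem_subgroupOf]
    show ((act h v : U) : X) ∈ M
    rw [hact]
    exact (mem_normalizer_iff.mp (hMN h.2) _).mp hv
  let V := Additive (U ⧸ Mq)
  let ρ : H →* AddMonoid.End V :=
    { toFun := fun h => MonoidHom.toAdditive (QuotientGroup.map Mq Mq (act h).toMonoidHom (hMinv h))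
      map_one' := AddMonoidHom.ext fun v => by
        obtain ⟨u, hu⟩ := QuotientGroup.mk_surjective (Additive.toMul v)
        rw [show v = Additive.ofMul (u : U ⧸ Mq) from congrArg Additive.ofMul hu.symm]
        exact congrArg (fun z : U => Additive.ofMul (z : U ⧸ Mq)) (DFunLike.congr_fun (map_one act) u)
      map_mul' := fun a b => AddMonoidHom.ext fun v => by
        obtain ⟨u, hu⟩ := QuotientGroup.mk_surjective (Additive.toMul v)
        rw [show v = Additive.ofMul (u : U ⧸ Mq) from congrArg Additive.ofMul hu.symm]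
        exact congrArg (fun z : U => Additive.ofMul (z : U ⧸ Mq))
          (DFunLike.congr_fun (map_mul act a b) u) }
  have hρ : ∀ (h : H) (v : U), ρ h (Additive.ofMul (v : U ⧸ Mq)) =
      Additive.ofMul ((act h v : U) : U ⧸ Mq) := fun h v => rfl
  have hVsurj : ∀ v : V, ∃ u : U, Additive.ofMul (u : U ⧸ Mq) = v := fun v => by
    obtain ⟨u, hu⟩ := QuotientGroup.mk_surjective (Additive.toMul v)
    exact ⟨u, congrArg Additive.ofMul hu⟩
  have hρ1 : ∀ h : H, ρ h = 1 → ∀ v : U, v⁻¹ * act h v ∈ Mq := by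
    intro h h1 v
    rw [← QuotientGroup.eq]
    exact (congrArg Additive.toMul ((hρ h v).symm.trans (DFunLike.congr_fun h1 _))).symm
  have hVp : ∀ v : V, p • v = 0 := fun v => by
    obtain ⟨u, rfl⟩ := hVsurj v
    rw [← ofMul_pow, ← QuotientGroup.mk_pow, ← ofMul_one]
    congr 1
    exact (QuotientGroup.eq_one_iff _).mpr (show (u : X) ^ p ∈ M from hpowM _ u.2)
  have hMne : M ≠ U := fun h => hk₀U (mem_centralizer_iff.mpr fun v hv => by
    exact (mem_centralizer_iff.mp ((h.ge hv : v ∈ M)).2 k₀ hk₀).symm)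
  haveI : Nontrivial V := by
    obtain ⟨v, hv, hvM⟩ := SetLike.exists_of_lt (lt_of_le_of_ne inf_le_left hMne)
    refine ⟨⟨Additive.ofMul ((⟨v, hv⟩ : U) : U ⧸ Mq), 0, fun h => ?_⟩⟩
    have h2 : ((⟨v, hv⟩ : U) : U ⧸ Mq) = 1 := congrArg Additive.toMul h
    have h3 : (⟨v, hv⟩ : U) ∈ Mq := (QuotientGroup.eq_one_iff _).mp h2
    exact hvM h3
  haveI : Finite V := inferInstanceAs (Finite (U ⧸ Mq))
  have hirr : ∀ W : AddSubgroup V, (∀ h, ∀ w ∈ W, ρ h w ∈ W) → W = ⊥ ∨ W = ⊤ := by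
    intro W hW
    let W0 : Subgroup U :=
      { carrier := {u | Additive.ofMul (u : U ⧸ Mq) ∈ W}
        one_mem' := by simp
        mul_mem' := fun {a b} ha hb => by
          show Additive.ofMul ((a * b : U) : U ⧸ Mq) ∈ W
          rw [QuotientGroup.mk_mul, ofMul_mul]; exact W.add_mem ha hb
        inv_mem' := fun {a} ha => by
          show Additive.ofMul ((a⁻¹ : U) : U ⧸ Mq) ∈ W
          rw [QuotientGroup.mk_inv, ofMul_inv]; exact W.neg_mem ha }
    by_cases htop : W0.map U.subtype = U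
    · right
      refine eq_top_iff.mpr fun v _ => ?_
      obtain ⟨u, rfl⟩ := hVsurj v
      obtain ⟨u', hu', he⟩ := htop.ge u.2
      exact (Subtype.ext he : u' = u) ▸ hu'
    · left
      refine eq_bot_iff.mpr fun v hv => ?_
      obtain ⟨u, rfl⟩ := hVsurj v
      have hle := hmax _ (map_subtype_le W0) (fun h hh => mem_normalizer_fintype (by
        rintro _ ⟨u, hu, rfl⟩
        refine ⟨act ⟨h, hh⟩ u, ?_, rfl⟩
        show _ ∈ W
        rw [← hρ]; exact hW _ _ hu)) htop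
      have : (u : X) ∈ M := hle ⟨u, hv, rfl⟩
      rw [AddSubgroup.mem_bot, ← ofMul_one]
      congr 1
      exact (QuotientGroup.eq_one_iff _).mpr this
  have hquad : ∀ a : H, (∀ w ∈ P, ⁅⁅w, (a : X)⁆, (a : X)⁆ ∈ Q) → (ρ a - 1) * (ρ a - 1) = 0 := by
    intro a ha
    refine AddMonoidHom.ext fun v => ?_
    obtain ⟨u, rfl⟩ := hVsurj v
    have hd : ∀ w : U, (ρ a - 1) (Additive.ofMul (w : U ⧸ Mq)) =
        Additive.ofMul ((act a w * w⁻¹ : U) : U ⧸ Mq) := fun w => by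
      show ρ a _ - _ = _
      rw [hρ, QuotientGroup.mk_mul, QuotientGroup.mk_inv, ofMul_mul, ofMul_inv, sub_eq_add_neg]
      rfl
    show (ρ a - 1) ((ρ a - 1) _) = 0
    rw [hd, hd, ← ofMul_one]
    congr 1
    refine (QuotientGroup.eq_one_iff _).mpr ?_
    rw [hMq, mem_subgroupOf]
    refine ⟨(act a (act a u * u⁻¹) * (act a u * u⁻¹)⁻¹ : U).2, ?_⟩
    have h1 := ha _ (hUP u.2)
    have hmemQ : ((act a (act a u * u⁻¹) * (act a u * u⁻¹)⁻¹ : U) : X) ∈ Q := by
      have h2 := (inferInstance : Q.Normal).conj_mem _ h1 (⁅(u : X), (a : X)⁆)⁻¹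
      simp only [Subgroup.coe_mul, Subgroup.coe_inv, hact]
      convert h2 using 1
      simp only [commutatorElement_def]
      group
    exact mem_centralizer_iff.mpr fun k hk => hQ k hk.2 _ hmemQ
  have hgen : Subgroup.closure ({⟨g, hgH⟩, ⟨g', hg'H⟩} : Set H) = ⊤ := by
    apply Subgroup.map_injective H.subtype_injective
    rw [MonoidHom.map_closure, ← MonoidHom.range_eq_map, range_subtype]
    simp [hH, Set.image_insert_eq, Set.image_singleton]
  have hnt : ρ ⟨g, hgH⟩ ≠ 1 ∨ ρ ⟨g', hg'H⟩ ≠ 1 := by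
    by_contra h
    push Not at h
    have hall : ∀ z : H, ρ z = 1 := by
      intro z
      have hz : z ∈ Subgroup.closure ({⟨g, hgH⟩, ⟨g', hg'H⟩} : Set H) := hgen ▸ mem_top z
      have hle : Subgroup.closure ({⟨g, hgH⟩, ⟨g', hg'H⟩} : Set H) ≤ ρ.ker := by
        rw [Subgroup.closure_le]
        rintro w (rfl | rfl)
        exacts [h.1, h.2]
      exact hle hz
    refine hk₀U (hstab k₀ hk₀ fun v hv => ?_)
    have h1 := hρ1 ⟨k₀, hk₀.1⟩ (hall _) ⟨v⁻¹, U.inv_mem hv⟩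
    rw [hMq, mem_subgroupOf] at h1
    simpa [hact, commutatorElement_def, mul_assoc] using h1
  obtain ⟨t, ht, htp⟩ : ∃ t : H, ρ t = -1 ∧ (orderOf t).Coprime p := by
    obtain ⟨f, hfρ, -, hneg, -⟩ : ∃ f : Matrix.SpecialLinearGroup (Fin 2) (ZMod p) →*
        AddMonoid.End V, (∀ z, ∃ h, ρ h = f z) ∧ (∀ z, f z = 1 → z = 1) ∧ f (-1) = -1 ∧
        (f (CfsgLib.PLocal.SL2.up 1) - 1) * (f (CfsgLib.PLocal.SL2.up 1) - 1) = 0 := by
      rcases hnt with h | h
      · exact QPair.exists_sl2 hp2 hVp ρ hirr hgen h (hquad _ hgq) (hquad _ hgq')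
      · exact QPair.exists_sl2 hp2 hVp ρ hirr (Set.pair_comm _ _ ▸ hgen) h (hquad _ hgq')
          (hquad _ hgq)
    obtain ⟨t', ht'⟩ := hfρ (-1)
    rw [hneg] at ht'
    obtain ⟨k, hk⟩ := exists_pow_coprime (p := p) t'
    refine ⟨t' ^ p ^ k, ?_, hk⟩
    rw [map_pow, ht']
    have hodd : Odd (p ^ k) := (hp.out.odd_of_ne_two hp2).pow
    exact hodd.neg_one_pow (α := AddMonoid.End V)
  set R := Cfsg.pResidual p H with hR
  have hfixM : ∀ h ∈ R, ∀ m ∈ Mq, act h m = m := by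
    intro h hh m hm
    have hle : R ≤ Ks.subgroupOf H := by
      rw [hR, Cfsg.pResidual, Subgroup.closure_le]
      intro k hk
      exact subset_closure ⟨k.2, by
        show (orderOf (k : X)).Coprime p
        rw [Subgroup.orderOf_coe]; exact hk⟩
    have : (h : X) * m = m * h := mem_centralizer_iff.mp (hMKs hm) _ (hle hh)
    exact Subtype.ext (by rw [hact, this, mul_inv_cancel_right])
  set E := (R ⊓ ρ.ker).map act with hE
  have hEp : IsPGroup p E := by
    rintro ⟨_, h, ⟨hR', hker⟩, rfl⟩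
    obtain ⟨a, ha⟩ := IsPGroup.iff_card.mp hUp
    refine ⟨a, Subtype.ext (MulEquiv.ext fun v => ?_)⟩
    have hstep : ∀ i : ℕ, ((act h) ^ i) v = v * (v⁻¹ * act h v) ^ i := by
      intro i
      induction i with
      | zero => simp
      | succ i ih =>
        rw [pow_succ' (act h), MulAut.mul_apply, ih, map_mul,
          hfixM h hR' _ (Mq.pow_mem (hρ1 h hker v) i), pow_succ' (v⁻¹ * act h v), ← mul_assoc v,
          mul_inv_cancel_left]
    show ((act h) ^ p ^ a) v = v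
    rw [hstep, ← ha, pow_card_eq_one', mul_one]
  have hAE : zpowers (act t) ≤ normalizer (E : Set (MulAut U)) := by
    rw [zpowers_le]
    refine mem_normalizer_fintype ?_
    rintro _ ⟨h, ⟨hR', hker⟩, rfl⟩
    refine ⟨t * h * t⁻¹, ⟨(inferInstance : R.Normal).conj_mem _ hR' t,
      (MonoidHom.normal_ker ρ).conj_mem _ hker t⟩, by simp⟩
  have hcop : (Nat.card (zpowers (act t))).Coprime (Nat.card E) := by
    obtain ⟨a, ha⟩ := IsPGroup.iff_card.mp hEp
    rw [Nat.card_zpowers, ha]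
    exact (htp.coprime_dvd_left (orderOf_map_dvd act t)).pow_right a
  have htR : t ∈ R := CfsgLib.Transfer.mem_pResidual_of_coprime htp
  -- every element agrees on `U / M` with one commuting with `t` on `U`
  have lift : ∀ k : H, ∃ k' : H, ρ k' = ρ k ∧ Commute (act k') (act t) := by
    intro k
    obtain ⟨ψ, hψc, hψE⟩ := CfsgLib.Coprime.exists_fixed_mem_coset hAE hcop
      (Or.inl (Group.isSolvable_of_comm fun a b => Subtype.ext (by
        obtain ⟨i, hi⟩ := mem_zpowers_iff.mp a.2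
        obtain ⟨j, hj⟩ := mem_zpowers_iff.mp b.2
        show (a : MulAut U) * b = b * a
        rw [← hi, ← hj]
        exact (Commute.zpow_zpow (Commute.refl _) i j).eq))) (k := act k) (by
        intro a ha
        obtain ⟨j, rfl⟩ := mem_zpowers_iff.mp ha
        refine ⟨k⁻¹ * (t ^ j * k * (t ^ j)⁻¹), ⟨?_, ?_⟩, by simp⟩
        · rw [show k⁻¹ * (t ^ j * k * (t ^ j)⁻¹) = k⁻¹ * t ^ j * k⁻¹⁻¹ * (t ^ j)⁻¹ by group]
          exact R.mul_mem ((inferInstance : R.Normal).conj_mem _ (R.zpow_mem htR j) _)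
            (R.inv_mem (R.zpow_mem htR j))
        · show ρ _ = 1
          have hc : Commute (ρ.toHomUnits t) (ρ.toHomUnits k) := Units.ext (by
            show ρ t * ρ k = ρ k * ρ t
            rw [ht]; exact (Commute.neg_one_left (ρ k)).eq)
          have : ρ.toHomUnits (k⁻¹ * (t ^ j * k * (t ^ j)⁻¹)) = 1 := by
            simp only [map_mul, map_inv, map_zpow]
            rw [(hc.zpow_left j).eq, mul_inv_cancel_right, inv_mul_cancel]
          exact congrArg Units.val this)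
    obtain ⟨e, ⟨-, heker⟩, he⟩ := hψE
    refine ⟨k * e, by rw [map_mul, show ρ e = 1 from heker, mul_one], ?_⟩
    rw [map_mul, he, mul_inv_cancel_left]
    exact (mem_centralizer_iff.mp hψc (act t) (mem_zpowers _)).symm
  -- square roots inside subgroups of `U`
  obtain ⟨nU, hnU⟩ : ∃ n, Nat.card U = 2 * n + 1 := by
    obtain ⟨a, ha⟩ := IsPGroup.iff_card.mp hUp
    exact ha ▸ ((hp.out.odd_of_ne_two hp2).pow : Odd (p ^ a))
  have hUpow : ∀ z ∈ U, z ^ (2 * nU) = z⁻¹ := by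
    intro z hz
    refine eq_inv_of_mul_eq_one_left ?_
    rw [← pow_succ, ← hnU]
    exact congrArg Subtype.val (pow_card_eq_one' (x := (⟨z, hz⟩ : U)))
  have hsqrt : ∀ z ∈ U, ∀ L : Subgroup X, z ^ 2 ∈ L → z ∈ L := by
    intro z hz L hL
    have h1 := L.pow_mem hL nU
    rw [← pow_mul, hUpow z hz] at h1
    exact (inv_mem_iff).mp h1
  -- `[U, U]` is central, biadditive and inverted by squares
  have hMc : ∀ a ∈ M, ∀ b ∈ M, a * b = b * a := fun a ha b hb => hMZ a ha b hb.1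
  have hβl : ∀ a ∈ U, ∀ b ∈ U, ∀ c ∈ U, ⁅a * b, c⁆ = ⁅a, c⁆ * ⁅b, c⁆ := fun a ha b hb c hc => by
    rw [commutatorElement_mul_left_eq_conj_mul, ← hMZ _ (hcomM b hb c hc) a ha,
      mul_inv_cancel_right, hMc _ (hcomM b hb c hc) _ (hcomM a ha c hc)]
  have hβr : ∀ a ∈ U, ∀ b ∈ U, ∀ c ∈ U, ⁅a, b * c⁆ = ⁅a, b⁆ * ⁅a, c⁆ := fun a ha b hb c hc => by
    rw [commutatorElement_mul_right_eq_mul_conj, mul_assoc ⁅a, b⁆,
      ← hMZ _ (hcomM a ha c hc) b hb, mul_assoc ⁅a, b⁆, mul_inv_cancel_right]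
  have hβMl : ∀ m ∈ M, ∀ b ∈ U, ⁅m, b⁆ = 1 := fun m hm b hb =>
    commutatorElement_eq_one_iff_mul_comm.mpr (hMZ m hm b hb)
  have hβMr : ∀ m ∈ M, ∀ b ∈ U, ⁅b, m⁆ = 1 := fun m hm b hb =>
    commutatorElement_eq_one_iff_mul_comm.mpr (hMZ m hm b hb).symm
  have hHU : ∀ k ∈ H, ∀ v ∈ U, k * v * k⁻¹ ∈ U := fun k hk v hv =>
    (mem_normalizer_iff.mp (hUN hk) v).mp hv
  have hAU : ∀ k ∈ H, ∀ v ∈ U, ⁅k, v⁆ ∈ U := fun k hk v hv => by
    rw [commutatorElement_def]; exact U.mul_mem (hHU k hk v hv) (U.inv_mem hv)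
  have hA2 : ∀ a : H, (ρ a - 1) * (ρ a - 1) = 0 → ∀ v ∈ U,
      ⁅(a : X), ⁅(a : X), v⁆⁆ ∈ M := by
    intro a ha v hv
    have h := DFunLike.congr_fun ha (Additive.ofMul ((⟨v, hv⟩ : U) : U ⧸ Mq))
    have hd1 : ∀ w : U, (ρ a - 1) (Additive.ofMul (w : U ⧸ Mq)) =
        Additive.ofMul ((act a w * w⁻¹ : U) : U ⧸ Mq) := fun w => by
      show ρ a _ - _ = _
      rw [hρ, QuotientGroup.mk_mul, QuotientGroup.mk_inv, ofMul_mul, ofMul_inv, sub_eq_add_neg]
      rfl
    change (ρ a - 1) ((ρ a - 1) _) = 0 at h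
    rw [hd1, hd1] at h
    have h2 : act a (act a ⟨v, hv⟩ * (⟨v, hv⟩ : U)⁻¹) *
        (act a ⟨v, hv⟩ * (⟨v, hv⟩ : U)⁻¹)⁻¹ ∈ Mq :=
      (QuotientGroup.eq_one_iff _).mp (congrArg Additive.toMul h)
    exact h2
  -- `H` fixes `[U, U]`
  set C₂ : Subgroup X := ⁅U, U⁆ with hC₂
  have hC₂M : C₂ ≤ M := commutator_le.mpr hcomM
  set W₁ : Subgroup X := ⁅H, C₂⁆ with hW₁
  set W₂ : Subgroup X := ⁅H, W₁⁆ with hW₂
  have hnorm : ∀ A : Subgroup X, H ≤ normalizer (A : Set X) →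
      H ≤ normalizer ((⁅H, A⁆ : Subgroup X) : Set X) ∧ ⁅H, A⁆ ≤ A := by
    intro A hA
    refine ⟨fun k hk => ?_,
      commutator_comm H A ▸ CfsgLib.Coprime.commutator_le_of_le_normalizer hA⟩
    rw [mem_normalizer_iff_map_conj_eq, map_commutator, mem_normalizer_iff_map_conj_eq.mp (hA hk),
      mem_normalizer_iff_map_conj_eq.mp (le_normalizer hk)]
  have hC₂N : H ≤ normalizer (C₂ : Set X) := fun k hk => by
    rw [mem_normalizer_iff_map_conj_eq, map_commutator, mem_normalizer_iff_map_conj_eq.mp (hUN hk)]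
  obtain ⟨hW₁N, hW₁C⟩ := hnorm C₂ hC₂N
  obtain ⟨hW₂N, hW₂W⟩ := hnorm W₁ hW₁N
  have hδmul : ∀ k ∈ H, ∀ c ∈ C₂, ∀ d ∈ C₂, ⁅k, c * d⁆ = ⁅k, c⁆ * ⁅k, d⁆ := by
    intro k hk c hc d hd
    rw [commutatorElement_mul_right_eq_mul_conj, mul_assoc ⁅k, c⁆,
      ← hMc _ (hC₂M (hW₁C (commutator_mem_commutator hk hd))) _ (hC₂M hc), mul_assoc ⁅k, c⁆,
      mul_inv_cancel_right]
  have hδinv : ∀ k ∈ H, ∀ c ∈ C₂, ⁅k, c⁻¹⁆ = ⁅k, c⁆⁻¹ := by
    intro k hk c hc
    refine eq_inv_of_mul_eq_one_left ?_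
    rw [← hδmul k hk _ (C₂.inv_mem hc) c hc, inv_mul_cancel, commutatorElement_one_right]
  -- the effect of an element on commutators
  have hδβ : ∀ k ∈ H, ∀ x ∈ U, ∀ y ∈ U, ⁅k, ⁅x, y⁆⁆ =
      ⁅⁅k, x⁆, ⁅k, y⁆⁆ * ⁅⁅k, x⁆, y⁆ * ⁅x, ⁅k, y⁆⁆ := by
    intro k hk x hx y hy
    have hx' := hAU k hk x hx
    have hy' := hAU k hk y hy
    have e : ∀ v : X, k * v * k⁻¹ = ⁅k, v⁆ * v := fun v => by
      rw [commutatorElement_def]; group
    have e2 : ⁅k, ⁅x, y⁆⁆ = ⁅k * x * k⁻¹, k * y * k⁻¹⁆ * ⁅x, y⁆⁻¹ := by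
      simp only [commutatorElement_def]; group
    rw [e2, e, e, hβl _ hx' _ hx _ (U.mul_mem hy' hy), hβr _ hx' _ hy' _ hy,
      hβr _ hx _ hy' _ hy]
    simp only [mul_assoc, mul_inv_cancel, mul_one]
  have hquad2 : ∀ a : H, (ρ a - 1) * (ρ a - 1) = 0 → ∀ x ∈ U, ∀ y ∈ U,
      ⁅(a : X), ⁅⁅(a : X), x⁆, y⁆⁆ = ⁅⁅(a : X), x⁆, ⁅(a : X), y⁆⁆ ∧
      ⁅(a : X), ⁅(a : X), ⁅x, y⁆⁆⁆ = ⁅⁅(a : X), x⁆, ⁅(a : X), y⁆⁆ ^ 2 := by
    intro a ha x hx y hy
    have hx' := hAU _ a.2 x hx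
    have hy' := hAU _ a.2 y hy
    have hxx := hA2 a ha x hx
    have hyy := hA2 a ha y hy
    have h1 : ⁅(a : X), ⁅⁅(a : X), x⁆, y⁆⁆ = ⁅⁅(a : X), x⁆, ⁅(a : X), y⁆⁆ := by
      rw [hδβ _ a.2 _ hx' y hy, hβMl _ hxx _ hy', hβMl _ hxx _ hy, one_mul, one_mul]
    have h2 : ⁅(a : X), ⁅x, ⁅(a : X), y⁆⁆⁆ = ⁅⁅(a : X), x⁆, ⁅(a : X), y⁆⁆ := by
      rw [hδβ _ a.2 x hx _ hy', hβMr _ hyy _ hx', hβMr _ hyy _ hx, one_mul, mul_one]
    have h3 : ⁅(a : X), ⁅⁅(a : X), x⁆, ⁅(a : X), y⁆⁆⁆ = 1 := by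
      rw [hδβ _ a.2 _ hx' _ hy', hβMl _ hxx _ (hAU _ a.2 _ hy'), hβMl _ hxx _ hy',
        hβMr _ hyy _ hx', one_mul, one_mul]
    refine ⟨h1, ?_⟩
    have hc : ∀ {u v : X}, u ∈ U → v ∈ U → ⁅u, v⁆ ∈ C₂ := commutator_mem_commutator
    rw [hδβ _ a.2 x hx y hy, hδmul _ a.2 _ (C₂.mul_mem (hc hx' hy') (hc hx' hy)) _ (hc hx hy'),
      hδmul _ a.2 _ (hc hx' hy') _ (hc hx' hy), h1, h2, h3, one_mul, sq]
  have hgenW : ∀ a : H, (ρ a - 1) * (ρ a - 1) = 0 → ∀ c ∈ C₂, ⁅(a : X), c⁆ ∈ W₂ := by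
    intro a ha
    suffices hxy : ∀ x ∈ U, ∀ y ∈ U, ⁅(a : X), ⁅x, y⁆⁆ ∈ W₂ by
      let K : Subgroup X :=
        { carrier := {c | c ∈ C₂ ∧ ⁅(a : X), c⁆ ∈ W₂}
          one_mem' := ⟨C₂.one_mem, by simp⟩
          mul_mem' := fun {u v} hu hv => ⟨C₂.mul_mem hu.1 hv.1,
            (hδmul _ a.2 u hu.1 v hv.1).symm ▸ W₂.mul_mem hu.2 hv.2⟩
          inv_mem' := fun {u} hu => ⟨C₂.inv_mem hu.1,
            (hδinv _ a.2 u hu.1).symm ▸ W₂.inv_mem hu.2⟩ }
      have hle : C₂ ≤ K := commutator_le.mpr fun x hx y hy =>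
        ⟨commutator_mem_commutator hx hy, hxy x hx y hy⟩
      exact fun c hc => (hle hc).2
    let Rad : Subgroup X :=
      { carrier := {x | x ∈ U ∧ ∀ y ∈ U, ⁅(a : X), ⁅x, y⁆⁆ ∈ W₂}
        one_mem' := ⟨U.one_mem, fun y _ => by simp⟩
        mul_mem' := fun {u v} hu hv => ⟨U.mul_mem hu.1 hv.1, fun y hy => by
          rw [hβl u hu.1 v hv.1 y hy, hδmul _ a.2 _ (commutator_mem_commutator hu.1 hy) _
            (commutator_mem_commutator hv.1 hy)]
          exact W₂.mul_mem (hu.2 y hy) (hv.2 y hy)⟩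
        inv_mem' := fun {u} hu => ⟨U.inv_mem hu.1, fun y hy => by
          have h1 : ⁅u⁻¹, y⁆ = ⁅u, y⁆⁻¹ := by
            refine eq_inv_of_mul_eq_one_left ?_
            rw [← hβl _ (U.inv_mem hu.1) u hu.1 y hy, inv_mul_cancel, commutatorElement_one_left]
          rw [h1, hδinv _ a.2 _ (commutator_mem_commutator hu.1 hy)]
          exact W₂.inv_mem (hu.2 y hy)⟩ }
    have hRadN : H ≤ normalizer (Rad : Set X) := fun k hk => mem_normalizer_fintype (by
      rintro x ⟨hx, hrad⟩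
      refine ⟨hHU k hk x hx, fun y hy => ?_⟩
      have hy0 : k⁻¹ * y * k ∈ U := (mem_normalizer_iff''.mp (hUN hk) y).mp hy
      have hc : ⁅x, k⁻¹ * y * k⁆ ∈ C₂ := commutator_mem_commutator hx hy0
      have e : ⁅k * x * k⁻¹, y⁆ = ⁅k, ⁅x, k⁻¹ * y * k⁆⁆ * ⁅x, k⁻¹ * y * k⁆ := by
        simp only [commutatorElement_def]; group
      rw [e, hδmul _ a.2 _ (hW₁C (commutator_mem_commutator hk hc)) _ hc]
      exact W₂.mul_mem (commutator_mem_commutator a.2 (commutator_mem_commutator hk hc))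
        (hrad _ hy0))
    by_cases hRad : Rad = U
    · exact fun x hx y hy => (hRad.ge hx : x ∈ Rad).2 y hy
    have hRadM : Rad ≤ M := hmax Rad (fun x hx => hx.1) hRadN hRad
    have hA1 : ∀ x ∈ U, ⁅(a : X), x⁆ ∈ M := by
      intro x hx
      refine hRadM ⟨hAU _ a.2 x hx, fun y hy => ?_⟩
      rw [(hquad2 a ha x hx y hy).1]
      refine hsqrt _ (hcomM _ (hAU _ a.2 x hx) _ (hAU _ a.2 y hy)).1 _ ?_
      rw [← (hquad2 a ha x hx y hy).2]
      exact commutator_mem_commutator a.2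
        (commutator_mem_commutator a.2 (commutator_mem_commutator hx hy))
    intro x hx y hy
    rw [hδβ _ a.2 x hx y hy, hβMl _ (hA1 x hx) _ (hAU _ a.2 y hy), hβMl _ (hA1 x hx) _ hy,
      hβMr _ (hA1 y hy) _ hx]
    simp
  have hW12 : W₁ ≤ W₂ := by
    rw [hW₁, commutator_le]
    intro k hk
    rw [hH] at hk
    induction hk using Subgroup.closure_induction with
    | mem z hz =>
      rcases hz with rfl | rfl
      exacts [hgenW ⟨z, hgH⟩ (hquad _ hgq), hgenW ⟨g', hg'H⟩ (hquad _ hgq')]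
    | one => intro c _; simp
    | mul u v hu hv ihu ihv =>
      intro c hc
      rw [commutatorElement_mul_left_eq_conj_mul]
      exact W₂.mul_mem ((mem_normalizer_iff.mp (hW₂N (hH ▸ hu)) _).mp (ihv c hc)) (ihu c hc)
    | inv u hu ih =>
      intro c hc
      rw [show ⁅u⁻¹, c⁆ = u⁻¹ * ⁅u, c⁆⁻¹ * u by simp only [commutatorElement_def]; group]
      exact (mem_normalizer_iff''.mp (hW₂N (hH ▸ hu)) _).mp (W₂.inv_mem (ih c hc))
  have hW₁M : W₁ ≤ M := hW₁C.trans hC₂M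
  have hW1 : W₁ = ⊥ := by
    refine eq_bot_of_le_commutator_pGroup (hUp.to_le (hW₁M.trans inf_le_left)) hW₁N
      (fun k hk => ?_) hW12
    obtain ⟨a, ha⟩ := exists_pow_coprime (p := p) k
    exact ⟨a, mem_centralizer_iff.mpr fun w hw =>
      (mem_centralizer_iff.mp (hW₁M hw).2 _ ⟨H.pow_mem hk _, ha⟩).symm⟩
  have hfixC : ∀ k ∈ H, ∀ c ∈ C₂, k * c * k⁻¹ = c := by
    intro k hk c hc
    have h1 : ⁅k, c⁆ ∈ W₁ := commutator_mem_commutator hk hc
    rw [hW1, mem_bot, commutatorElement_def, mul_inv_eq_one] at h1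
    exact h1
  -- the subgroup generated by the elements inverted by `t`
  set I : Set X := {v | v ∈ U ∧ (t : X) * v * (t : X)⁻¹ = v⁻¹} with hI
  set U₀ : Subgroup X := Subgroup.closure I with hU₀
  have hU₀U : U₀ ≤ U := (Subgroup.closure_le _).mpr fun v hv => hv.1
  let H₁ : Subgroup H := (centralizer ({act t} : Set (MulAut U))).comap act
  have hH₁ : ∀ k : H, ∃ k' ∈ H₁, ρ k' = ρ k := fun k => by
    obtain ⟨k', h1, h2⟩ := lift k
    exact ⟨k', mem_comap.mpr (mem_centralizer_singleton_iff.mpr h2.eq), h1⟩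
  have hcomm : ∀ k ∈ H₁, ∀ v ∈ U,
      (k : X) * ((t : X) * v * (t : X)⁻¹) * (k : X)⁻¹ =
        (t : X) * ((k : X) * v * (k : X)⁻¹) * (t : X)⁻¹ := by
    intro k hk v hv
    have := congrArg (fun ψ : MulAut U => ((ψ ⟨v, hv⟩ : U) : X))
      (mem_centralizer_singleton_iff.mp (mem_comap.mp hk))
    simp only [MulAut.mul_apply, hact] at this
    exact this
  have hU₀N : ∀ k ∈ H₁, (k : X) ∈ normalizer (U₀ : Set X) := by
    intro k hk
    refine mem_normalizer_fintype fun v hv => ?_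
    induction hv using Subgroup.closure_induction with
    | mem v hv =>
      refine Subgroup.subset_closure ⟨hHU _ k.2 v hv.1, ?_⟩
      rw [← hcomm k hk v hv.1, hv.2]; group
    | one => simp
    | mul u v _ _ hu hv =>
      rw [show (k : X) * (u * v) * (k : X)⁻¹ = ((k : X) * u * (k : X)⁻¹) * ((k : X) * v * (k : X)⁻¹)
        by group]
      exact U₀.mul_mem hu hv
    | inv u _ hu =>
      rw [show (k : X) * u⁻¹ * (k : X)⁻¹ = ((k : X) * u * (k : X)⁻¹)⁻¹ by group]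
      exact U₀.inv_mem hu
  have hcover : ∀ v ∈ U, ∃ z ∈ M, v * z ∈ U₀ := by
    intro v hv
    obtain ⟨m, hm, hm'⟩ : ∃ m ∈ M, (t : X) * v * (t : X)⁻¹ = v⁻¹ * m := by
      refine ⟨v * ((t : X) * v * (t : X)⁻¹), ?_, by group⟩
      have h := DFunLike.congr_fun ht (Additive.ofMul ((⟨v, hv⟩ : U) : U ⧸ Mq))
      rw [hρ] at h
      have h2 : ((act t ⟨v, hv⟩ : U) : U ⧸ Mq) = (((⟨v, hv⟩ : U) : U ⧸ Mq))⁻¹ :=
        congrArg Additive.toMul h
      have h3 : (⟨v, hv⟩ : U) * act t ⟨v, hv⟩ ∈ Mq := by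
        rw [← QuotientGroup.eq_one_iff, QuotientGroup.mk_mul, h2, mul_inv_cancel]
      exact h3
    refine ⟨m ^ nU, M.pow_mem hm _, Subgroup.subset_closure
      ⟨U.mul_mem hv (U.pow_mem hm.1 _), ?_⟩⟩
    have hfix : (t : X) * m ^ nU * (t : X)⁻¹ = m ^ nU := by
      have h4 := congrArg Subtype.val (hfixM t htR (⟨m ^ nU, U.pow_mem hm.1 _⟩ : U)
        (M.pow_mem hm nU))
      exact h4
    rw [mul_inv_rev, show (t : X) * (v * m ^ nU) * (t : X)⁻¹ =
        ((t : X) * v * (t : X)⁻¹) * ((t : X) * m ^ nU * (t : X)⁻¹) by group, hfix, hm',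
      ← hMZ _ ((M.inv_mem (M.pow_mem hm nU))) _ (U.inv_mem hv) |>.symm, mul_assoc, ← pow_succ']
    congr 1
    refine eq_inv_of_mul_eq_one_left ?_
    rw [← pow_add, show nU + 1 + nU = 2 * nU + 1 by ring, pow_succ, hUpow m hm.1,
      inv_mul_cancel]
  -- `p`-stability on that subgroup
  have hU₀p : IsPGroup p U₀ := hUp.to_le hU₀U
  set NU := normalizer (U₀ : Set X)
  set CU := (centralizer (U₀ : Set X)).subgroupOf NU
  let ι : H₁ →* NU := (H.subtype.comp H₁.subtype).codRestrict NU fun k => hU₀N k k.2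
  let T : Subgroup H₁ := (Cfsg.pCore p (NU ⧸ CU)).comap ((QuotientGroup.mk' CU).comp ι)
  have hTn : T.Normal := (normal_of_characteristic _).comap _
  have hquadT : ∀ k : H₁, (ρ k - 1) * (ρ k - 1) = 0 → k ∈ T := by
    intro k hk
    let a : H := k
    have hq : ∀ v ∈ U₀, (a : X) * ⁅(a : X), v⁆ = ⁅(a : X), v⁆ * a := by
      have hdd : ∀ u ∈ U, ∀ v ∈ U, ⁅(a : X), ⁅(a : X), u * v⁆⁆ =
          ⁅(a : X), ⁅(a : X), u⁆⁆ * ⁅(a : X), ⁅(a : X), v⁆⁆ := by
        intro u hu v hv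
        have hu' := hAU _ a.2 u hu
        have hv' := hAU _ a.2 v hv
        have hbb : ⁅⁅(a : X), u⁆, ⁅(a : X), v⁆⁆ = 1 := by
          refine (mem_bot).mp (hsqrt _ (hcomM _ hu' _ hv').1 ⊥ ?_)
          rw [← (hquad2 a hk u hu v hv).2, mem_bot, commutatorElement_eq_one_iff_mul_comm]
          refine mul_inv_eq_iff_eq_mul.mp (hfixC _ a.2 _ ?_)
          exact hW₁C (commutator_mem_commutator a.2 (commutator_mem_commutator hu hv))
        have hc : ⁅u, ⁅(a : X), v⁆⁆ ∈ C₂ := commutator_mem_commutator hu hv'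
        have hcM : ⁅u, ⁅(a : X), v⁆⁆ ∈ M := hC₂M hc
        have e : ⁅(a : X), u * v⁆ = ⁅(a : X), u⁆ * ⁅(a : X), v⁆ * ⁅u, ⁅(a : X), v⁆⁆ := by
          rw [commutatorElement_mul_right_eq_mul_conj, mul_assoc ⁅(a : X), u⁆,
            mul_assoc ⁅(a : X), u⁆, mul_assoc ⁅(a : X), u⁆]
          congr 1
          rw [show u * ⁅(a : X), v⁆ * u⁻¹ = ⁅u, ⁅(a : X), v⁆⁆ * ⁅(a : X), v⁆ by
            simp only [commutatorElement_def]; group]
          exact hMZ _ hcM _ hv'
        have e2 : ∀ x ∈ U, ∀ y ∈ U, ⁅⁅(a : X), x⁆, y⁆ = 1 → ∀ c ∈ C₂,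
            ⁅(a : X), x * y * c⁆ = ⁅(a : X), x⁆ * (x * ⁅(a : X), y⁆ * x⁻¹) := by
          intro x hx y hy _ c hc'
          rw [commutatorElement_mul_right_eq_mul_conj, show ⁅(a : X), c⁆ = 1 by
            rw [commutatorElement_def, hfixC _ a.2 c hc', mul_inv_cancel],
            commutatorElement_mul_right_eq_mul_conj]
          group
        rw [e, e2 _ hu' _ hv' (by rw [hβMl _ (hA2 a hk u hu) _ hv']) _ hc]
        congr 1
        rw [← hMZ _ (hA2 a hk v hv) _ hu', mul_inv_cancel_right]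
      suffices hall : ∀ v ∈ U₀, ⁅(a : X), ⁅(a : X), v⁆⁆ = 1 from fun v hv =>
        commutatorElement_eq_one_iff_mul_comm.mp (hall v hv)
      intro v hv
      induction hv using Subgroup.closure_induction with
      | one => simp
      | mul u v hu hv ihu ihv => rw [hdd u (hU₀U hu) v (hU₀U hv), ihu, ihv, one_mul]
      | inv u hu ihu =>
        have := hdd _ (U.inv_mem (hU₀U hu)) u (hU₀U hu)
        rw [inv_mul_cancel, commutatorElement_one_right, commutatorElement_one_right, ihu,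
          mul_one] at this
        exact this.symm
      | mem v hv =>
        obtain ⟨hvU, htv⟩ := hv
        set w : X := ⁅(a : X), v⁆ with hw
        set e : X := ⁅(a : X), w⁆ with he
        have heM : e ∈ M := hA2 a hk v hvU
        have hwU : w ∈ U := hAU _ a.2 v hvU
        have hte : (t : X) * e * (t : X)⁻¹ = e :=
          congrArg Subtype.val (hfixM t htR (⟨e, heM.1⟩ : U) heM)
        have hav : (a : X) * v * (a : X)⁻¹ ∈ U := hHU _ a.2 v hvU
        -- `t` inverts `w` up to a commutator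
        have htw : (t : X) * w * (t : X)⁻¹ =
            ⁅((a : X) * v * (a : X)⁻¹)⁻¹, v⁆ * w⁻¹ := by
          have h1 : (t : X) * ((a : X) * v * (a : X)⁻¹) * (t : X)⁻¹ =
              ((a : X) * v * (a : X)⁻¹)⁻¹ := by
            rw [show (a : X) = ((k : H) : X) from rfl, ← hcomm k k.2 v hvU, htv]; group
          rw [show (t : X) * w * (t : X)⁻¹ = ((t : X) * ((a : X) * v * (a : X)⁻¹) * (t : X)⁻¹) *
            ((t : X) * v * (t : X)⁻¹)⁻¹ by simp only [hw, commutatorElement_def]; group, h1, htv]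
          simp only [hw, commutatorElement_def]; group
        set c : X := ⁅((a : X) * v * (a : X)⁻¹)⁻¹, v⁆ with hc
        have hcC : c ∈ C₂ := commutator_mem_commutator (U.inv_mem hav) hvU
        -- conjugate both sides by `a`
        have h2 := hcomm k k.2 w hwU
        rw [htw] at h2
        have h3 : (a : X) * (c * w⁻¹) * (a : X)⁻¹ = c * (e * w)⁻¹ := by
          rw [show (a : X) * (c * w⁻¹) * (a : X)⁻¹ =
            ((a : X) * c * (a : X)⁻¹) * ((a : X) * w * (a : X)⁻¹)⁻¹ by group, hfixC _ a.2 c hcC]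
          simp only [he, commutatorElement_def]; group
        have h4 : (t : X) * ((a : X) * w * (a : X)⁻¹) * (t : X)⁻¹ = e * (c * w⁻¹) := by
          rw [show (a : X) * w * (a : X)⁻¹ = e * w by
            simp only [he, commutatorElement_def]; group,
            show (t : X) * (e * w) * (t : X)⁻¹ =
              ((t : X) * e * (t : X)⁻¹) * ((t : X) * w * (t : X)⁻¹) by group, hte, htw]
        rw [show ((k : H) : X) = (a : X) from rfl, h3, h4, mul_inv_rev, ← mul_assoc c,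
          hMZ e heM (c * w⁻¹) (U.mul_mem (hC₂M hcC).1 (U.inv_mem hwU))] at h2
        have h5 : e⁻¹ = e := mul_left_cancel h2
        refine mem_bot.mp (hsqrt e heM.1 ⊥ ?_)
        rw [mem_bot, sq]
        nth_rewrite 1 [← h5]
        exact inv_mul_cancel e
    have haN : (a : X) ∈ normalizer (U₀ : Set X) := hU₀N k k.2
    refine hst U₀ hU₀p a haN ?_
    rw [CfsgLib.PLocal.quadratic_iff haN]
    intro v hv
    have hc : Commute (a : X) ⁅(a : X), v⁆ := hq v hv
    rw [← commutatorElement_inv]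
    exact hc.symm.inv_left
  let T' : Subgroup (AddMonoid.End V)ˣ := T.map (ρ.toHomUnits.comp H₁.subtype)
  have hT'p : IsPGroup p T' := by
    rintro ⟨_, h, hh, rfl⟩
    obtain ⟨a, ha⟩ := CfsgLib.PLocal.isPGroup_pCore p (NU ⧸ CU) ⟨_, hh⟩
    refine ⟨a, Subtype.ext ?_⟩
    show (ρ.toHomUnits (h : H)) ^ p ^ a = 1
    rw [← map_pow]
    apply Units.ext
    show ρ ((h : H) ^ p ^ a) = 1
    have h1 : (QuotientGroup.mk' CU) (ι (h ^ p ^ a)) = 1 := by
      rw [map_pow, map_pow]; exact congrArg Subtype.val ha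
    have h2 : (((h : H) ^ p ^ a : H) : X) ∈ centralizer (U₀ : Set X) :=
      (QuotientGroup.eq_one_iff (N := CU) _).mp h1
    refine AddMonoidHom.ext fun v => ?_
    obtain ⟨w, rfl⟩ := hVsurj v
    obtain ⟨z, hz, hwz⟩ := hcover w w.2
    let w' : U := ⟨(w : X) * z, U.mul_mem w.2 hz.1⟩
    have hww : (w : U ⧸ Mq) = (w' : U ⧸ Mq) := by
      rw [QuotientGroup.eq]
      show ((w : X))⁻¹ * ((w : X) * z) ∈ M
      rw [inv_mul_cancel_left]; exact hz
    rw [hww]
    refine (hρ _ w').trans ?_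
    show _ = Additive.ofMul (w' : U ⧸ Mq)
    congr 2
    exact Subtype.ext (by
      rw [hact, show (((h : H) ^ p ^ a : H) : X) * (w' : X) = (w' : X) * _ from
        (mem_centralizer_iff.mp h2 _ hwz).symm, mul_inv_cancel_right])
  obtain ⟨b, hb0, hb⟩ : ∃ b : V, b ≠ 0 ∧ ∀ s ∈ T', (s : AddMonoid.End V) b = b := by
    let actT : MulAction T' V :=
      { smul := fun s v => ((s : (AddMonoid.End V)ˣ) : AddMonoid.End V) v
        one_smul := fun v => rfl
        mul_smul := fun a b v => rfl }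
    have hdvd : p ∣ Nat.card V := by
      obtain ⟨v, hv⟩ := exists_ne (0 : V)
      have := addOrderOf_eq_prime (hVp v) hv
      exact this ▸ addOrderOf_dvd_natCard v
    obtain ⟨b, hb, hb0⟩ := hT'p.exists_fixed_point_of_prime_dvd_card_of_fixed_point V hdvd
      (a := (0 : V)) (fun s => map_zero ((s : (AddMonoid.End V)ˣ) : AddMonoid.End V))
    exact ⟨b, hb0.symm, fun s hs => hb ⟨s, hs⟩⟩
  let W : AddSubgroup V :=
    { carrier := {v | ∀ h ∈ T, ρ (h : H) v = v}
      zero_mem' := fun h _ => map_zero _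
      add_mem' := fun {a c} ha hc h hh => by rw [map_add, ha h hh, hc h hh]
      neg_mem' := fun {a} ha h hh => by rw [map_neg, ha h hh] }
  rcases hirr W (fun h₀ w hw k hk => by
      obtain ⟨h', hh', e⟩ := hH₁ h₀
      rw [← e]
      let h : H₁ := ⟨h', hh'⟩
      have h1 := hw _ (hTn.conj_mem k hk h⁻¹)
      calc ρ k (ρ h' w) = ρ ((k : H) * h') w := by rw [map_mul]; rfl
        _ = ρ h' (ρ ((h⁻¹ * k * h⁻¹⁻¹ : H₁) : H) w) := by
          rw [show (k : H) * h' = h' * ((h⁻¹ * k * h⁻¹⁻¹ : H₁) : H) by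
            simp only [h, Subgroup.coe_mul, Subgroup.coe_inv]; group, map_mul]; rfl
        _ = ρ h' w := by rw [h1]) with hW | hW
  · exact hb0 ((AddSubgroup.mem_bot).mp (hW ▸ fun h hh => hb _ (mem_map_of_mem _ hh) : b ∈ (⊥ : AddSubgroup V)))
  · have hfixall : ∀ a : H, (ρ a - 1) * (ρ a - 1) = 0 → ρ a = 1 := by
      intro a ha
      obtain ⟨a', ha', e⟩ := hH₁ a
      rw [← e] at ha ⊢
      exact AddMonoidHom.ext fun v =>
        (show v ∈ W from hW ▸ AddSubgroup.mem_top v) ⟨a', ha'⟩ (hquadT ⟨a', ha'⟩ ha)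
    rcases hnt with h | h
    · exact h (hfixall _ (hquad _ hgq))
    · exact h (hfixall _ (hquad _ hgq'))

/-- The case `p ≥ 5`. -/
theorem mem_pCore_of_quadratic_mod (hp3 : 3 < p) (hst : Cfsg.IsNormalizerPStable p X)
    {Q P : Subgroup X} [Q.Normal] (hP : IsPGroup p P)
    (hQ : ∀ k : X, (orderOf k).Coprime p → ∀ q ∈ Q, k * q = q * k)
    {g : X} (hg : g ∈ normalizer (P : Set X)) (hgq : ∀ w ∈ P, ⁅⁅w, g⁆, g⁆ ∈ Q) :
    (QuotientGroup.mk ⟨g, hg⟩ : ↥(normalizer (P : Set X)) ⧸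
        (centralizer (P : Set X)).subgroupOf (normalizer (P : Set X))) ∈
      Cfsg.pCore p (↥(normalizer (P : Set X)) ⧸
        (centralizer (P : Set X)).subgroupOf (normalizer (P : Set X))) :=
  mem_pCore_of_quadratic_mod' (by omega) hst hP hQ hg hgq

end CfsgLib.Techniques
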