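import Cfsg.Agent.PLocal.PStability
import Cfsg.Agent.Techniques.StableFusion

/-!
# Groups whose automizers of `p`-subgroups have no section `SL(2, p)`

The class is closed under subgroups and quotients, is quadratically stable, and `N(Z(J(S)))` controls
strong fusion in it (`p` odd).
-/

set_option autoImplicit false

universe u

namespace CfsgLib.Techniques

open Cfsg Subgroup CfsgLib.ConjFunctor CfsgLib.PLocal
open scoped commutatorElement MatrixGroups IsMulCommutative Pointwise

variable {p : ℕ} [hp : Fact p.Prime]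

/-- No `N(Q)/C(Q)`, `Q` a `p`-subgroup, has a section isomorphic to `SL(2, p)`. -/
def SLFree (p : ℕ) (X : Type*) [Group X] : Prop :=
  ∀ Q : Subgroup X, IsPGroup p Q → ∀ H : Subgroup X, H ≤ normalizer (Q : Set X) →
    ∀ θ : H →* SL(2, ZMod p),
      (∀ h : H, (h : X) ∈ centralizer (Q : Set X) → θ h = 1) → ¬ Function.Surjective θ

omit hp in
theorem slFree_subgroup {X : Type*} [Group X] (hX : SLFree p X) (L : Subgroup X) : SLFree p L := by
  intro Q hQ H hH θ hθ hsurj
  let e := (H.equivMapOfInjective L.subtype L.subtype_injective).symm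
  refine hX (Q.map L.subtype) (hQ.map _) (H.map L.subtype)
    ((map_mono hH).trans (le_normalizer_map L.subtype)) (θ.comp e.toMonoidHom) (fun h hh => ?_)
    (hsurj.comp e.surjective)
  have he : L.subtype (e h : L) = (h : X) :=
    congrArg Subtype.val ((H.equivMapOfInjective L.subtype L.subtype_injective).apply_symm_apply h)
  refine hθ _ (mem_centralizer_iff.mpr fun q hq => ?_)
  refine L.subtype_injective ?_
  show L.subtype (q * (e h : L)) = L.subtype ((e h : L) * q)
  rw [map_mul, map_mul, he]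
  exact mem_centralizer_iff.mp hh _ (mem_map_of_mem _ hq)

theorem slFree_of_surjective {X Y : Type*} [Group X] [Finite X] [Group Y] (π : X →* Y)
    (hπ : Function.Surjective π) (hX : SLFree p X) : SLFree p Y := by
  intro Qb hQb Hb hHb θ hθ hsurj
  set P := Qb.comap π with hP
  let S : Sylow p P := default
  set Q := (S : Subgroup P).map P.subtype with hQ
  have hQP : Q ≤ P := map_subtype_le _
  have hmap : Q.map π = Qb := by
    haveI : Finite Y := Finite.of_surjective π hπ
    have hle : Q.map π ≤ Qb := map_le_iff_le_comap.mpr hQP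
    let g : P →* Qb := (π.comp P.subtype).codRestrict Qb fun x => x.2
    have hg : Function.Surjective g := by
      rintro ⟨y, hy⟩
      obtain ⟨x, rfl⟩ := hπ y
      exact ⟨⟨x, hy⟩, rfl⟩
    have htop : (S : Subgroup P).map g = ⊤ := by
      have h1 : ¬ p ∣ ((S : Subgroup P).map g).index := fun h =>
        S.not_dvd_index (h.trans (index_map_dvd _ hg))
      rw [← index_eq_one]
      obtain ⟨k, hk⟩ := IsPGroup.iff_card.mp hQb
      obtain ⟨i, -, hi⟩ := (Nat.dvd_prime_pow hp.out).mp
        (hk ▸ ((S : Subgroup P).map g).index_dvd_card)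
      rcases i with _ | i
      · simpa using hi
      · exact absurd (hi ▸ dvd_pow_self p (Nat.succ_ne_zero i)) h1
    refine le_antisymm hle fun y hy => ?_
    obtain ⟨x, hx, hxy⟩ := htop.ge (mem_top (⟨y, hy⟩ : Qb))
    exact ⟨x, mem_map_of_mem _ hx, congrArg Subtype.val hxy⟩
  -- `N(Q)` covers `N(Qb)`
  have hcov : ∀ y ∈ normalizer (Qb : Set Y), ∃ x ∈ normalizer (Q : Set X), π x = y := by
    intro y hy
    obtain ⟨x, rfl⟩ := hπ y
    have hxP : x ∈ normalizer (P : Set X) := le_normalizer_comap π hy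
    have hQS : IsSylowIn p Q P := by
      refine ⟨hQP, S.isPGroup'.map _, ?_⟩
      rw [hQ, relIndex, subgroupOf, comap_map_eq_self_of_injective P.subtype_injective]
      exact S.not_dvd_index
    have hx : IsSylowIn p (x *• Q) P := by
      have := hQS.cj x
      rwa [cj_eq_of_mem_normalizer hxP] at this
    obtain ⟨m, hm, hmQ⟩ := hQS.exists_cj_eq hx
    rw [cj_cj] at hmQ
    have hm' : π m ∈ Qb := hm
    obtain ⟨q, hq, hqm⟩ := hmap.ge hm'
    refine ⟨q⁻¹ * (m * x), mul_mem (inv_mem (le_normalizer hq)) (mem_normalizer_of_cj_le hmQ.le), ?_⟩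
    rw [map_mul, map_inv, map_mul, hqm, inv_mul_cancel_left]
  set H := normalizer (Q : Set X) ⊓ Hb.comap π with hH
  let ψ : H →* Hb := (π.comp H.subtype).codRestrict Hb fun x => x.2.2
  have hψ : Function.Surjective ψ := by
    rintro ⟨y, hy⟩
    obtain ⟨x, hx, rfl⟩ := hcov y (hHb hy)
    exact ⟨⟨x, hx, hy⟩, rfl⟩
  refine hX Q (S.isPGroup'.map _) H inf_le_left (θ.comp ψ) (fun h hh => hθ _ ?_) (hsurj.comp hψ)
  rw [mem_centralizer_iff]
  intro y hy
  obtain ⟨q, hq, rfl⟩ := hmap.ge hy
  show π q * π h = π h * π q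
  rw [← map_mul, ← map_mul, mem_centralizer_iff.mp hh q hq]

omit hp in
/-- The form of the hypothesis used in the statements. -/
theorem slFree_of_no_quotient {X : Type*} [Group X]
    (h : ∀ Q : Subgroup X, IsPGroup p ↥Q → ¬ ∃ (H K : Subgroup X) (_ : (K.subgroupOf H).Normal),
      centralizer (Q : Set X) ≤ K ∧ K ≤ H ∧ H ≤ normalizer (Q : Set X) ∧
      Nonempty ((↥H ⧸ K.subgroupOf H) ≃* SL(2, ZMod p))) : SLFree p X := by
  intro Q hQ H hH θ hθ hsurj
  set C := centralizer (Q : Set X) with hC
  have hCN : normalizer (Q : Set X) ≤ normalizer (C : Set X) :=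
    (normal_subgroupOf_iff_le_normalizer (centralizer_le_normalizer _)).mp
      (normal_subgroupOf_centralizer_normalizer (Q : Set X))
  set H' := H ⊔ C with hH'
  set K' := θ.ker.map H.subtype ⊔ C with hK'
  have hKH : θ.ker.map H.subtype ≤ H := map_subtype_le _
  have hdec : ∀ x ∈ K', ∃ k : H, θ k = 1 ∧ ∃ c ∈ C, (k : X) * c = x := by
    intro x hx
    rw [hK', ← SetLike.mem_coe, coe_mul_of_left_le_normalizer_right _ C (hKH.trans (hH.trans hCN))] at hx
    obtain ⟨_, ⟨k, hk, rfl⟩, c, hc, rfl⟩ := hx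
    exact ⟨k, hk, c, hc, rfl⟩
  have hn : (K'.subgroupOf H').Normal := by
    refine (normal_subgroupOf_iff_le_normalizer (sup_le_sup_right hKH _)).mpr (sup_le ?_ ?_)
    · refine le_trans ?_ (normalizer_inf_normalizer_le_normalizer_sup _ _)
      refine le_inf ?_ (hH.trans hCN)
      exact (le_of_eq (by rw [← MonoidHom.range_eq_map, range_subtype])).trans
        ((map_mono (normalizer_eq_top θ.ker).ge).trans (le_normalizer_map H.subtype))
    · exact le_sup_right.trans le_normalizer
  refine h Q hQ ⟨H', K', hn, le_sup_right, sup_le_sup_right hKH _,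
    sup_le hH (centralizer_le_normalizer _), ?_⟩
  let φ : H →* H' ⧸ K'.subgroupOf H' :=
    (QuotientGroup.mk' _).comp (Subgroup.inclusion (le_sup_left : H ≤ H'))
  have hφs : Function.Surjective φ := by
    intro z
    obtain ⟨⟨z, hz⟩, rfl⟩ := QuotientGroup.mk'_surjective _ z
    obtain ⟨a, ha, c, hc, rfl⟩ : z ∈ (H : Set X) * (C : Set X) := by
      rw [← coe_mul_of_left_le_normalizer_right H C (hH.trans hCN)]
      exact hz
    refine ⟨⟨a, ha⟩, (QuotientGroup.eq).mpr (mem_subgroupOf.mpr ?_)⟩
    simpa [Subgroup.coe_inclusion] using mem_sup_right (S := θ.ker.map H.subtype) hc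
  have hker : φ.ker = θ.ker := by
    ext x
    rw [MonoidHom.mem_ker]
    constructor
    · intro hx
      obtain ⟨k, hk, c, hc, hkc⟩ :=
        hdec x (mem_subgroupOf.mp ((QuotientGroup.eq_one_iff (N := K'.subgroupOf H') _).mp hx))
      have : θ (k⁻¹ * x) = 1 := hθ _ (by
        have : ((k⁻¹ * x : H) : X) = c := by simp [← hkc]
        rw [this]; exact hc)
      rwa [map_mul, map_inv, hk, inv_one, one_mul] at this
    · intro hx
      exact (QuotientGroup.eq_one_iff _).mpr (mem_subgroupOf.mpr (mem_sup_left ⟨x, hx, rfl⟩))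
  exact ⟨(QuotientGroup.quotientKerEquivOfSurjective φ hφs).symm.trans
    ((QuotientGroup.quotientMulEquivOfEq hker).trans
      (QuotientGroup.quotientKerEquivOfSurjective θ hsurj))⟩

/-- Two quadratic elements generating, modulo the centralizer, a group that is not a `p`-group have a section
`SL(2, p)` on which the centralizer acts trivially. -/
theorem exists_sl2_hom_of_quadratic_pair {X : Type*} [Group X] [Finite X] (hp2 : p ≠ 2)
    {V : Subgroup X} (hV : IsElementaryAbelian p V) {a b : X} (ha : a ∈ normalizer (V : Set X))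
    (hb : b ∈ normalizer (V : Set X))
    (hqa : ⁅⁅V, Subgroup.zpowers a⁆, Subgroup.zpowers a⁆ = ⊥)
    (hqb : ⁅⁅V, Subgroup.zpowers b⁆, Subgroup.zpowers b⁆ = ⊥)
    (hnp : ∃ g ∈ Subgroup.closure ({a, b} : Set X), ∀ k : ℕ, g ^ p ^ k ∉ centralizer (V : Set X)) :
    ∃ (H : Subgroup X) (θ : H →* SL(2, ZMod p)), H ≤ normalizer (V : Set X) ∧
      (∀ h : H, (h : X) ∈ centralizer (V : Set X) → θ h = 1) ∧ Function.Surjective θ := by
  haveI := hV.1
  set Y := Subgroup.closure ({a, b} : Set X) with hY
  have hYN : Y ≤ normalizer (V : Set X) := (closure_le _).mpr (by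
    rintro x (rfl | rfl) <;> assumption)
  let a' : Y := ⟨a, subset_closure (Or.inl rfl)⟩
  let b' : Y := ⟨b, subset_closure (Or.inr rfl)⟩
  have hgen : Subgroup.closure ({a', b'} : Set Y) = ⊤ := by
    apply map_injective Y.subtype_injective
    rw [MonoidHom.map_closure, ← MonoidHom.range_eq_map, range_subtype]
    simp [hY, a', b', Set.image_insert_eq, Set.image_singleton]
  let ρ : Y →* AddMonoid.End (Additive V) := (normEnd V).comp (inclusion hYN)
  have hexp : ∀ v : Additive V, p • v = 0 := fun v =>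
    Additive.toMul.injective (show v.toMul ^ p = 1 from Subtype.ext (by simpa using hV.2 _ v.toMul.2))
  obtain ⟨φ, hφ, hta, htb, hnc⟩ := exists_hom_of_quadratic_pair hexp ρ hgen
    (normEnd_sub_one_sq V (g := ⟨a, ha⟩) hqa) (normEnd_sub_one_sq V (g := ⟨b, hb⟩) hqb) (by
      obtain ⟨g, hg, hgk⟩ := hnp
      exact ⟨⟨g, hg⟩, fun k h => hgk k (by simpa [ρ] using (normEnd_eq_one_iff V).mp h)⟩)
  haveI : CharP (AlgebraicClosure (ZMod p)) p :=
    charP_of_injective_algebraMap (algebraMap (ZMod p) _).injective p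
  haveI : Finite φ.range := Finite.of_surjective φ.rangeRestrict φ.rangeRestrict_surjective
  obtain ⟨f, hf, hfr⟩ := SL2.exists_sl2_zmod_hom hp2 φ.range ⟨a', rfl⟩ ⟨b', rfl⟩ hta htb hnc
  let K₀ : Subgroup Y := f.range.comap φ
  let θ : K₀ →* f.range := (φ.comp K₀.subtype).codRestrict f.range fun x => x.2
  have hθ : Function.Surjective θ := by
    rintro ⟨y, hy⟩
    obtain ⟨x, rfl⟩ := hfr hy
    exact ⟨⟨x, hy⟩, rfl⟩
  let ι := (K₀.equivMapOfInjective Y.subtype Y.subtype_injective).symm
  refine ⟨K₀.map Y.subtype, ((MonoidHom.ofInjective hf).symm.toMonoidHom.comp θ).comp ι.toMonoidHom,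
    (map_subtype_le _).trans hYN, fun h hh => ?_,
    ((MonoidHom.ofInjective hf).symm.surjective.comp hθ).comp ι.surjective⟩
  have he : ((ι h : Y) : X) = (h : X) :=
    congrArg Subtype.val ((K₀.equivMapOfInjective Y.subtype Y.subtype_injective).apply_symm_apply h)
  have h1 : φ (ι h : Y) = 1 := hφ _ ((normEnd_eq_one_iff V).mpr (by
    show ((ι h : Y) : X) ∈ _
    rw [he]; exact hh))
  have h2 : θ (ι h) = 1 := Subtype.ext h1
  show (MonoidHom.ofInjective hf).symm (θ (ι h)) = 1
  rw [h2, map_one]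

variable {X : Type*} [Group X] [Finite X]

/-- A quadratic element on a normal elementary abelian subgroup lies in a normal subgroup whose `p'`-elements
centralise it. -/
theorem exists_normal_of_slFree (hp2 : p ≠ 2) (hX : SLFree p X) {V : Subgroup X} [V.Normal]
    (hV : IsElementaryAbelian p V) (hVp : IsPGroup p V) {a : X}
    (hq : ⁅⁅V, Subgroup.zpowers a⁆, Subgroup.zpowers a⁆ = ⊥) :
    ∃ D : Subgroup X, D.Normal ∧ a ∈ D ∧
      ∀ y ∈ D, (orderOf y).Coprime p → y ∈ centralizer (V : Set X) := by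
  have hN : ∀ x : X, x ∈ normalizer (V : Set X) := fun x => by
    rw [normalizer_eq_top V]; exact mem_top x
  set π := QuotientGroup.mk' (centralizer (V : Set X)) with hπ
  obtain ⟨N, hNn, hNp, haN⟩ := CfsgLib.Small.baerSuzuki_elem (p := p) (π a) (by
    intro q
    obtain ⟨g, rfl⟩ := QuotientGroup.mk'_surjective (centralizer (V : Set X)) q
    by_contra hnot
    have hqb : ⁅⁅V, Subgroup.zpowers (g * a * g⁻¹)⁆, Subgroup.zpowers (g * a * g⁻¹)⁆ = ⊥ := by
      have h1 := congrArg (Subgroup.map (MulAut.conj g).toMonoidHom) hq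
      rw [map_commutator, map_commutator, MonoidHom.map_zpowers, Subgroup.map_bot,
        show V.map (MulAut.conj g).toMonoidHom = V from mem_normalizer_iff_map_conj_eq.mp (hN g)] at h1
      exact h1
    obtain ⟨H, θ, hH, hker, hsurj⟩ := exists_sl2_hom_of_quadratic_pair hp2 hV (hN a) (hN _) hq hqb (by
      by_contra hall
      push Not at hall
      apply hnot
      rw [← map_inv, ← map_mul, ← map_mul, ← Set.image_pair, ← MonoidHom.map_closure]
      rintro ⟨_, x, hx, rfl⟩
      obtain ⟨k, hk⟩ := hall _ hx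
      exact ⟨k, Subtype.ext (by
        rw [SubmonoidClass.coe_pow, Subgroup.coe_one, ← map_pow]
        exact (QuotientGroup.eq_one_iff _).mpr hk)⟩)
    exact hX V hVp H hH θ hker hsurj)
  refine ⟨N.comap π, hNn.comap π, haN, fun y hy hco => ?_⟩
  obtain ⟨j, hj⟩ := IsPGroup.iff_card.mp hNp
  have h1 : orderOf (π y) ∣ p ^ j := hj ▸ Subgroup.orderOf_mk (π y) hy ▸
    orderOf_dvd_natCard (⟨π y, hy⟩ : N)
  exact (QuotientGroup.eq_one_iff y).mp (orderOf_eq_one_iff.mp
    (Nat.eq_one_of_dvd_coprimes (hco.pow_right j) (orderOf_map_dvd π y) h1))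

theorem quadraticStable_of_slFree (hp2 : p ≠ 2) (hX : SLFree p X) :
    CfsgLib.OddOrder.ZJ.QuadraticStable p X := by
  intro B _ hB a ha
  set Φ : Subgroup X := (frattini B).map B.subtype with hΦ
  haveI : Φ.Normal := normal_map_subtype B (frattini ↥B)
  set π := QuotientGroup.mk' Φ with hπ
  haveI : (B.map π).Normal := Subgroup.Normal.map inferInstance _ (QuotientGroup.mk'_surjective _)
  have hq : ⁅⁅B, Subgroup.zpowers a⁆, Subgroup.zpowers a⁆ = ⊥ :=
    (quadratic_iff (by rw [normalizer_eq_top B]; exact mem_top a)).mpr ha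
  obtain ⟨D, hD, haD, hDc⟩ := exists_normal_of_slFree hp2
    (slFree_of_surjective π (QuotientGroup.mk'_surjective _) hX) (isElementaryAbelian_map_frattini hB)
    (hB.map π) (a := π a) (by
      rw [← MonoidHom.map_zpowers, ← map_commutator, ← map_commutator, hq, Subgroup.map_bot])
  set τ := QuotientGroup.mk' (centralizer (B : Set X))
  haveI : ((D.comap π).map τ).Normal := (hD.comap π).map _ (QuotientGroup.mk'_surjective _)
  refine CfsgLib.PLocal.le_pCore (N := (D.comap π).map τ) ?_ (mem_map_of_mem τ haD)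
  rintro ⟨_, e, he, rfl⟩
  obtain ⟨k, hk⟩ := exists_pow_coprime (p := p) e
  refine ⟨k, Subtype.ext ?_⟩
  rw [SubmonoidClass.coe_pow, Subgroup.coe_one, ← map_pow]
  refine (QuotientGroup.eq_one_iff _).mpr ?_
  have hc := hDc (π (e ^ p ^ k)) (by rw [map_pow]; exact pow_mem he _)
    (hk.coprime_dvd_left (orderOf_map_dvd π _))
  refine CfsgLib.Coprime.le_centralizer_of_commutator_le_frattini
    (A := Subgroup.zpowers (e ^ p ^ k)) (le_top.trans (normalizer_eq_top B).ge) ?_ ?_ (mem_zpowers _)
  · obtain ⟨n, hn⟩ := IsPGroup.iff_card.mp (hB.to_subgroup (frattini B))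
    rw [Nat.card_zpowers, hn]
    exact hk.pow_right n
  · rw [← hΦ, ← QuotientGroup.ker_mk' Φ, ← Subgroup.map_eq_bot_iff, map_commutator,
      commutator_eq_bot_iff_le_centralizer, le_centralizer_iff, MonoidHom.map_zpowers, zpowers_le]
    exact hc

/-- `N(Z(J(S)))` controls strong fusion in an `SL(2, p)`-free group, `p` odd. -/
theorem slFree_controls (hp2 : p ≠ 2) : ∀ (X : Type u) [Group X] [Finite X],
    SLFree p X → FamilyControlsStrongFusionIn p (indFam {@zjFun} X) ⊤ := by
  suffices H : ∀ (n : ℕ) (X : Type u) [Group X] [Finite X], Nat.card X = n → SLFree p X →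
      FamilyControlsStrongFusionIn p (indFam {@zjFun} X) ⊤ from fun X _ _ h => H _ X rfl h
  intro n
  induction n using Nat.strongRecOn with
  | ind n ih =>
  intro X _ _ hX hfree
  have h𝓦 : ∀ W ∈ ({@zjFun} : Set (∀ (Q : Type u) [Group Q], Subgroup Q)),
      IsCharPFunctor.{u} p W := by
    intro W hW
    rw [Set.mem_singleton_iff] at hW
    subst hW
    exact isCharPFunctor_zjFun
  refine familyFusion_step h𝓦 (fun L hL => ih _ ?_ L rfl (slFree_subgroup hfree L))
    (fun N _ hN => ih _ ?_ (X ⧸ N) rfl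
      (slFree_of_surjective _ (QuotientGroup.mk'_surjective N) hfree)) fun hc => ?_
  · have h1 := L.card_mul_index
    have h2 : L.index ≠ 1 := fun h => hL (index_eq_one.mp h)
    have h3 : 0 < Nat.card L := Nat.card_pos
    have h4 : L.index ≠ 0 := FiniteIndex.index_ne_zero
    nlinarith [Nat.one_lt_iff_ne_zero_and_ne_one.mpr ⟨h4, h2⟩]
  · have h1 := N.card_mul_index
    have h2 : Nat.card N ≠ 1 := fun h => hN (card_eq_one.mp h)
    have h3 : 0 < Nat.card N := Nat.card_pos
    have h4 : N.index ≠ 0 := FiniteIndex.index_ne_zero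
    show N.index < n
    nlinarith [show 1 < Nat.card N by omega, Nat.pos_of_ne_zero h4]
  · obtain ⟨S, -, hS⟩ := exists_isSylowIn_ge (A := (⊥ : Subgroup X)) (H := ⊤) (p := p) bot_le IsPGroup.of_bot
    refine familyControlsStrongFusionIn_iff.mpr ⟨S, hS, ?_⟩
    intro A g _ hA hgA
    have hn := CfsgLib.OddOrder.ZJ.centerThompsonAOf_normal hp2
      (quadraticStable_of_slFree hp2 hfree) hc hS.toSylowTop
    refine Fus.single hA (show (⊤ : Subgroup X) ⊓
      Subgroup.normalizer (inducedFunctor (G := X) @zjFun S : Set X) ∈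
        famIn (indFam {@zjFun} X) ⊤ S from ⟨_, ⟨_, rfl, rfl⟩, rfl⟩) ?_ (cjSet_subset_iff.mp hgA)
    rw [inducedFunctor_zjFun, top_inf_eq,
      show centerThompsonAOf S = centerThompsonAOf (hS.toSylowTop : Subgroup X) from rfl,
      normalizer_eq_top_iff.mpr hn]
    exact mem_top g

/-- The single normaliser form. -/
theorem slFree_fusControls {X : Type u} [Group X] [Finite X] (hp2 : p ≠ 2) (hX : SLFree p X)
    {S : Subgroup X} (hS : IsSylowIn p S ⊤) :
    FusControls {normalizer (centerThompsonAOf S : Set X)} S ⊤ := by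
  have h𝓦 : ∀ W ∈ ({@zjFun} : Set (∀ (Q : Type u) [Group Q], Subgroup Q)),
      IsCharPFunctor.{u} p W := by
    intro W hW
    rw [Set.mem_singleton_iff] at hW
    subst hW
    exact isCharPFunctor_zjFun
  have hc := fusControls_of_family (isConjugacyFunctor_induced_image h𝓦)
    (slFree_controls hp2 X hX) hS
  simp only [Set.image_singleton, famIn_singleton, inducedFunctor_zjFun, top_inf_eq] at hc
  exact hc

end CfsgLib.Techniques
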